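import Cfsg.Agent.Mrg.Omega.FF.GlobFam
import Cfsg.Agent.Omega.NatPair.Of
import Cfsg.Agent.LieRecognition.FieldSemilinear

section


/-!
# The FF-theorem, global part (F), (G): `H = (L₁ × ... × L_r) T`

`LL D Q`: the group generated by `Θ`.  For `q > 2` the groups belonging to two members of `D` in `T` commute.
-/

set_option autoImplicit false
set_option linter.unusedSectionVars false

namespace Cfsg.Agent.Omega.FF.Glob

open Subgroup Cfsg.Agent.ClassTwoFusion.Quad Cfsg.Agent.LieClassical Matrix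
open scoped Pointwise

variable {H V : Type*} [Group H] [Group V] [MulDistribMulAction H V]

theorem cj_inv_eq {k : H} {A : Subgroup H} (h : cj k A = A) : cj k⁻¹ A = A := by
  have h1 := congrArg (cj k⁻¹) h
  rw [cj_inv_cj] at h1
  exact h1.symm

/-- the group generated by `Θ` -/
def LL (D : Set (Subgroup H)) (Q : Subgroup H) : Subgroup H := sSup {E | Th D Q E}

theorem le_LL {D : Set (Subgroup H)} {Q A : Subgroup H} (hA : Th D Q A) : A ≤ LL D Q :=
  le_sSup (show A ∈ {E | Th D Q E} from hA)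

namespace NatAt

variable {A B : Subgroup H} {F : Type} [Field F] {π : V → (Fin 2 → F)}
  {φ : ↥(A ⊔ B) →* Matrix.SpecialLinearGroup (Fin 2) F} (h : NatAt A B π φ)
include h

/-- the torus -/
theorem exists_torus [Finite F] (hF : 2 < Nat.card F) :
    ∃ k ∈ A ⊔ B, cj k A = A ∧ k ^ (Nat.card F - 1) = 1 ∧ ∀ v : V, k • v = v → ∀ x ∈ A ⊔ B, x • v = v := by
  classical
  have := Fintype.ofFinite F
  obtain ⟨c, hc0, hc1⟩ : ∃ c : F, c ≠ 0 ∧ c ≠ 1 := by
    by_contra hcon
    push Not at hcon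
    have h1 : (Finset.univ : Finset F) ⊆ {0, 1} := by
      intro x _
      by_cases hx : x = 0
      · simp [hx]
      · simp [hcon x hx]
    have h2 := Finset.card_le_card h1
    rw [Finset.card_univ, ← Nat.card_eq_fintype_card] at h2
    have h3 : ({0, 1} : Finset F).card ≤ 2 := Finset.card_le_two
    omega
  obtain ⟨x, hx⟩ := h.bij.2 (⟨!![c, 0; 0, c⁻¹], by rw [det_fin_two_of]; field_simp; ring⟩ : SpecialLinearGroup (Fin 2) F)
  have hact : ∀ w : Fin 2 → F, (φ x).1.mulVec w = ![c * w 0, c⁻¹ * w 1] := by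
    intro w
    rw [hx]
    show (!![c, 0; 0, c⁻¹] : Matrix (Fin 2) (Fin 2) F).mulVec w = _
    ext i; fin_cases i <;> simp [Matrix.mulVec, dotProduct, Fin.sum_univ_two]
  refine ⟨x, x.2, ?_, ?_, ?_⟩
  · have he0 : (φ ⟨(x : H), x.2⟩).1.mulVec ![1, 0] = c • ![1, 0] := by
      rw [hact]
      ext i; fin_cases i <;> simp
    have hscal : ∀ (N : SpecialLinearGroup (Fin 2) F) (w : Fin 2 → F),
        (N.1.mulVec (c • w) = c • w ↔ N.1.mulVec w = w) := by
      intro N w
      rw [Matrix.mulVec_smul]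
      exact (smul_right_injective _ hc0).eq_iff
    have hle : cj (x : H) A ≤ A ⊔ B := by
      have h2 : cj (x : H) (A ⊔ B) = A ⊔ B := cj_eq_of_mem x.2
      exact (cj_mono le_sup_left).trans h2.le
    ext y
    constructor
    · intro hy
      have hy' := hle hy
      rw [h.cj_mem x.2 hy', he0, hscal] at hy
      exact (h.memA_iff ⟨y, hy'⟩).2 hy
    · intro hy
      rw [h.cj_mem x.2 (mem_sup_left hy), he0, hscal]
      exact (h.memA_iff ⟨y, _⟩).1 hy
  · have h1 : ∀ n : ℕ, (φ x ^ n).1 = !![c ^ n, 0; 0, (c⁻¹) ^ n] := by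
      intro n
      induction n with
      | zero =>
        show (1 : Matrix (Fin 2) (Fin 2) F) = _
        simp [Matrix.one_fin_two]
      | succ n ih =>
        rw [pow_succ]
        show (φ x ^ n).1 * (φ x).1 = _
        rw [ih, hx]
        show _ * (!![c, 0; 0, c⁻¹] : Matrix (Fin 2) (Fin 2) F) = _
        rw [Matrix.mul_fin_two]
        simp [pow_succ]
    have h2 : c ^ (Nat.card F - 1) = 1 := by
      rw [Nat.card_eq_fintype_card]
      exact FiniteField.pow_card_sub_one_eq_one c hc0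
    have h3 : φ (x ^ (Nat.card F - 1)) = 1 := by
      rw [map_pow]
      apply Subtype.ext
      rw [h1, inv_pow, h2, inv_one]
      exact Matrix.one_fin_two.symm
    have h4 : x ^ (Nat.card F - 1) = 1 := h.bij.1 (h3.trans (map_one φ).symm)
    exact congrArg Subtype.val h4
  · intro v hv
    apply (h.ker v).1
    have h1 := h.act x v
    rw [hv, hact] at h1
    have e0 := congrFun h1 0
    have e1 := congrFun h1 1
    simp only [cons_val_zero, cons_val_one] at e0 e1
    ext i
    fin_cases i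
    · have : (c - 1) * π v 0 = 0 := by linear_combination -e0
      exact (mul_eq_zero.1 this).resolve_left (sub_ne_zero.2 hc1)
    · have h5 : c⁻¹ ≠ 1 := by
        intro h6; exact hc1 (inv_eq_one.1 h6)
      have : (c⁻¹ - 1) * π v 1 = 0 := by linear_combination -e1
      exact (mul_eq_zero.1 this).resolve_left (sub_ne_zero.2 h5)

/-- `B` is conjugate to `A` in `⟨A, B⟩` -/
theorem exists_swap : ∃ l ∈ A ⊔ B, cj l A = B := by
  obtain ⟨x, hx⟩ := h.bij.2 (⟨!![0, -1; 1, 0], by rw [det_fin_two_of]; ring⟩ : SpecialLinearGroup (Fin 2) F)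
  refine ⟨x, x.2, ?_⟩
  have he0 : (φ ⟨(x : H), x.2⟩).1.mulVec ![1, 0] = ![0, 1] := by
    show (φ x).1.mulVec ![1, 0] = ![0, 1]
    rw [hx]
    show (!![0, -1; 1, 0] : Matrix (Fin 2) (Fin 2) F).mulVec ![1, 0] = _
    ext i; fin_cases i <;> simp [Matrix.mulVec, dotProduct, Fin.sum_univ_two]
  have hle : cj (x : H) A ≤ A ⊔ B := by
    have h2 : cj (x : H) (A ⊔ B) = A ⊔ B := cj_eq_of_mem x.2
    exact (cj_mono le_sup_left).trans h2.le
  ext y
  constructor
  · intro hy
    have hy' := hle hy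
    rw [h.cj_mem x.2 hy', he0] at hy
    exact (h.memB_iff ⟨y, hy'⟩).2 hy
  · intro hy
    rw [h.cj_mem x.2 (mem_sup_right hy), he0]
    exact (h.memB_iff ⟨y, _⟩).1 hy

/-- `B` acts semiregularly on the conjugates of `B` different from `B` -/
theorem cj_A_ne {b : H} (hb : b ∈ B) (hb1 : b ≠ 1) : cj b A ≠ A := by
  intro h1
  obtain ⟨c, hc⟩ := (h.memB ⟨b, mem_sup_right hb⟩).1 hb
  have hc0 : c ≠ 0 := by
    rintro rfl
    rw [SLTwoUnipotent.l_zero, ← map_one φ] at hc
    exact hb1 (congrArg Subtype.val (h.bij.1 hc))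
  obtain ⟨y, hy⟩ := h.bij.2 (SLTwoUnipotent.u 1)
  have hyA : (y : H) ∈ A := (h.memA y).2 ⟨1, hy⟩
  have h2 : (y : H) ∈ cj b A := h1.symm ▸ hyA
  have h3 := (h.cj_mem (mem_sup_right hb) y.2).1 h2
  rw [hc, l_mulVec] at h3
  have h4 := congrFun h3 0
  have h5 : (φ ⟨(y : H), y.2⟩) = SLTwoUnipotent.u 1 := hy
  rw [h5, u_mulVec] at h4
  simp at h4
  exact hc0 h4

end NatAt

namespace Loc

variable {T : Sylow 2 H} {M : Subgroup H} {D : Set (Subgroup H)} {q : ℕ} {Q : Subgroup H} (h : Loc V T M D q Q)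
include h

/-- different members are opposite -/
theorem opp_of_ne [Finite H] [Finite V] {A B : Subgroup H} (hA : Th D Q A) (hB : Th D Q B) (hne : A ≠ B) :
    Opp M Q A B := by
  by_contra h1
  exact hne (h.same_eq hA hB h1)

/-- `Θ = {A} ∪ {B^a}` -/
theorem point' [Finite H] [Finite V] {A B E : Subgroup H} (hA : Th D Q A) (hB : Th D Q B) (hne : A ≠ B)
    (hE : Th D Q E) : E = A ∨ ∃ a ∈ A, E = cj a B := by
  rcases h.point hA hB (h.opp_of_ne hA hB hne) hE with h1 | ⟨a, ha, h1⟩
  · left; exact h.same_eq hE hA h1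
  · right; exact ⟨a, ha, h.same_eq hE (hB.cj h.Dcj (hA.norm ha)) h1⟩

theorem LL_eq [Finite H] [Finite V] {A B : Subgroup H} (hA : Th D Q A) (hB : Th D Q B) (hne : A ≠ B) :
    LL D Q = A ⊔ B := by
  apply le_antisymm
  · apply sSup_le
    intro E hE
    rcases h.point' hA hB hne hE with rfl | ⟨a, ha, rfl⟩
    · exact le_sup_left
    · have h2 : cj a (A ⊔ B) = A ⊔ B := cj_eq_of_mem (mem_sup_left ha)
      exact (cj_mono le_sup_right).trans h2.le
  · exact sup_le (le_LL hA) (le_LL hB)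

theorem exists_ne_th {A : Subgroup H} (hA : Th D Q A) [Finite H] : ∃ B, Th D Q B ∧ A ≠ B := by
  obtain ⟨B, hB, hAB⟩ := h.exists_opp hA
  refine ⟨B, hB, ?_⟩
  rintro rfl
  exact h.same_refl hA hAB

theorem nat2' [Finite H] [Finite V] {A B : Subgroup H} (hA : Th D Q A) (hB : Th D Q B) (hne : A ≠ B) :
    Nat2 V A B := h.nat2 hA hB (h.opp_of_ne hA hB hne)

theorem LL_comm_Q : ∀ x ∈ LL D Q, ∀ y ∈ Q, x * y = y * x := by
  have h1 : LL D Q ≤ centralizer (Q : Set H) := by
    apply sSup_le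
    intro E hE x hx
    rw [mem_centralizer_iff]
    intro y hy
    exact (h.comm_Q hE x hx y hy).symm
  intro x hx y hy
  exact (mem_centralizer_iff.1 (h1 hx) y hy).symm

theorem pow_two_of_q [Finite H] {A : Subgroup H} (hA : A ∈ D) : ∃ n, q = 2 ^ n := by
  have : Fact (Nat.Prime 2) := ⟨Nat.prime_two⟩
  obtain ⟨n, hn⟩ := (IsPGroup.iff_card.1 (h.isPGroup_A hA))
  exact ⟨n, by rw [← h.card A hA, hn]⟩

/-- an element of odd order normalising `Q` which centralises a member of `Θ` centralises `⟨Θ⟩` -/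
theorem comm_LL_of_odd [Finite H] [Finite V] {A : Subgroup H} (hA : Th D Q A) {k : H}
    (hk : k ∈ normalizer (Q : Set H)) (hkA : ∀ a ∈ A, k * a = a * k) {n : ℕ} (hn : Odd n) (hkn : k ^ n = 1) :
    ∀ x ∈ LL D Q, k * x = x * k := by
  obtain ⟨B, hB, hne⟩ := h.exists_ne_th hA
  have hn2 := h.nat2' hA hB hne
  obtain ⟨F, _, _, π, φ, hnat⟩ := hn2
  -- `k` normalises `B`
  have hkA1 : cj k A = A := cj_of_comm hkA
  have hkB : cj k B = B := by
    rcases h.point' hA hB hne (hB.cj h.Dcj hk) with h1 | ⟨a, ha, h1⟩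
    · exfalso
      rw [← hkA1] at h1
      exact hne (cj_inj h1).symm
    · have h2 : ∀ m : ℕ, cj (k ^ m) B = cj (a ^ m) B := by
        intro m
        induction m with
        | zero => rw [pow_zero, pow_zero]
        | succ m ih =>
          have hc : ∀ m : ℕ, k * a ^ m = a ^ m * k := fun m => hkA _ (pow_mem ha m)
          rw [pow_succ', ← cj_cj, ih, cj_cj, hc, ← cj_cj, h1, cj_cj, ← pow_succ]
      have h3 := h2 n
      have h4 : a ^ n = a := by
        obtain ⟨m, rfl⟩ := hn
        have h5 : a ^ 2 = 1 := by rw [pow_two]; exact h.sqA A hA.mem a ha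
        rw [pow_add, pow_mul, h5, one_pow, one_mul, pow_one]
      rw [hkn, cj_one, h4] at h3
      rw [h1, ← h3]
  -- `k` centralises `B`
  have hkBc : ∀ b ∈ B, k * b = b * k := by
    intro b hb
    have hc : k * b * k⁻¹ * b⁻¹ ∈ B := by
      have h1 : k * b * k⁻¹ ∈ cj k B := conj_mem_cj hb
      rw [hkB] at h1
      exact mul_mem h1 (inv_mem hb)
    have hfix : cj (k * b * k⁻¹ * b⁻¹) A = A := by
      have hbA : Th D Q (cj b⁻¹ A) := hA.cj h.Dcj (inv_mem (hB.norm hb))
      have h1 : cj k⁻¹ (cj b⁻¹ A) = cj b⁻¹ A := by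
        rcases h.point' hA hB hne hbA with h2 | ⟨a, ha, h2⟩
        · rw [h2, cj_inv_eq hkA1]
        · rw [h2, cj_cj]
          have h3 : k⁻¹ * a = a * k⁻¹ := by
            rw [inv_mul_eq_iff_eq_mul, ← mul_assoc, hkA a ha, mul_assoc, mul_inv_cancel, mul_one]
          rw [h3, ← cj_cj, cj_inv_eq hkB]
      rw [← cj_cj, ← cj_cj, h1, cj_cj, mul_assoc, mul_inv_cancel, mul_one, hkA1]
    by_contra hne'
    have h1 : k * b * k⁻¹ * b⁻¹ ≠ 1 := by
      intro h2
      apply hne'
      rw [mul_inv_eq_one, mul_inv_eq_iff_eq_mul] at h2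
      exact h2
    exact hnat.cj_A_ne hc h1 hfix
  rw [h.LL_eq hA hB hne]
  have h1 : A ⊔ B ≤ centralizer ({k} : Set H) := by
    apply sup_le
    · intro a ha
      rw [mem_centralizer_singleton_iff]
      exact (hkA a ha).symm
    · intro b hb
      rw [mem_centralizer_singleton_iff]
      exact (hkBc b hb).symm
  intro x hx
  exact (mem_centralizer_singleton_iff.1 (h1 hx)).symm

end Loc

end Cfsg.Agent.Omega.FF.Glob

end

section


/-!
# The FF-theorem, global part (F), (G): `H = (L₁ × ... × L_r) T`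
-/

set_option autoImplicit false
set_option linter.unusedSectionVars false

namespace Cfsg.Agent.Omega.FF.Glob

open Subgroup Cfsg.Agent.ClassTwoFusion.Quad Cfsg.Agent.LieClassical Matrix
open scoped Pointwise

variable {H V : Type*} [Group H] [Group V] [MulDistribMulAction H V]

theorem le_QQ {D : Set (Subgroup H)} {T E F : Subgroup H} (hE : E ∈ D) (hET : E ≤ T) (hne : E ≠ F) :
    E ≤ QQ D T F := le_sSup ⟨hE, hET, hne⟩

theorem QQ_le {D : Set (Subgroup H)} {T F : Subgroup H} : QQ D T F ≤ T := sSup_le fun _ hE => hE.2.1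

namespace Loc

variable {T : Sylow 2 H} {M : Subgroup H} {D : Set (Subgroup H)} {q : ℕ} {Q : Subgroup H} (h : Loc V T M D q Q)
include h

theorem odd_pred [Finite H] {A : Subgroup H} (hA : A ∈ D) : Odd (q - 1) := by
  obtain ⟨n, hn⟩ := h.pow_two_of_q hA
  have h2 := h.two_le
  cases n with
  | zero => rw [pow_zero] at hn; omega
  | succ n =>
    have h3 : q = 2 * 2 ^ n := by rw [hn, pow_succ, mul_comm]
    refine ⟨2 ^ n - 1, ?_⟩
    have : 1 ≤ 2 ^ n := Nat.one_le_two_pow
    omega

/-- `[V, L₂] ≤ C_V(L₁)` -/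
theorem d_LL [Finite H] [Finite V] (hq : 2 < q) {F₁ F₂ : Subgroup H} (h1 : F₁ ∈ D) (h1T : F₁ ≤ T) (h2 : F₂ ∈ D)
    (h2T : F₂ ≤ T) (hne : F₁ ≠ F₂) :
    ∀ x ∈ LL D (QQ D T F₂), ∀ v : V, ∀ y ∈ LL D (QQ D T F₁), y • d x v = d x v := by
  obtain ⟨-, -, hfam⟩ := h.family
  obtain ⟨l1, t1⟩ := hfam F₁ h1 h1T
  obtain ⟨l2, t2⟩ := hfam F₂ h2 h2T
  obtain ⟨B₁, hB₁, hne₁⟩ := l1.exists_ne_th t1
  obtain ⟨B₂, hB₂, hne₂⟩ := l2.exists_ne_th t2
  obtain ⟨K, _, _, π, φ, hn⟩ := l1.nat2' t1 hB₁ hne₁
  obtain ⟨K', _, _, π', φ', hn'⟩ := l2.nat2' t2 hB₂ hne₂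
  have hcK : Nat.card K = q := by rw [hn.card_F, h.card _ h1]
  obtain ⟨k, hk, hkF, hkn, hkv⟩ := hn.exists_torus (by rw [hcK]; exact hq)
  rw [hcK] at hkn
  rw [← l1.LL_eq t1 hB₁ hne₁] at hk hkv
  have hF21 : F₂ ≤ QQ D T F₁ := le_QQ h2 h2T hne.symm
  have hF12 : F₁ ≤ QQ D T F₂ := le_QQ h1 h1T hne
  have hkQ : k ∈ normalizer (QQ D T F₂ : Set H) := by
    have key : ∀ E, E ∈ D → E ≤ (T : Subgroup H) → cj k E = E := by
      intro E hE hET
      by_cases h3 : E = F₁
      · rw [h3, hkF]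
      · exact cj_of_comm fun a ha => l1.LL_comm_Q k hk a (le_QQ hE hET h3 ha)
    rw [← cj_eq_iff]
    apply le_antisymm
    · rw [cj_le_iff]
      apply sSup_le
      rintro E ⟨hE, hET, hEF⟩
      rw [← cj_le_iff, key E hE hET]
      exact le_QQ hE hET hEF
    · apply sSup_le
      rintro E ⟨hE, hET, hEF⟩
      rw [← key E hE hET]
      exact cj_mono (le_QQ hE hET hEF)
  have hk2 : ∀ x ∈ LL D (QQ D T F₂), k * x = x * k := l2.comm_LL_of_odd t2 hkQ
    (fun a ha => l1.LL_comm_Q k hk a (hF21 ha)) (h.odd_pred h1) hkn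
  -- `L₂` preserves `C_V(L₁)`
  have hpres : ∀ x ∈ LL D (QQ D T F₂), ∀ v : V, (∀ y ∈ LL D (QQ D T F₁), y • v = v) →
      ∀ y ∈ LL D (QQ D T F₁), y • (x • v) = x • v := by
    intro x hx v hv
    apply hkv
    rw [← mul_smul, hk2 x hx, mul_smul, hv k hk]
  -- `[V, F₂] ≤ C_V(L₁)`
  have hbase : ∀ a ∈ F₂, ∀ v : V, ∀ y ∈ LL D (QQ D T F₁), y • d a v = d a v := by
    intro a ha
    have hac : ∀ y ∈ LL D (QQ D T F₁), y * a = a * y := fun y hy => l1.LL_comm_Q y hy a (hF21 ha)
    have hyd : ∀ y ∈ LL D (QQ D T F₁), ∀ v : V, y • d a v = d a (y • v) := by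
      intro y hy v
      rw [d, d, smul_mul', ← mul_smul, hac y hy, mul_smul]
    let U : Subgroup V :=
      { carrier := {v | ∀ y ∈ LL D (QQ D T F₁), y • d a v = d a v}
        one_mem' := fun y _ => by rw [(h.d_eq_one a 1).2 (smul_one a), smul_one]
        mul_mem' := by
          intro v w hv hw y hy
          rw [h.d_mul, smul_mul', hv y hy, hw y hy]
        inv_mem' := by
          intro v hv
          rw [h.inv_eq]
          exact hv }
    by_contra hcon
    push Not at hcon
    obtain ⟨v, y, hy, hv⟩ := hcon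
    have hU : U = ⊤ := by
      have haa : a * a = 1 := h.sqA F₂ h2 a ha
      refine hn.irr (v := d a v) ?_ ?_ ?_ ?_
      · intro l hl v hv
        rw [← l1.LL_eq t1 hB₁ hne₁] at hl
        intro y hy
        have e1 : d a (l • v) = d a v := by rw [← hyd l hl, hv l hl]
        rw [e1]
        exact hv y hy
      · intro v hv y hy
        rw [hyd y hy, hv y (by rw [← l1.LL_eq t1 hB₁ hne₁]; exact hy)]
      · intro y _
        have e1 : d a (d a v) = 1 := by
          rw [h.d_eq_one, d, smul_mul', ← mul_smul, haa, one_smul, h.comm]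
        rw [e1, smul_one]
      · exact ⟨y, by rw [← l1.LL_eq t1 hB₁ hne₁]; exact hy, hv⟩
    have : v ∈ U := by rw [hU]; trivial
    exact hv (this y hy)
  -- all of `L₂`
  let W : Subgroup H :=
    { carrier := {x | x ∈ LL D (QQ D T F₂) ∧ ∀ v : V, ∀ y ∈ LL D (QQ D T F₁), y • d x v = d x v}
      one_mem' := ⟨one_mem _, fun v y _ => by rw [(h.d_eq_one 1 v).2 (one_smul _ _), smul_one]⟩
      mul_mem' := by
        rintro x x' ⟨hx, hx'⟩ ⟨hy, hy'⟩
        refine ⟨mul_mem hx hy, fun v y hyy => ?_⟩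
        have e1 : d (x * x') v = (x • d x' v) * d x v := by
          rw [d, mul_smul, h.smul_eq x' v, smul_mul', h.smul_eq x v, mul_assoc, mul_assoc, h.sq, mul_one]
        rw [e1, smul_mul', hpres x hx _ (hy' v) y hyy, hx' v y hyy]
      inv_mem' := by
        rintro x ⟨hx, hx'⟩
        refine ⟨inv_mem hx, fun v y hyy => ?_⟩
        have e1 : d x⁻¹ v = x⁻¹ • d x v := by
          rw [d, d, smul_mul', ← mul_smul, inv_mul_cancel, one_smul, h.comm]
        rw [e1]
        exact hpres x⁻¹ (inv_mem hx) _ (hx' v) y hyy }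
  have hW : LL D (QQ D T F₂) ≤ W := by
    have key : ∀ l ∈ LL D (QQ D T F₂), cj l F₂ ≤ W := by
      intro l hl x hx
      have hx' : l⁻¹ * x * l ∈ F₂ := mem_cj.1 hx
      have hxL : x ∈ LL D (QQ D T F₂) := by
        have h3 := mul_mem (mul_mem hl (le_LL t2 hx')) (inv_mem hl)
        have e : l * (l⁻¹ * x * l) * l⁻¹ = x := by group
        rwa [e] at h3
      refine ⟨hxL, fun v y hyy => ?_⟩
      have e1 : d x v = l • d (l⁻¹ * x * l) (l⁻¹ • v) := by
        rw [d, d, smul_mul', ← mul_smul, ← mul_smul, ← mul_smul]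
        have e : l * (l⁻¹ * x * l) * l⁻¹ = x := by group
        rw [e, mul_inv_cancel, one_smul]
      rw [e1]
      exact hpres l hl _ (hbase _ hx' _) y hyy
    obtain ⟨l, hl, hlB⟩ := hn'.exists_swap
    rw [← l2.LL_eq t2 hB₂ hne₂] at hl
    apply sSup_le
    intro E hE
    rcases l2.point' t2 hB₂ hne₂ hE with rfl | ⟨a, ha, rfl⟩
    · have := key 1 (one_mem _)
      rwa [cj_one] at this
    · rw [← hlB, cj_cj]
      exact key _ (mul_mem (le_LL t2 ha) hl)
  exact fun x hx v y hy => (hW hx).2 v y hy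

theorem commute_of_d {x y : H} (h1 : ∀ v : V, y • d x v = d x v) (h2 : ∀ v : V, x • d y v = d y v) :
    x * y = y * x := by
  have h3 : ∀ v : V, (x * y) • v = (y * x) • v := by
    intro v
    rw [mul_smul, mul_smul, h.smul_eq y v, h.smul_eq x v, smul_mul', smul_mul', h1, h2, h.smul_eq y v,
      h.smul_eq x v, ← mul_assoc, ← mul_assoc, h.comm (d x v)]
  have h2 : (y * x)⁻¹ * (x * y) = 1 := by
    apply h.faith
    intro v
    rw [mul_smul, h3, ← mul_smul, inv_mul_cancel, one_smul]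
  exact (inv_mul_eq_one.1 h2).symm

/-- `[L₁, L₂] = 1` -/
theorem comm_LL [Finite H] [Finite V] (hq : 2 < q) {F₁ F₂ : Subgroup H} (h1 : F₁ ∈ D) (h1T : F₁ ≤ T) (h2 : F₂ ∈ D)
    (h2T : F₂ ≤ T) (hne : F₁ ≠ F₂) :
    ∀ x ∈ LL D (QQ D T F₁), ∀ y ∈ LL D (QQ D T F₂), x * y = y * x := fun x hx y hy =>
  h.commute_of_d (fun v => h.d_LL hq h2 h2T h1 h1T hne.symm x hx v y hy)
    (fun v => h.d_LL hq h1 h1T h2 h2T hne y hy v x hx)

omit [MulDistribMulAction H V] [Group V] h in
theorem _root_.Cfsg.Agent.Omega.FF.Glob.LL_cj {D : Set (Subgroup H)} (hD : ∀ A ∈ D, ∀ g : H, cj g A ∈ D) (g : H)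
    (Q : Subgroup H) : LL D (cj g Q) = cj g (LL D Q) := by
  have key : ∀ (k : H) (Q' A : Subgroup H), Th D Q' A → Th D (cj k Q') (cj k A) := by
    intro k Q' A hA
    refine ⟨hD A hA.mem k, ?_, ?_⟩
    · rw [normalizer_cj]; exact cj_mono hA.norm
    · rw [cj_le_cj_iff]; exact hA.nle
  apply le_antisymm
  · apply sSup_le
    intro E hE
    have h1 := key g⁻¹ _ _ hE
    rw [cj_inv_cj] at h1
    have h2 := cj_mono (g := g) (le_LL h1)
    rwa [cj_cj_inv] at h2
  · rw [cj_le_iff]
    apply sSup_le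
    intro E hE
    rw [← cj_le_iff]
    exact le_LL (key g _ _ hE)

end Loc

/-- `⟨L_F⟩` -/
def XX (D : Set (Subgroup H)) (T : Subgroup H) : Subgroup H :=
  sSup {L | ∃ F ∈ D, F ≤ T ∧ L = LL D (QQ D T F)}

theorem le_XX {D : Set (Subgroup H)} {T F : Subgroup H} (hF : F ∈ D) (hFT : F ≤ T) :
    LL D (QQ D T F) ≤ XX D T := le_sSup ⟨F, hF, hFT, rfl⟩

namespace Loc

variable {T : Sylow 2 H} {M : Subgroup H} {D : Set (Subgroup H)} {q : ℕ} {Q : Subgroup H} (h : Loc V T M D q Q)
include h

theorem cj_LL {t : H} (ht : t ∈ T) (F : Subgroup H) : cj t (LL D (QQ D T F)) = LL D (QQ D T (cj t F)) := by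
  rw [h.QQ_cj ht, LL_cj h.Dcj]

theorem XX_sup [Finite H] [Finite V] : XX D T ⊔ T = ⊤ := by
  obtain ⟨⟨F, hF, hFT⟩, -, hfam⟩ := h.family
  obtain ⟨l1, t1⟩ := hfam F hF hFT
  obtain ⟨B, hB, hFB⟩ := l1.exists_opp t1
  rcases h.max (XX D T ⊔ T) le_sup_right with h1 | h1
  · exfalso
    refine hFB 1 ?_ ?_ ?_
    · rw [cj_one]; exact hFT.trans h.TM
    · rw [cj_one]; exact (le_LL hB).trans ((le_XX hF hFT).trans (le_sup_left.trans h1))
    · rw [cj_one]; exact QQ_le.trans h.TM
  · exact h1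

theorem XX_normal [Finite H] [Finite V] : (XX D T).Normal := by
  rw [← normalizer_eq_top_iff, eq_top_iff, ← h.XX_sup]
  apply sup_le le_normalizer
  have key : ∀ t ∈ T, cj t (XX D T) ≤ XX D T := by
    intro t ht
    rw [cj_le_iff]
    apply sSup_le
    rintro _ ⟨F, hF, hFT, rfl⟩
    rw [← cj_le_iff, h.cj_LL ht]
    refine le_XX (h.Dcj F hF t) ?_
    rw [cj_le_iff, cj_eq_of_mem (inv_mem ht)]
    exact hFT
  intro t ht
  rw [← cj_eq_iff]
  apply le_antisymm (key t ht)
  have h1 := key _ (inv_mem ht)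
  rwa [cj_le_iff, inv_inv] at h1

end Loc

end Cfsg.Agent.Omega.FF.Glob

end

section


/-!
# The FF-theorem, global part: summary of (A)-(G)

`Out0 V T k A B`: the members `A i` of `D` in `T`, `L i = A i ⊔ B i ≅ SL₂(q)`.
-/

set_option autoImplicit false
set_option linter.unusedSectionVars false

namespace Cfsg.Agent.Omega.FF.Glob

open Subgroup Cfsg.Agent.ClassTwoFusion.Quad Cfsg.Agent.LieClassical Matrix
open scoped Pointwise

variable {H V : Type*} [Group H] [Group V] [MulDistribMulAction H V]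

/-- the structure of `H` for `q > 2` (without the statement on offenders) -/
structure Out0 (V : Type*) [Group V] [MulDistribMulAction H V] (T : Sylow 2 H) (k : ℕ) (A B : Fin k → Subgroup H) :
    Prop where
  comm : ∀ v w : V, v * w = w * v
  sq : ∀ v : V, v * v = 1
  faith : ∀ x : H, (∀ v : V, x • v = v) → x = 1
  core : ∀ N : Subgroup H, N.Normal → IsPGroup 2 N → N = ⊥
  noover : ∀ E : Subgroup H, (∀ x ∈ E, x * x = 1) → Nat.card E ≤ (cv V (E : Set H)).index
  nat : ∀ i, Nat2 V (A i) (B i)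
  le : ∀ i, A i ≤ T
  card4 : ∀ i, 4 ≤ Nat.card (A i)
  card_eq : ∀ i j, Nat.card (A i) = Nat.card (A j)
  LL : ∀ i j, i ≠ j → ∀ x ∈ A i ⊔ B i, ∀ y ∈ A j ⊔ B j, x * y = y * x
  mod : ∀ i j, i ≠ j → ∀ x ∈ A i ⊔ B i, ∀ y ∈ A j ⊔ B j, ∀ v : V, y • (d x v) = d x v
  cjL : ∀ g : H, ∀ i, ∃ j, cj g (A i ⊔ B i) = A j ⊔ B j
  cjA : ∀ t ∈ T, ∀ i, ∃ j, cj t (A i) = A j
  trans : ∀ i j, ∃ t ∈ T, cj t (A i) = A j
  inj : Function.Injective A
  gen : ∀ K : Subgroup H, (T : Subgroup H) ≤ K → (∀ i, A i ⊔ B i ≤ K) → K = ⊤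

namespace Loc

variable {T : Sylow 2 H} {M : Subgroup H} {D : Set (Subgroup H)} {q : ℕ} {Q : Subgroup H} (h : Loc V T M D q Q)
include h

theorem exists_out [Finite H] [Finite V] (hq : 2 < q) : ∃ (k : ℕ) (A B : Fin k → Subgroup H), 0 < k ∧
    Out0 V T k A B ∧ (∀ i, A i ∈ D) ∧ (∀ i, Nat.card (A i) = q) ∧ ∀ F ∈ D, F ≤ (T : Subgroup H) → ∃ i, A i = F := by
  classical
  obtain ⟨⟨F₀, hF₀, hF₀T⟩, htr, hfam⟩ := h.family
  obtain ⟨k, ⟨e⟩⟩ := Finite.exists_equiv_fin {F : Subgroup H | F ∈ D ∧ F ≤ (T : Subgroup H)}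
  have hex : ∀ i : Fin k, ∃ B, Th D (QQ D T (e.symm i).1) B ∧ (e.symm i).1 ≠ B := fun i =>
    (hfam _ (e.symm i).2.1 (e.symm i).2.2).1.exists_ne_th (hfam _ (e.symm i).2.1 (e.symm i).2.2).2
  choose B hB hne using hex
  have hk : 0 < k := by
    have := (e ⟨F₀, hF₀, hF₀T⟩).2
    omega
  have hl : ∀ i, Loc V T M D q (QQ D T (e.symm i).1) := fun i => (hfam _ (e.symm i).2.1 (e.symm i).2.2).1
  have ht : ∀ i, Th D (QQ D T (e.symm i).1) (e.symm i).1 := fun i => (hfam _ (e.symm i).2.1 (e.symm i).2.2).2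
  have hL : ∀ i, (e.symm i).1 ⊔ B i = LL D (QQ D T (e.symm i).1) := fun i =>
    ((hl i).LL_eq (ht i) (hB i) (hne i)).symm
  have hinj : Function.Injective fun i => (e.symm i).1 := fun i j hij => e.symm.injective (Subtype.ext hij)
  have hsurj : ∀ F ∈ D, F ≤ (T : Subgroup H) → ∃ i, (e.symm i).1 = F := fun F hF hFT =>
    ⟨e ⟨F, hF, hFT⟩, by rw [e.symm_apply_apply]⟩
  have hcardq : ∀ i, Nat.card (e.symm i).1 = q := fun i => h.card _ (e.symm i).2.1
  have hcjT : ∀ t ∈ T, ∀ i, ∃ j, cj t (e.symm i).1 = (e.symm j).1 := by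
    intro t ht' i
    obtain ⟨j, hj⟩ := hsurj (cj t (e.symm i).1) (h.Dcj _ (e.symm i).2.1 t)
      (by rw [cj_le_iff, cj_eq_of_mem (inv_mem ht')]; exact (e.symm i).2.2)
    exact ⟨j, hj.symm⟩
  have hLL : ∀ i j, i ≠ j → ∀ x ∈ (e.symm i).1 ⊔ B i, ∀ y ∈ (e.symm j).1 ⊔ B j, x * y = y * x := by
    intro i j hij
    rw [hL, hL]
    exact h.comm_LL hq (e.symm i).2.1 (e.symm i).2.2 (e.symm j).2.1 (e.symm j).2.2 fun h1 => hij (hinj h1)
  refine ⟨k, fun i => (e.symm i).1, B, hk, ?_, fun i => (e.symm i).2.1, hcardq, hsurj⟩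
  exact
    { comm := h.comm
      sq := h.sq
      faith := h.faith
      core := h.core
      noover := h.noover
      nat := fun i => (hl i).nat2' (ht i) (hB i) (hne i)
      le := fun i => (e.symm i).2.2
      card4 := fun i => by
        show 4 ≤ Nat.card (e.symm i).1
        rw [hcardq]
        obtain ⟨n, hn⟩ := h.pow_two_of_q (e.symm i).2.1
        have hn2 : 2 ≤ n := by
          by_contra hcon
          have : n = 0 ∨ n = 1 := by omega
          rcases this with rfl | rfl
          · rw [pow_zero] at hn; omega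
          · rw [pow_one] at hn; omega
        rw [hn]
        calc 4 = 2 ^ 2 := by norm_num
          _ ≤ 2 ^ n := Nat.pow_le_pow_right (by norm_num) hn2
      card_eq := fun i j => by
        show Nat.card (e.symm i).1 = Nat.card (e.symm j).1
        rw [hcardq, hcardq]
      LL := hLL
      mod := by
        intro i j hij
        show ∀ x ∈ (e.symm i).1 ⊔ B i, ∀ y ∈ (e.symm j).1 ⊔ B j, ∀ v : V, y • (d x v) = d x v
        rw [hL, hL]
        intro x hx y hy v
        exact h.d_LL hq (e.symm j).2.1 (e.symm j).2.2 (e.symm i).2.1 (e.symm i).2.2 (fun h1 => hij (hinj h1).symm)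
          x hx v y hy
      cjL := by
        intro g i
        show ∃ j, cj g ((e.symm i).1 ⊔ B i) = (e.symm j).1 ⊔ B j
        have hg : g ∈ XX D T ⊔ T := by rw [h.XX_sup]; trivial
        have : (XX D T).Normal := h.XX_normal
        obtain ⟨x, hx, t, ht', rfl⟩ := Subgroup.mem_sup_of_normal_left.1 hg
        have hXn : ∀ j, XX D T ≤ normalizer (((e.symm j).1 ⊔ B j : Subgroup H) : Set H) := by
          intro j
          apply sSup_le
          rintro _ ⟨F, hF, hFT, rfl⟩
          obtain ⟨l, rfl⟩ := hsurj F hF hFT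
          rw [← hL]
          by_cases hlj : l = j
          · rw [hlj]; exact le_normalizer
          · intro y hy
            rw [← cj_eq_iff]
            exact cj_of_comm fun z hz => hLL l j hlj y hy z hz
        obtain ⟨j, hj⟩ := hcjT t ht' i
        refine ⟨j, ?_⟩
        rw [← cj_cj, hL i, h.cj_LL ht', hj, ← hL j]
        exact cj_eq_iff.2 (hXn j hx)
      cjA := hcjT
      trans := fun i j => by
        obtain ⟨t, ht', h1⟩ := htr _ (e.symm i).2.1 (e.symm i).2.2 _ (e.symm j).2.1 (e.symm j).2.2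
        exact ⟨t, ht', h1.symm⟩
      inj := hinj
      gen := by
        intro K hTK hK
        rw [eq_top_iff, ← h.XX_sup]
        apply sup_le _ hTK
        apply sSup_le
        rintro _ ⟨F, hF, hFT, rfl⟩
        obtain ⟨i, rfl⟩ := hsurj F hF hFT
        rw [← hL]
        exact hK i }

end Loc

end Cfsg.Agent.Omega.FF.Glob

end

section


/-!
# The FF-theorem, global part: the normaliser of `A` acts semilinearly on the natural module
-/

set_option autoImplicit false
set_option linter.unusedSectionVars false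

namespace Cfsg.Agent.Omega.FF.Glob

open Subgroup Cfsg.Agent.ClassTwoFusion.Quad Cfsg.Agent.LieClassical Matrix
open Cfsg.Agent.Omega.NatPair (ap ap_eq_mulVec)

variable {H V : Type*} [Group H] [Group V] [MulDistribMulAction H V]

namespace NatAt

variable {A B : Subgroup H} {F : Type} [Field F] {π : V → (Fin 2 → F)}
  {φ : ↥(A ⊔ B) →* Matrix.SpecialLinearGroup (Fin 2) F} (h : NatAt A B π φ)
include h

theorem pi_eq_iff {v w : V} : π v = π w ↔ ∀ x ∈ A ⊔ B, x • (v * w⁻¹) = v * w⁻¹ := by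
  rw [← h.ker, h.mul, h.pi_inv, ← sub_eq_add_neg, sub_eq_zero]

theorem dep {x : H} (hx : Glob.cj x (A ⊔ B) = A ⊔ B) {v w : V} (hvw : π v = π w) : π (x • v) = π (x • w) := by
  rw [h.pi_eq_iff] at hvw ⊢
  have e : x • v * (x • w)⁻¹ = x • (v * w⁻¹) := by rw [smul_mul', smul_inv']
  rw [e, ← hx, smul_fix_cj, inv_smul_smul]
  exact hvw

theorem exists_map {x : H} (hx : Glob.cj x (A ⊔ B) = A ⊔ B) : ∃ T : (Fin 2 → F) → (Fin 2 → F),
    ∀ v, T (π v) = π (x • v) := by
  refine ⟨fun w => π (x • (Function.surjInv h.surj w)), fun v => ?_⟩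
  exact h.dep hx (Function.surjInv_eq h.surj (π v))

/-- elements normalising `A` and `⟨A, B⟩` act semilinearly and upper triangular -/
theorem exists_tri [Finite F] {x : H} (hx : Glob.cj x (A ⊔ B) = A ⊔ B) (hxA : Glob.cj x A = A) :
    ∃ (s : F ≃+* F) (α γ δ : F), α ≠ 0 ∧ δ ≠ 0 ∧
      ∀ v, π (x • v) = ![α * s (π v 0) + γ * s (π v 1), δ * s (π v 1)] := by
  obtain ⟨T, hT⟩ := h.exists_map hx
  have hx' : Glob.cj x⁻¹ (A ⊔ B) = A ⊔ B := cj_inv_eq hx
  obtain ⟨T', hT'⟩ := h.exists_map hx'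
  have hadd : ∀ w w', T (w + w') = T w + T w' := by
    intro w w'
    obtain ⟨v, rfl⟩ := h.surj w
    obtain ⟨v', rfl⟩ := h.surj w'
    rw [← h.mul, hT, hT, hT, smul_mul', h.mul]
  have h1 : ∀ w, T' (T w) = w := by
    intro w
    obtain ⟨v, rfl⟩ := h.surj w
    rw [hT, hT', inv_smul_smul]
  have h2 : ∀ w, T (T' w) = w := by
    intro w
    obtain ⟨v, rfl⟩ := h.surj w
    rw [hT', hT, smul_inv_smul]
  have hn : ∀ A' : Matrix.SpecialLinearGroup (Fin 2) F, ∃ B' : Matrix.SpecialLinearGroup (Fin 2) F,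
      ∀ w, T' (ap A' (T w)) = ap B' w := by
    intro A'
    obtain ⟨l, rfl⟩ := h.bij.2 A'
    have hl : x⁻¹ * l * x ∈ A ⊔ B := by
      have h3 : (l : H) ∈ Glob.cj x (A ⊔ B) := by rw [hx]; exact l.2
      exact mem_cj.1 h3
    refine ⟨φ ⟨x⁻¹ * l * x, hl⟩, fun w => ?_⟩
    obtain ⟨v, rfl⟩ := h.surj w
    rw [hT, ap_eq_mulVec, ap_eq_mulVec, ← h.act, hT', ← h.act]
    congr 1
    show x⁻¹ • (l : H) • x • v = (x⁻¹ * l * x) • v
    rw [mul_smul, mul_smul]
  obtain ⟨σ, hσ⟩ := NatPair.exists_semi T T' hadd h1 h2 hn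
  obtain ⟨s, hs⟩ := NatPair.exists_ringEquiv T T' hadd h1 σ hσ
  have hline : ∀ w : Fin 2 → F, w 1 = 0 → T w 1 = 0 := by
    intro w hw
    obtain ⟨v, rfl⟩ := h.surj w
    rw [hT, h.kerA, ← hxA, smul_fix_cj, inv_smul_smul]
    exact (h.kerA v).1 hw
  have hline' : ∀ w : Fin 2 → F, w 1 = 0 → T' w 1 = 0 := by
    intro w hw
    obtain ⟨v, rfl⟩ := h.surj w
    rw [hT', h.kerA, ← cj_inv_eq hxA, smul_fix_cj, inv_smul_smul]
    exact (h.kerA v).1 hw
  have hT0 : T 0 = 0 := by
    have := hadd 0 0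
    rw [add_zero] at this
    exact left_eq_add.1 this
  have hT'0 : T' 0 = 0 := by
    have := h1 0
    rwa [hT0] at this
  refine ⟨s, T ![1, 0] 0, T ![0, 1] 0, T ![0, 1] 1, ?_, ?_, ?_⟩
  · intro h3
    have h4 : T ![1, 0] = 0 := by
      ext i
      fin_cases i
      · exact h3
      · exact hline _ rfl
    have h5 := h1 ![1, 0]
    rw [h4, hT'0] at h5
    exact zero_ne_one (congrFun h5 0)
  · intro h3
    have h5 := hline' _ h3
    rw [h1] at h5
    exact one_ne_zero h5
  · intro v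
    have e : π v = π v 0 • ![1, 0] + π v 1 • ![0, 1] := by
      ext i; fin_cases i <;> simp
    rw [← hT]
    conv_lhs => rw [e]
    rw [hadd, hs, hs]
    ext i
    fin_cases i
    · simp; ring
    · have : T ![1, 0] 1 = 0 := hline _ rfl
      simp [this]; ring

end NatAt

/-- the involution in the automorphism group of a finite field is unique -/
theorem ringAut_inv_unique {F : Type*} [Field F] [Finite F] {σ τ : F ≃+* F}
    (hσ : ∀ c, σ (σ c) = c) (hτ : ∀ c, τ (τ c) = c) (hσ1 : ∃ c, σ c ≠ c) (hτ1 : ∃ c, τ c ≠ c) : σ = τ := by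
  classical
  have : IsCyclic (F ≃+* F) := Cfsg.Agent.LieRecognition.FieldSemilinear.isCyclic_ringAut F
  have : Finite (F ≃+* F) := Finite.of_injective (fun σ : F ≃+* F => (σ : F → F)) DFunLike.coe_injective
  let _ := Fintype.ofFinite (F ≃+* F)
  by_contra hne
  have h1 := IsCyclic.card_pow_eq_one_le (α := F ≃+* F) (n := 2) (by norm_num)
  have hs1 : σ ≠ 1 := by
    rintro rfl
    obtain ⟨c, hc⟩ := hσ1
    exact hc rfl
  have ht1 : τ ≠ 1 := by
    rintro rfl
    obtain ⟨c, hc⟩ := hτ1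
    exact hc rfl
  have h3 : ({1, σ, τ} : Finset (F ≃+* F)) ⊆ Finset.univ.filter (fun a => a ^ 2 = 1) := by
    intro x hx
    simp only [Finset.mem_insert, Finset.mem_singleton] at hx
    rw [Finset.mem_filter]
    refine ⟨Finset.mem_univ _, ?_⟩
    rcases hx with rfl | rfl | rfl
    · exact one_pow _
    · rw [sq]
      exact RingEquiv.ext hσ
    · rw [sq]
      exact RingEquiv.ext hτ
  have h4 := Finset.card_le_card h3
  have h5 : ({1, σ, τ} : Finset (F ≃+* F)).card = 3 := by
    rw [Finset.card_insert_of_notMem, Finset.card_insert_of_notMem, Finset.card_singleton]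
    · simpa using hne
    · simp only [Finset.mem_insert, Finset.mem_singleton, not_or]
      exact ⟨fun h => hs1 h.symm, fun h => ht1 h.symm⟩
  omega

end Cfsg.Agent.Omega.FF.Glob

end

section


/-!
# The FF-theorem, global part: counting fixed points of semilinear maps in characteristic two
-/

set_option autoImplicit false
set_option linter.unusedSectionVars false

namespace Cfsg.Agent.Omega.FF.Glob

variable {F : Type} [Field F] [Finite F]

/-- the fixed points of `z ↦ α s(z)` -/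
def FixS (s : F ≃+* F) (α : F) : AddSubgroup F where
  carrier := {z | α * s z = z}
  zero_mem' := by show α * s 0 = 0; rw [map_zero, mul_zero]
  add_mem' := by
    intro a b ha hb
    show α * s (a + b) = a + b
    rw [map_add, mul_add, ha, hb]
  neg_mem' := by
    intro a ha
    show α * s (-a) = -a
    rw [map_neg, mul_neg, ha]

theorem mem_FixS {s : F ≃+* F} {α z : F} : z ∈ FixS s α ↔ α * s z = z := Iff.rfl

theorem card_FixS_le (s : F ≃+* F) (α : F) : Nat.card (FixS s α) ≤ Nat.card (FixS s 1) := by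
  by_cases h : ∃ g ∈ FixS s α, g ≠ 0
  · obtain ⟨g, hg, hg0⟩ := h
    have hsg : s g ≠ 0 := fun h1 => hg0 (by rwa [map_eq_zero_iff s s.injective] at h1)
    refine Nat.card_le_card_of_injective (fun w : FixS s α => (⟨w.1 / g, ?_⟩ : FixS s 1)) ?_
    · have hw : α * s w.1 = w.1 := w.2
      have hg' : α * s g = g := hg
      show 1 * s (w.1 / g) = w.1 / g
      rw [one_mul, map_div₀]
      rw [div_eq_div_iff hsg hg0]
      calc s w.1 * g = s w.1 * (α * s g) := by rw [hg']
        _ = (α * s w.1) * s g := by ring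
        _ = w.1 * s g := by rw [hw]
    · intro w w' hww
      have h1 : w.1 / g = w'.1 / g := congrArg Subtype.val hww
      apply Subtype.ext
      field_simp at h1
      exact h1
  · push Not at h
    have h1 : FixS s α = ⊥ := by
      rw [eq_bot_iff]
      intro x hx
      exact AddSubgroup.mem_bot.2 (h x hx)
    rw [h1, AddSubgroup.card_bot]
    exact Nat.card_pos

/-- a proper subgroup has at most half the elements -/
theorem two_mul_card_le {G : Type*} [AddGroup G] [Finite G] {K : AddSubgroup G} (h : ∃ x, x ∉ K) :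
    2 * Nat.card K ≤ Nat.card G := by
  have h1 : K.index ≠ 1 := by
    intro h2
    rw [AddSubgroup.index_eq_one] at h2
    obtain ⟨x, hx⟩ := h
    exact hx (by rw [h2]; trivial)
  have h2 : K.index ≠ 0 := AddSubgroup.index_ne_zero_of_finite
  rw [← K.card_mul_index, mul_comm 2]
  exact Nat.mul_le_mul le_rfl (by omega)

theorem two_mul_card_FixS {s : F ≃+* F} (hs : ∃ c, s c ≠ c) : 2 * Nat.card (FixS s 1) ≤ Nat.card F := by
  apply two_mul_card_le
  obtain ⟨c, hc⟩ := hs
  exact ⟨c, fun h => hc (by rw [mem_FixS, one_mul] at h; exact h)⟩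

/-- the fixed points of an upper triangular semilinear map -/
theorem card_fix_le (s : F ≃+* F) {α γ δ : F} {C : AddSubgroup (Fin 2 → F)}
    (hC : ∀ w ∈ C, α * s (w 0) + γ * s (w 1) = w 0 ∧ δ * s (w 1) = w 1) :
    Nat.card C ≤ Nat.card (FixS s 1) * Nat.card (FixS s 1) := by
  let f : C →+ F := (Pi.evalAddMonoidHom (fun _ : Fin 2 => F) 1).comp C.subtype
  have h1 : Nat.card C = Nat.card f.range * Nat.card f.ker := by
    rw [← AddSubgroup.index_ker, mul_comm, AddSubgroup.card_mul_index]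
  rw [h1]
  apply Nat.mul_le_mul
  · refine le_trans ?_ (card_FixS_le s δ)
    apply AddSubgroup.card_le_of_le
    rintro _ ⟨w, rfl⟩
    exact (hC w.1 w.2).2
  · refine le_trans ?_ (card_FixS_le s α)
    refine Nat.card_le_card_of_injective (fun w : f.ker => (⟨w.1.1 0, ?_⟩ : FixS s α)) ?_
    · have hw : w.1.1 1 = 0 := w.2
      have h2 := (hC w.1.1 w.1.2).1
      rw [hw, map_zero, mul_zero, add_zero] at h2
      exact h2
    · intro w w' hww
      have h0 : w.1.1 0 = w'.1.1 0 := congrArg Subtype.val hww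
      have hw : w.1.1 1 = 0 := w.2
      have hw' : w'.1.1 1 = 0 := w'.2
      apply Subtype.ext
      apply Subtype.ext
      funext i
      fin_cases i
      · exact h0
      · exact hw.trans hw'.symm

/-- the fixed points on the line -/
theorem card_fix_le' (s : F ≃+* F) {α γ : F} {C : AddSubgroup (Fin 2 → F)}
    (hC : ∀ w ∈ C, α * s (w 0) + γ * s (w 1) = w 0) (hC' : ∀ w ∈ C, w 1 = 0) :
    Nat.card C ≤ Nat.card (FixS s 1) := by
  refine le_trans ?_ (card_FixS_le s α)
  refine Nat.card_le_card_of_injective (fun w : C => (⟨w.1 0, ?_⟩ : FixS s α)) ?_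
  · have h2 := hC w.1 w.2
    rw [hC' w.1 w.2, map_zero, mul_zero, add_zero] at h2
    exact h2
  · intro w w' hww
    have h0 : w.1 0 = w'.1 0 := congrArg Subtype.val hww
    apply Subtype.ext
    funext i
    fin_cases i
    · exact h0
    · exact (hC' _ w.2).trans (hC' _ w'.2).symm

theorem card_line_le {C : AddSubgroup (Fin 2 → F)} (hC' : ∀ w ∈ C, w 1 = 0) : Nat.card C ≤ Nat.card F := by
  refine Nat.card_le_card_of_injective (fun w : C => w.1 0) ?_
  intro w w' hww
  apply Subtype.ext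
  funext i
  fin_cases i
  · exact hww
  · exact (hC' _ w.2).trans (hC' _ w'.2).symm

theorem card_all_le (C : AddSubgroup (Fin 2 → F)) : Nat.card C ≤ Nat.card F * Nat.card F := by
  refine (Nat.card_le_card_of_injective (fun w : C => w.1) Subtype.val_injective).trans ?_
  rw [Nat.card_fun, Nat.card_eq_fintype_card (α := Fin 2), Fintype.card_fin, sq]

end Cfsg.Agent.Omega.FF.Glob

end

section


/-!
# The FF-theorem, global part: an elementary abelian subgroup `E` of `T` and one summand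

`Ei` = the stabiliser in `E` of the `i`-th summand, `KE` = the elements of `Ei` acting trivially on it, `LE` = the
elements of `Ei` acting linearly on it.
-/

set_option autoImplicit false
set_option linter.unusedSectionVars false

namespace Cfsg.Agent.Omega.FF.Glob

open Subgroup Cfsg.Agent.ClassTwoFusion.Quad Cfsg.Agent.LieClassical Matrix
open scoped Pointwise

variable {H V : Type*} [Group H] [Group V] [MulDistribMulAction H V]

namespace NatAt

variable {A B : Subgroup H} {F : Type} [Field F] {π : V → (Fin 2 → F)}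
  {φ : ↥(A ⊔ B) →* Matrix.SpecialLinearGroup (Fin 2) F} (h : NatAt A B π φ)
include h

theorem exists_ne_one : ∃ a ∈ A, a ≠ 1 ∧ ∀ v, π (a • v) = ![π v 0 + π v 1, π v 1] := by
  obtain ⟨a, ha, h1, h2⟩ := h.exists_u 1
  refine ⟨a, ha, fun h3 => one_ne_zero (h1.1 h3), fun v => ?_⟩
  rw [h2, one_mul]

theorem not_comm : ¬ ∀ a ∈ A, ∀ b ∈ B, a * b = b * a := by
  intro hc
  obtain ⟨a, ha, ha1, -⟩ := h.exists_ne_one
  exact h.cj_B_ne ha ha1 (cj_of_comm fun b hb => hc a ha b hb)

/-- an element of `⟨A, B⟩` acting trivially on the natural module is trivial -/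
theorem eq_one_of_act {x : H} (hx : x ∈ A ⊔ B) (hact : ∀ v, π (x • v) = π v) : x = 1 := by
  have h1 : ∀ w : Fin 2 → F, (φ ⟨x, hx⟩).1.mulVec w = w := by
    intro w
    obtain ⟨v, rfl⟩ := h.surj w
    rw [← h.act]
    exact hact v
  have h2 : φ ⟨x, hx⟩ = 1 := by
    apply Subtype.ext
    show (φ ⟨x, hx⟩).1 = 1
    rw [Matrix.one_fin_two]
    have e0 := h1 ![1, 0]
    have e1 := h1 ![0, 1]
    ext i j
    fin_cases j
    · have := congrFun e0 i
      simp only [Matrix.mulVec, dotProduct, Fin.sum_univ_two] at this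
      fin_cases i <;> simpa using this
    · have := congrFun e1 i
      simp only [Matrix.mulVec, dotProduct, Fin.sum_univ_two] at this
      fin_cases i <;> simpa using this
  have h3 := h.bij.1 (h2.trans (map_one φ).symm)
  exact congrArg Subtype.val h3

/-- every vector is of the form `[v, y]` modulo `C_V(L)` and products -/
theorem exists_d (sq : ∀ v : V, v * v = 1) (w : Fin 2 → F) : ∃ a ∈ A ⊔ B, ∃ b ∈ A ⊔ B, ∃ v v' : V,
    π (d a v * d b v') = w := by
  obtain ⟨a, ha, -, ha'⟩ := h.exists_ne_one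
  obtain ⟨y, hy⟩ := h.bij.2 (SLTwoUnipotent.l 1)
  obtain ⟨v, hv⟩ := h.surj ![0, w 0]
  obtain ⟨v', hv'⟩ := h.surj ![w 1, 0]
  refine ⟨a, mem_sup_left ha, y, y.2, v, v', ?_⟩
  have h1 : π ((y : H) • v') = ![π v' 0, 1 * π v' 0 + π v' 1] := by rw [h.act, hy, l_mulVec]
  rw [h.mul, d, d, h.mul, h.mul, ha', h1, hv, hv']
  have h2 := h.char2 sq (w 0)
  have h3 := h.char2 sq (w 1)
  ext i
  fin_cases i
  · simp [h3]
  · simp [h2]

end NatAt

namespace Out0

variable {T : Sylow 2 H} {k : ℕ} {A B : Fin k → Subgroup H} (o : Out0 V T k A B)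
include o

theorem inv_eq (v : V) : v⁻¹ = v := inv_eq_of_mul_eq_one_left (o.sq v)

theorem smul_eq (x : H) (v : V) : x • v = d x v * v := by rw [d, mul_assoc, o.sq, mul_one]

theorem d_eq_one (x : H) (v : V) : d x v = 1 ↔ x • v = v := by
  rw [d, mul_eq_one_iff_eq_inv, o.inv_eq]

theorem d_mul (x : H) (v w : V) : d x (v * w) = d x v * d x w := by
  rw [d, smul_mul', d, d, mul_assoc, mul_assoc, ← mul_assoc (x • w), o.comm (x • w) v, mul_assoc]

omit o in
theorem smul_d (x y : H) (v : V) : x • d y v = d (x * y * x⁻¹) (x • v) := by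
  rw [d, d, smul_mul', ← mul_smul, ← mul_smul, inv_mul_cancel_right]

theorem not_comm_AB (i : Fin k) : ¬ ∀ a ∈ A i, ∀ b ∈ B i, a * b = b * a := by
  obtain ⟨F, _, _, π, φ, hn⟩ := o.nat i
  exact hn.not_comm

theorem L_inj {i j : Fin k} (hij : A i ⊔ B i = A j ⊔ B j) : i = j := by
  by_contra hne
  apply o.not_comm_AB i
  intro a ha b hb
  have h1 := o.LL i j hne a (mem_sup_left ha) b (by rw [← hij]; exact mem_sup_right hb)
  exact h1

theorem cj_L_of_A {x : H} {i j : Fin k} (h : cj x (A i) = A j) :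
    cj x (A i ⊔ B i) = A j ⊔ B j := by
  obtain ⟨l, hl⟩ := o.cjL x i
  have h1 : l = j := by
    by_contra hne
    apply o.not_comm_AB j
    intro a ha b hb
    have h2 : a ∈ A l ⊔ B l := by
      rw [← hl]
      exact cj_mono le_sup_left (by rw [h]; exact ha)
    exact o.LL l j hne a h2 b (mem_sup_right hb)
  rw [hl, h1]

theorem cj_A_of_L {x : H} (hx : x ∈ T) {i j : Fin k} (h : cj x (A i ⊔ B i) = A j ⊔ B j) :
    cj x (A i) = A j := by
  obtain ⟨l, hl⟩ := o.cjA x hx i
  have h1 := o.cj_L_of_A hl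
  rw [h] at h1
  rw [hl, o.L_inj h1]

end Out0

/-- the stabiliser of the `i`-th summand -/
def Ei (E A : Subgroup H) : Subgroup H := E ⊓ normalizer (A : Set H)

theorem mem_Ei {E A : Subgroup H} {x : H} : x ∈ Ei E A ↔ x ∈ E ∧ cj x A = A := by
  rw [Ei, mem_inf, cj_eq_iff]

theorem Ei_le {E A : Subgroup H} : Ei E A ≤ E := inf_le_left

/-- the kernel on the summand -/
def KE {A B : Subgroup H} {F : Type} [Field F] (π : V → (Fin 2 → F)) (E : Subgroup H)
    {φ : ↥(A ⊔ B) →* Matrix.SpecialLinearGroup (Fin 2) F} (_ : NatAt A B π φ) : Subgroup H where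
  carrier := {x | x ∈ Ei E A ∧ ∀ v, π (x • v) = π v}
  one_mem' := ⟨one_mem _, fun v => by rw [one_smul]⟩
  mul_mem' := by
    rintro x y ⟨hx, hx'⟩ ⟨hy, hy'⟩
    exact ⟨mul_mem hx hy, fun v => by rw [mul_smul, hx', hy']⟩
  inv_mem' := by
    rintro x ⟨hx, hx'⟩
    refine ⟨inv_mem hx, fun v => ?_⟩
    rw [← hx' (x⁻¹ • v), smul_inv_smul]

namespace Out0

variable {T : Sylow 2 H} {k : ℕ} {A B : Fin k → Subgroup H} (o : Out0 V T k A B)
  {i : Fin k} {F : Type} [Field F] {π : V → (Fin 2 → F)}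
  {φ : ↥(A i ⊔ B i) →* Matrix.SpecialLinearGroup (Fin 2) F} (hn : NatAt (A i) (B i) π φ)
  {E : Subgroup H}
include o

theorem mem_KE {x : H} : x ∈ KE π E hn ↔ x ∈ Ei E (A i) ∧ ∀ v, π (x • v) = π v := Iff.rfl

/-- `[V, L_i]` is centralised by `KE` -/
theorem KE_fix {z : H} (hz : z ∈ KE π E hn) {y : H} (hy : y ∈ A i ⊔ B i) (v : V) :
    z • d y v = d y v := by
  obtain ⟨hz1, hz2⟩ := hz
  obtain ⟨hzE, hzA⟩ := mem_Ei.1 hz1
  have hzL := o.cj_L_of_A hzA
  -- `z` commutes with `y`
  have h1 : z * y * z⁻¹ * y⁻¹ ∈ A i ⊔ B i := by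
    have h2 : z * y * z⁻¹ ∈ cj z (A i ⊔ B i) := conj_mem_cj hy
    rw [hzL] at h2
    exact mul_mem h2 (inv_mem hy)
  have h2 : z * y * z⁻¹ * y⁻¹ = 1 := by
    apply hn.eq_one_of_act h1
    intro v
    have hz2' : ∀ v, π (z⁻¹ • v) = π v := fun v => by rw [← hz2 (z⁻¹ • v), smul_inv_smul]
    have hyy : ∀ v w : V, π v = π w → π (y • v) = π (y • w) := by
      intro v w hvw
      rw [hn.act ⟨y, hy⟩, hn.act ⟨y, hy⟩, hvw]
    rw [mul_smul, mul_smul, mul_smul, hz2, hyy _ (y⁻¹ • v) (hz2' _), smul_inv_smul]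
  have h3 : z * y * z⁻¹ = y := by
    rw [mul_inv_eq_one] at h2
    exact h2
  rw [smul_d, h3]
  -- `z • v = v * c`
  have h4 : π (d z v) = 0 := by
    rw [d, hn.mul, hz2]
    exact hn.two o.sq _
  have h5 : d y (d z v) = 1 := (o.d_eq_one _ _).2 ((hn.ker _).1 h4 y hy)
  rw [o.smul_eq z v, o.d_mul, h5, one_mul]

include hn in
/-- elements of `E` outside the stabiliser move `[V, L_i]` into `C_V(L_i)` -/
theorem pi_eq_zero [Finite H] (hET : E ≤ T) {x : H} (hx : x ∈ E) (hxi : x ∉ Ei E (A i)) {y : H}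
    (hy : y ∈ A i ⊔ B i) (v : V) : π (x • d y v) = 0 := by
  obtain ⟨j, hj⟩ := o.cjL x i
  have hji : j ≠ i := by
    rintro rfl
    exact hxi (mem_Ei.2 ⟨hx, o.cj_A_of_L (hET hx) hj⟩)
  rw [smul_d, hn.ker]
  have h1 : x * y * x⁻¹ ∈ A j ⊔ B j := by rw [← hj]; exact conj_mem_cj hy
  intro z hz
  exact o.mod j i hji _ h1 z hz _

/-- the group generated by the `x • [v, y]` -/
def UU (E A B : Subgroup H) (V : Type*) [Group V] [MulDistribMulAction H V] : Subgroup V :=
  closure {w | ∃ x ∈ E, ∃ y ∈ A ⊔ B, ∃ v : V, w = x • d y v}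

omit o in
theorem mem_UU {E A B : Subgroup H} {x y : H} (hx : x ∈ E) (hy : y ∈ A ⊔ B) (v : V) :
    x • d y v ∈ UU E A B V := subset_closure ⟨x, hx, y, hy, v, rfl⟩

/-- (S1) -/
theorem relIndex_UU_le [Finite H] [Finite V] (hc : ∀ x ∈ E, ∀ y ∈ E, x * y = y * x)
    (hsq : ∀ x ∈ E, x * x = 1)
    (hE : (cv V (E : Set H)).index ≤ Nat.card E) :
    (cv V (E : Set H)).relIndex (UU E (A i) (B i) V) ≤ (KE π E hn).relIndex E := by
  set K := KE π E hn with hK
  have hKE : K ≤ E := fun x hx => Ei_le hx.1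
  have hUK : UU E (A i) (B i) V ≤ cv V (K : Set H) := by
    rw [UU, closure_le]
    rintro _ ⟨x, hx, y, hy, v, rfl⟩ z hz
    show z • x • d y v = x • d y v
    rw [← mul_smul, hc z (hKE hz) x hx, mul_smul, o.KE_fix hn hz hy v]
  have hEK : cv V (E : Set H) ≤ cv V (K : Set H) := cv_anti (V := V) hKE
  have h1 : Nat.card K ≤ (cv V (K : Set H)).index := o.noover K fun x hx => hsq x (hKE hx)
  have h2 : (cv V (E : Set H)).relIndex (cv V (K : Set H)) * (cv V (K : Set H)).index = (cv V (E : Set H)).index :=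
    relIndex_mul_index hEK
  have h3 : Nat.card K * K.relIndex E = Nat.card E := by
    rw [← Subgroup.card_mul_index (K.subgroupOf E), ← relIndex]
    congr 1
    exact (Nat.card_congr (subgroupOfEquivOfLe hKE).toEquiv).symm
  have h4 : (cv V (E : Set H)).relIndex (UU E (A i) (B i) V) ≤
      (cv V (E : Set H)).relIndex (cv V (K : Set H)) := by
    apply relIndex_le_of_le_right hUK
    exact index_ne_zero_of_finite
  refine h4.trans ?_
  have hKpos : 0 < Nat.card K := Nat.card_pos
  apply Nat.le_of_mul_le_mul_left _ hKpos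
  calc Nat.card K * (cv V (E : Set H)).relIndex (cv V (K : Set H)) ≤
      (cv V (K : Set H)).index * (cv V (E : Set H)).relIndex (cv V (K : Set H)) := Nat.mul_le_mul_right _ h1
    _ = (cv V (E : Set H)).index := by rw [mul_comm, h2]
    _ ≤ Nat.card E := hE
    _ = Nat.card K * K.relIndex E := h3.symm

end Out0

end Cfsg.Agent.Omega.FF.Glob

end

section


/-!
# The FF-theorem, global part: counting for an elementary abelian subgroup of `T`
-/

set_option autoImplicit false
set_option linter.unusedSectionVars false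

namespace Cfsg.Agent.Omega.FF.Glob

open Subgroup Cfsg.Agent.ClassTwoFusion.Quad Cfsg.Agent.LieClassical Matrix
open scoped Pointwise

variable {H V : Type*} [Group H] [Group V] [MulDistribMulAction H V]

/-- the image of `C_V(E)` in `F²` -/
def CC {A B : Subgroup H} {F : Type} [Field F] {π : V → (Fin 2 → F)}
    {φ : ↥(A ⊔ B) →* Matrix.SpecialLinearGroup (Fin 2) F} (hn : NatAt A B π φ) (E : Subgroup H) :
    AddSubgroup (Fin 2 → F) where
  carrier := {w | ∃ v : V, (∀ x ∈ E, x • v = v) ∧ π v = w}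
  zero_mem' := ⟨1, fun x _ => smul_one x, hn.pi_one⟩
  add_mem' := by
    rintro _ _ ⟨v, hv, rfl⟩ ⟨w, hw, rfl⟩
    exact ⟨v * w, fun x hx => by rw [smul_mul', hv x hx, hw x hx], hn.mul v w⟩
  neg_mem' := by
    rintro _ ⟨v, hv, rfl⟩
    exact ⟨v⁻¹, fun x hx => by rw [smul_inv', hv x hx], hn.pi_inv v⟩

namespace Out0

variable {T : Sylow 2 H} {k : ℕ} {A B : Fin k → Subgroup H} (o : Out0 V T k A B)
  {i : Fin k} {F : Type} [Field F] {π : V → (Fin 2 → F)}
  {φ : ↥(A i ⊔ B i) →* Matrix.SpecialLinearGroup (Fin 2) F} (hn : NatAt (A i) (B i) π φ)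
  {E : Subgroup H}
include o

/-- (S2) -/
theorem pow_le [Finite H] [Finite V] [Finite F] (hET : E ≤ T) :
    Nat.card F ^ (2 * (Ei E (A i)).relIndex E) ≤
      (cv V (E : Set H)).relIndex (UU E (A i) (B i) V) * Nat.card (CC hn E) := by
  classical
  set S := (Ei E (A i)).subgroupOf E with hS
  let r : E ⧸ S → E := Quotient.out
  have hr : ∀ x, (QuotientGroup.mk (r x) : E ⧸ S) = x := fun x => Quotient.out_eq' x
  have hrne : ∀ x y, x ≠ y → (((r y : E) : H)⁻¹ * (r x : H)) ∉ Ei E (A i) := by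
    intro x y hxy hmem
    apply hxy
    have h1 : (QuotientGroup.mk (r y) : E ⧸ S) = QuotientGroup.mk (r x) := by
      rw [QuotientGroup.eq, hS, mem_subgroupOf]
      exact hmem
    rw [hr, hr] at h1
    exact h1.symm
  let ρ : V →* Multiplicative ((E ⧸ S) → Fin 2 → F) :=
    { toFun := fun v => Multiplicative.ofAdd fun x => π (((r x : E) : H)⁻¹ • v)
      map_one' := by
        have : (fun x : E ⧸ S => π (((r x : E) : H)⁻¹ • (1 : V))) = 0 := by
          funext x
          rw [smul_one, hn.pi_one]; rfl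
        rw [this]; rfl
      map_mul' := fun v w => by
        rw [← ofAdd_add]
        congr 1
        funext x
        rw [smul_mul', hn.mul]; rfl }
  have hρ : ∀ v x, (Multiplicative.toAdd (ρ v)) x = π (((r x : E) : H)⁻¹ • v) := fun v x => rfl
  set U := UU E (A i) (B i) V with hU
  let f : U →* Multiplicative ((E ⧸ S) → Fin 2 → F) := ρ.comp U.subtype
  have hf : Function.Surjective f := by
    intro z
    have key : ∀ s : Finset (E ⧸ S), ∃ u : U, ∀ x, (Multiplicative.toAdd (f u)) x =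
        if x ∈ s then Multiplicative.toAdd z x else 0 := by
      intro s
      induction s using Finset.induction_on with
      | empty =>
        refine ⟨1, fun x => ?_⟩
        rw [map_one]
        simp
      | insert y s hy ih =>
        obtain ⟨u, hu⟩ := ih
        obtain ⟨a, ha, b, hb, v, v', hw⟩ := hn.exists_d o.sq (Multiplicative.toAdd z y)
        have hm : ((r y : E) : H) • (d a v * d b v') ∈ U := by
          rw [smul_mul']
          exact mul_mem (mem_UU (r y).2 ha v) (mem_UU (r y).2 hb v')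
        refine ⟨⟨_, hm⟩ * u, fun x => ?_⟩
        rw [map_mul, toAdd_mul, Pi.add_apply, hu]
        have h1 : (Multiplicative.toAdd (f ⟨_, hm⟩)) x =
            π (((r x : E) : H)⁻¹ • ((r y : E) : H) • (d a v * d b v')) := rfl
        rw [h1]
        by_cases hxy : x = y
        · subst hxy
          rw [inv_smul_smul, hw, if_neg hy, if_pos (Finset.mem_insert_self _ _), add_zero]
        · have h2 : π (((r x : E) : H)⁻¹ • ((r y : E) : H) • (d a v * d b v')) = 0 := by
            rw [← mul_smul, smul_mul', hn.mul]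
            have hxE : ((r x : E) : H)⁻¹ * (r y : H) ∈ E := mul_mem (inv_mem (r x).2) (r y).2
            have hxi := hrne y x (fun h => hxy h.symm)
            rw [o.pi_eq_zero hn hET hxE hxi ha, o.pi_eq_zero hn hET hxE hxi hb, add_zero]
          rw [h2, zero_add]
          by_cases hxs : x ∈ s
          · rw [if_pos hxs, if_pos (Finset.mem_insert_of_mem hxs)]
          · rw [if_neg hxs, if_neg (by simp [hxy, hxs])]
    have := Fintype.ofFinite (E ⧸ S)
    obtain ⟨u, hu⟩ := key Finset.univ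
    refine ⟨u, ?_⟩
    apply Multiplicative.toAdd.injective
    funext x
    rw [hu, if_pos (Finset.mem_univ _)]
  set N : Subgroup U := (cv V (E : Set H)).subgroupOf U with hN
  have h1 : (N.map f).index ≤ N.index := by
    apply Nat.le_of_dvd
    · exact Nat.pos_of_ne_zero index_ne_zero_of_finite
    · exact N.index_map_dvd hf
  have h2 : Nat.card (N.map f) ≤ Nat.card (CC hn E) := by
    let x₀ : E ⧸ S := QuotientGroup.mk 1
    have hconst : ∀ z ∈ N.map f, ∀ x, Multiplicative.toAdd z x = Multiplicative.toAdd z x₀ := by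
      rintro _ ⟨u, hu, rfl⟩ x
      have hu' : ∀ y ∈ E, y • (u : V) = u := hu
      show π (((r x : E) : H)⁻¹ • (u : V)) = π (((r x₀ : E) : H)⁻¹ • (u : V))
      rw [hu' _ (inv_mem (r x).2), hu' _ (inv_mem (r x₀).2)]
    refine Nat.card_le_card_of_injective
      (fun z : N.map f => (⟨Multiplicative.toAdd z.1 x₀, ?_⟩ : CC hn E)) ?_
    · obtain ⟨u, hu, hz⟩ := z.2
      have hu' : ∀ y ∈ E, y • (u : V) = u := hu
      refine ⟨u, hu', ?_⟩
      rw [← hz]
      show π (u : V) = π (((r x₀ : E) : H)⁻¹ • (u : V))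
      rw [hu' _ (inv_mem (r x₀).2)]
    · intro z z' hzz
      have h3 : Multiplicative.toAdd z.1 x₀ = Multiplicative.toAdd z'.1 x₀ := congrArg Subtype.val hzz
      apply Subtype.ext
      apply Multiplicative.toAdd.injective
      funext x
      rw [hconst z.1 z.2 x, hconst z'.1 z'.2 x, h3]
  have h3 : Nat.card (Multiplicative ((E ⧸ S) → Fin 2 → F)) = Nat.card F ^ (2 * (Ei E (A i)).relIndex E) := by
    have e1 : Nat.card (Multiplicative ((E ⧸ S) → Fin 2 → F)) = Nat.card ((E ⧸ S) → Fin 2 → F) :=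
      Nat.card_congr Multiplicative.toAdd
    rw [e1, Nat.card_fun, Nat.card_fun, Nat.card_eq_fintype_card (α := Fin 2), Fintype.card_fin, ← pow_mul]
    rfl
  rw [← h3, ← (N.map f).index_mul_card]
  exact Nat.mul_le_mul h1 h2

end Out0

end Cfsg.Agent.Omega.FF.Glob

end

section


/-!
# The FF-theorem, global part: every best offender in `T` acts on every summand as a subgroup of `A i`
-/

set_option autoImplicit false
set_option linter.unusedSectionVars false

namespace Cfsg.Agent.Omega.FF.Glob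

open Subgroup Cfsg.Agent.ClassTwoFusion.Quad Cfsg.Agent.LieClassical Matrix
open scoped Pointwise

variable {H V : Type*} [Group H] [Group V] [MulDistribMulAction H V]

/-- the elements acting linearly on the summand -/
def LE {A B : Subgroup H} {F : Type} [Field F] (π : V → (Fin 2 → F)) (E : Subgroup H)
    {φ : ↥(A ⊔ B) →* Matrix.SpecialLinearGroup (Fin 2) F} (_ : NatAt A B π φ) : Subgroup H where
  carrier := {x | x ∈ Ei E A ∧ ∃ c : F, ∀ v, π (x • v) = ![π v 0 + c * π v 1, π v 1]}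
  one_mem' := ⟨one_mem _, 0, fun v => by
    rw [one_smul, zero_mul, add_zero]
    ext i; fin_cases i <;> rfl⟩
  mul_mem' := by
    rintro x y ⟨hx, c, hc⟩ ⟨hy, e, he⟩
    refine ⟨mul_mem hx hy, c + e, fun v => ?_⟩
    rw [mul_smul, hc, he]
    ext i; fin_cases i
    · simp; ring
    · simp
  inv_mem' := by
    rintro x ⟨hx, c, hc⟩
    refine ⟨inv_mem hx, -c, fun v => ?_⟩
    have h1 := hc (x⁻¹ • v)
    rw [smul_inv_smul] at h1
    have h2 := congrFun h1 0
    have h3 := congrFun h1 1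
    simp only [cons_val_zero, cons_val_one] at h2 h3
    ext i; fin_cases i
    · simp [h2, h3]
    · simp [h3]

namespace Out0

variable {T : Sylow 2 H} {k : ℕ} {A B : Fin k → Subgroup H} (o : Out0 V T k A B)
  {i : Fin k} {F : Type} [Field F] {π : V → (Fin 2 → F)}
  {φ : ↥(A i ⊔ B i) →* Matrix.SpecialLinearGroup (Fin 2) F} (hn : NatAt (A i) (B i) π φ)
  {E : Subgroup H}
include o

include hn in
theorem eq_one_of_sq {a : F} (ha : a * a = 1) : a = 1 := by
  have h2 := hn.char2 o.sq (1 : F)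
  have h3 : (a - 1) * (a - 1) = 0 := by
    have h4 := hn.char2 o.sq a
    calc (a - 1) * (a - 1) = (a * a - 1) - (a + a) + (1 + 1) := by ring
      _ = 0 := by rw [ha, h4, h2]; ring
  have h5 := mul_self_eq_zero.1 h3
  exact sub_eq_zero.1 h5

include hn in
/-- an involution acting upper triangular and linearly is in `LE` -/
theorem lin_of {x : H} (hxx : x * x = 1) {α γ δ : F} 
    (hact : ∀ v, π (x • v) = ![α * π v 0 + γ * π v 1, δ * π v 1]) :
    ∀ v, π (x • v) = ![π v 0 + γ * π v 1, π v 1] := by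
  have hxx' : ∀ v : V, x • x • v = v := fun v => by rw [← mul_smul, hxx, one_smul]
  have hα : α = 1 := by
    apply eq_one_of_sq o hn
    obtain ⟨v, hv⟩ := hn.surj ![1, 0]
    have h1 := hact (x • v)
    rw [hxx', hact, hv] at h1
    have h2 := congrFun h1 0
    simp at h2
    exact h2.symm
  have hδ : δ = 1 := by
    apply eq_one_of_sq o hn
    obtain ⟨v, hv⟩ := hn.surj ![0, 1]
    have h1 := hact (x • v)
    rw [hxx', hact, hv] at h1
    have h2 := congrFun h1 1
    simp at h2
    exact h2.symm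
  intro v
  rw [hact, hα, hδ, one_mul, one_mul]

include hn in
theorem s_sq {x : H} (hxx : x * x = 1) {s : F ≃+* F} {α γ δ : F}
    (hact : ∀ v, π (x • v) = ![α * s (π v 0) + γ * s (π v 1), δ * s (π v 1)]) : ∀ c, s (s c) = c := by
  have hxx' : ∀ v : V, x • x • v = v := fun v => by rw [← mul_smul, hxx, one_smul]
  have h1 : ∀ c, δ * (s δ * s (s c)) = c := by
    intro c
    obtain ⟨v, hv⟩ := hn.surj ![0, c]
    have h1 := hact (x • v)
    rw [hxx', hact, hv] at h1
    have h2 := congrFun h1 1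
    simp at h2
    exact h2.symm
  have h2 : δ * s δ = 1 := by
    have := h1 1
    rwa [map_one, map_one, mul_one] at this
  intro c
  have h3 := h1 c
  rw [← mul_assoc, h2, one_mul] at h3
  exact h3

/-- the form of the elements of `Ei` -/
theorem exists_tri [Finite F] {x : H} (hx : x ∈ Ei E (A i)) (hxx : x * x = 1) (hxL : x ∉ LE π E hn) :
    ∃ (s : F ≃+* F) (α γ δ : F), (∀ v, π (x • v) = ![α * s (π v 0) + γ * s (π v 1), δ * s (π v 1)]) ∧
      (∀ c, s (s c) = c) ∧ ∃ c, s c ≠ c := by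
  obtain ⟨-, hxA⟩ := mem_Ei.1 hx
  obtain ⟨s, α, γ, δ, -, -, hact⟩ := hn.exists_tri (o.cj_L_of_A hxA) hxA
  refine ⟨s, α, γ, δ, hact, s_sq o hn hxx hact, ?_⟩
  by_contra hc
  push Not at hc
  apply hxL
  refine ⟨hx, γ, lin_of o hn hxx (α := α) (δ := δ) fun v => ?_⟩
  rw [hact, hc, hc]

/-- `|Ei : LE| ≤ 2` -/
theorem relIndex_LE_le [Finite H] [Finite F] (hsq : ∀ x ∈ E, x * x = 1) :
    (LE π E hn).relIndex (Ei E (A i)) ≤ 2 ∧ ((LE π E hn).relIndex (Ei E (A i)) ≠ 1 → ∃ x, x ∈ Ei E (A i) ∧ x ∉ LE π E hn) := by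
  constructor
  · by_cases hall : ∀ x ∈ Ei E (A i), x ∈ LE π E hn
    · rw [relIndex_eq_one.2 hall]; norm_num
    · push Not at hall
      obtain ⟨a, ha, haL⟩ := hall
      apply le_of_eq
      rw [relIndex, index_eq_two_iff]
      refine ⟨⟨a, ha⟩, fun b => ?_⟩
      rw [mem_subgroupOf, mem_subgroupOf]
      show Xor (((b : H) * a) ∈ LE π E hn) ((b : H) ∈ LE π E hn)
      by_cases hb : (b : H) ∈ LE π E hn
      · right
        refine ⟨hb, fun h1 => haL ?_⟩
        have h2 := mul_mem (inv_mem hb) h1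
        rwa [inv_mul_cancel_left] at h2
      · left
        refine ⟨?_, hb⟩
        have haa := hsq a (Ei_le ha)
        have hbb := hsq b (Ei_le b.2)
        obtain ⟨s, α, γ, δ, hact, hs, hs1⟩ := o.exists_tri hn ha haa haL
        obtain ⟨s', α', γ', δ', hact', hs', hs1'⟩ := o.exists_tri hn b.2 hbb hb
        have hss : s' = s := ringAut_inv_unique hs' hs hs1' hs1
        subst hss
        have hba : ((b : H) * a) * ((b : H) * a) = 1 := hsq _ (mul_mem (Ei_le b.2) (Ei_le ha))
        refine ⟨mul_mem b.2 ha, α' * s' γ + γ' * s' δ, lin_of o hn hba (α := α' * s' α) (δ := δ' * s' δ) fun v => ?_⟩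
        rw [mul_smul, hact', hact]
        ext j
        fin_cases j
        · simp [hs]; ring
        · simp [hs]; ring
  · intro h1
    by_contra hc
    push Not at hc
    exact h1 (relIndex_eq_one.2 hc)

theorem KE_le_LE : KE π E hn ≤ LE π E hn := by
  rintro x ⟨hx, hx'⟩
  refine ⟨hx, 0, fun v => ?_⟩
  rw [hx', zero_mul, add_zero]
  ext i; fin_cases i <;> rfl

/-- `x ↦ c` on `LE` -/
theorem exists_gam [Finite H] : ∃ g : LE π E hn →* Multiplicative F, g.ker = (KE π E hn).subgroupOf (LE π E hn) ∧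
    ∀ x : LE π E hn, ∀ v, π ((x : H) • v) = ![π v 0 + Multiplicative.toAdd (g x) * π v 1, π v 1] := by
  have hex : ∀ x : LE π E hn, ∃ c : F, ∀ v, π ((x : H) • v) = ![π v 0 + c * π v 1, π v 1] := fun x => x.2.2
  choose c hc using hex
  have huniq : ∀ (x : LE π E hn) (e : F), (∀ v, π ((x : H) • v) = ![π v 0 + e * π v 1, π v 1]) → c x = e := by
    intro x e he
    obtain ⟨v, hv⟩ := hn.surj ![0, 1]
    have h1 := hc x v
    rw [he, hv] at h1
    have h2 := congrFun h1 0
    simp at h2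
    exact h2.symm
  refine ⟨MonoidHom.mk' (fun x => Multiplicative.ofAdd (c x)) fun x y => ?_, ?_, hc⟩
  · show Multiplicative.ofAdd (c (x * y)) = Multiplicative.ofAdd (c x) * Multiplicative.ofAdd (c y)
    rw [← ofAdd_add]
    congr 1
    apply huniq
    intro v
    rw [Subgroup.coe_mul, mul_smul, hc, hc]
    ext i; fin_cases i
    · simp; ring
    · simp
  · ext x
    rw [MonoidHom.mem_ker, mem_subgroupOf]
    show Multiplicative.ofAdd (c x) = 1 ↔ _
    constructor
    · intro h1
      have h2 : c x = 0 := Multiplicative.ofAdd.injective (h1.trans ofAdd_zero.symm)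
      refine ⟨x.2.1, fun v => ?_⟩
      rw [hc, h2, zero_mul, add_zero]
      ext i; fin_cases i <;> rfl
    · rintro ⟨-, h1⟩
      rw [huniq x 0 fun v => by
        rw [h1, zero_mul, add_zero]
        ext i; fin_cases i <;> rfl]
      rfl

/-- (S4) -/
theorem count [Finite H] [Finite V] [Finite F] (hc : ∀ x ∈ E, ∀ y ∈ E, x * y = y * x)
    (hsq : ∀ x ∈ E, x * x = 1) :
    (KE π E hn).relIndex (LE π E hn) * Nat.card (CC hn E) ≤ Nat.card F * Nat.card F ∧
    ((∃ x, x ∈ Ei E (A i) ∧ x ∉ LE π E hn) →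
      4 * ((KE π E hn).relIndex (LE π E hn) * Nat.card (CC hn E)) ≤ Nat.card F * Nat.card F) := by
  obtain ⟨g, hg, hgact⟩ := o.exists_gam hn (E := E)
  have hrel : (KE π E hn).relIndex (LE π E hn) = Nat.card g.range := by
    rw [relIndex, ← hg, index_ker]
  have hrange : Nat.card g.range ≤ Nat.card F := by
    refine (Nat.card_le_card_of_injective (fun w : g.range => Multiplicative.toAdd w.1) ?_)
    intro w w' h1
    exact Subtype.ext (Multiplicative.toAdd.injective h1)
  -- if `LE` is not trivial on the summand, the fixed points are on the line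
  have hline : Nat.card g.range ≠ 1 → ∀ w ∈ CC hn E, w 1 = 0 := by
    intro h1 w hw
    obtain ⟨x, hx⟩ : ∃ x, g x ≠ 1 := by
      by_contra hcon
      push Not at hcon
      apply h1
      have : g.range = ⊥ := by
        rw [eq_bot_iff]
        rintro _ ⟨x, rfl⟩
        exact mem_bot.2 (hcon x)
      rw [this, card_bot]
    obtain ⟨v, hv, rfl⟩ := hw
    have h2 := hgact x v
    rw [hv x (Ei_le x.2.1)] at h2
    have h3 := congrFun h2 0
    simp only [cons_val_zero] at h3
    have h4 : Multiplicative.toAdd (g x) ≠ 0 := fun h5 => hx (Multiplicative.toAdd.injective h5)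
    have h5 : Multiplicative.toAdd (g x) * π v 1 = 0 := by linear_combination -h3
    exact (mul_eq_zero.1 h5).resolve_left h4
  rw [hrel]
  constructor
  · by_cases h1 : Nat.card g.range = 1
    · rw [h1, one_mul]
      exact card_all_le _
    · exact Nat.mul_le_mul hrange (card_line_le (hline h1))
  · rintro ⟨b, hb, hbL⟩
    have hbE : b ∈ E := Ei_le hb
    obtain ⟨s, α, γ, δ, hact, hs, hs1⟩ := o.exists_tri hn hb (hsq b hbE) hbL
    have hc2 := two_mul_card_FixS hs1
    set c := Nat.card (FixS s 1) with hcdef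
    have hfix : ∀ w ∈ CC hn E, α * s (w 0) + γ * s (w 1) = w 0 ∧ δ * s (w 1) = w 1 := by
      rintro _ ⟨v, hv, rfl⟩
      have h2 := hact v
      rw [hv b hbE] at h2
      have h3 := congrFun h2 0
      have h4 := congrFun h2 1
      simp only [cons_val_zero, cons_val_one] at h3 h4
      exact ⟨h3.symm, h4.symm⟩
    have hmain : Nat.card g.range * Nat.card (CC hn E) ≤ c * c := by
      by_cases h1 : Nat.card g.range = 1
      · rw [h1, one_mul]
        exact card_fix_le s hfix
      · apply Nat.mul_le_mul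
        · -- `γ_x` is a fixed point of a semilinear map
          have hα : α ≠ 0 := by
            rintro rfl
            obtain ⟨v, hv⟩ := hn.surj ![1, 0]
            have h2 := hact v
            have h3 : π (b • v) = 0 := by
              rw [h2, hv]; ext j; fin_cases j <;> simp
            have h4 := hact (b • v)
            rw [← mul_smul, hsq b hbE, one_smul, h3, hv] at h4
            have h5 := congrFun h4 0
            simp at h5
          have hδ : δ ≠ 0 := by
            rintro rfl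
            obtain ⟨v, hv⟩ := hn.surj ![0, 1]
            have h2 := hact v
            have h3 : π (b • v) 1 = 0 := by
              rw [h2]; simp
            have h4 := hact (b • v)
            rw [← mul_smul, hsq b hbE, one_smul, hv] at h4
            have h5 := congrFun h4 1
            simp at h5
          refine le_trans ?_ (card_FixS_le s (α / δ))
          refine (Nat.card_le_card_of_injective
            (fun w : g.range => (⟨Multiplicative.toAdd w.1, ?_⟩ : FixS s (α / δ))) ?_)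
          · obtain ⟨x, hx⟩ := w.2
            rw [← hx]
            set z := Multiplicative.toAdd (g x) with hz
            show α / δ * s z = z
            obtain ⟨v, hv⟩ := hn.surj ![0, 1]
            have e1 : b • (x : H) • v = (x : H) • b • v := by
              rw [← mul_smul, hc b hbE x (Ei_le x.2.1), mul_smul]
            have e2 := congrArg π e1
            rw [hact, hgact, hgact, hact, hv] at e2
            have e3 := congrFun e2 0
            simp at e3
            have e4 : α * s z = δ * z := by linear_combination e3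
            field_simp
            exact e4
          · intro w w' h1
            have h9 : Multiplicative.toAdd w.1 = Multiplicative.toAdd w'.1 :=
              congrArg (fun z : FixS s (α / δ) => z.1) h1
            exact Subtype.ext (Multiplicative.toAdd.injective h9)
        · exact card_fix_le' s (fun w hw => (hfix w hw).1) (hline h1)
    calc 4 * (Nat.card g.range * Nat.card (CC hn E)) ≤ 4 * (c * c) := Nat.mul_le_mul le_rfl hmain
      _ = (2 * c) * (2 * c) := by ring
      _ ≤ Nat.card F * Nat.card F := Nat.mul_le_mul hc2 hc2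

/-- **every best offender acts on every summand as a subgroup of `A i`** -/
theorem lin_of_off [Finite H] [Finite V] [Finite F] (hET : E ≤ T) (hc : ∀ x ∈ E, ∀ y ∈ E, x * y = y * x)
    (hsq : ∀ x ∈ E, x * x = 1) (hE : (cv V (E : Set H)).index ≤ Nat.card E) : ∀ x ∈ E, x ∈ LE π E hn := by
  set n := (Ei E (A i)).relIndex E with hn'
  have hnpos : 0 < n := Nat.pos_of_ne_zero index_ne_zero_of_finite
  have hF4 : 4 ≤ Nat.card F := by rw [hn.card_F]; exact o.card4 i
  have h1 := o.relIndex_UU_le hn hc hsq hE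
  have h2 := o.pow_le hn hET
  have h3 : Nat.card F ^ (2 * n) ≤ (KE π E hn).relIndex E * Nat.card (CC hn E) :=
    h2.trans (Nat.mul_le_mul_right _ h1)
  have hLEi : LE π E hn ≤ Ei E (A i) := fun x hx => hx.1
  have h4 : (KE π E hn).relIndex E = (KE π E hn).relIndex (LE π E hn) * (LE π E hn).relIndex (Ei E (A i)) * n := by
    rw [relIndex_mul_relIndex _ _ _ (o.KE_le_LE hn) hLEi,
      relIndex_mul_relIndex _ _ _ ((o.KE_le_LE hn).trans hLEi) Ei_le]
  obtain ⟨h5, h6⟩ := o.count hn hc hsq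
  obtain ⟨h7, h8⟩ := o.relIndex_LE_le hn hsq
  set r := (KE π E hn).relIndex (LE π E hn) with hr
  set t := (LE π E hn).relIndex (Ei E (A i)) with ht
  set C := Nat.card (CC hn E) with hC
  set Q := Nat.card F with hQ
  have hQpos : 0 < Q := by omega
  rw [h4] at h3
  have hpow : Q ^ (2 * n) = Q * Q * (Q * Q) ^ (n - 1) := by
    obtain ⟨m, hm⟩ : ∃ m, n = m + 1 := ⟨n - 1, by omega⟩
    rw [hm, Nat.add_sub_cancel, pow_mul, pow_two, pow_succ, mul_comm]
  have hbig : n ≤ (Q * Q) ^ (n - 1) ∧ (1 < n → n < (Q * Q) ^ (n - 1)) := by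
    have h16 : 16 ≤ Q * Q := by nlinarith
    obtain ⟨m, hm⟩ : ∃ m, n = m + 1 := ⟨n - 1, by omega⟩
    rw [hm, Nat.add_sub_cancel]
    have h9 : m < 16 ^ m := Nat.lt_pow_self (by norm_num)
    have h10 : 16 ^ m ≤ (Q * Q) ^ m := Nat.pow_le_pow_left h16 m
    refine ⟨by omega, fun h11 => ?_⟩
    have h12 : 1 ≤ m := by omega
    have h13 : m + 1 < 16 ^ m := by
      obtain ⟨l, rfl⟩ : ∃ l, m = l + 1 := ⟨m - 1, by omega⟩
      have h14 : l < 16 ^ l := Nat.lt_pow_self (by norm_num)
      rw [pow_succ]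
      have : 1 ≤ 16 ^ l := Nat.one_le_pow _ _ (by norm_num)
      omega
    omega
  have hQQ : 0 < Q * Q := Nat.mul_pos hQpos hQpos
  by_cases hcase : ∃ x, x ∈ Ei E (A i) ∧ x ∉ LE π E hn
  · exfalso
    have h9 := h6 hcase
    have h10 : 2 * (r * t * n * C) ≤ Q * Q * n := by
      calc 2 * (r * t * n * C) = 2 * t * n * (r * C) := by ring
        _ ≤ 2 * 2 * n * (r * C) := by gcongr
        _ = n * (4 * (r * C)) := by ring
        _ ≤ n * (Q * Q) := Nat.mul_le_mul le_rfl h9
        _ = Q * Q * n := by ring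
    have h11 : 2 * (Q * Q * (Q * Q) ^ (n - 1)) ≤ Q * Q * n := by
      rw [← hpow]
      exact (Nat.mul_le_mul le_rfl h3).trans h10
    have h12 : Q * Q * (2 * (Q * Q) ^ (n - 1)) ≤ Q * Q * n := by
      calc Q * Q * (2 * (Q * Q) ^ (n - 1)) = 2 * (Q * Q * (Q * Q) ^ (n - 1)) := by ring
        _ ≤ Q * Q * n := h11
    have h13 := Nat.le_of_mul_le_mul_left h12 hQQ
    have := hbig.1
    omega
  · push Not at hcase
    have ht1 : t = 1 := by
      by_contra h9
      obtain ⟨x, hx, hx'⟩ := h8 h9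
      exact hx' (hcase x hx)
    have h10 : Q * Q * (Q * Q) ^ (n - 1) ≤ Q * Q * n := by
      calc Q * Q * (Q * Q) ^ (n - 1) = Q ^ (2 * n) := hpow.symm
        _ ≤ r * t * n * C := h3
        _ = n * (r * C) := by rw [ht1]; ring
        _ ≤ n * (Q * Q) := Nat.mul_le_mul le_rfl h5
        _ = Q * Q * n := by ring
    have h11 := Nat.le_of_mul_le_mul_left h10 hQQ
    have hn1 : n = 1 := by
      by_contra h12
      have := hbig.2 (by omega)
      omega
    intro x hx
    apply hcase
    exact relIndex_eq_one.1 hn1 hx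

end Out0

end Cfsg.Agent.Omega.FF.Glob

end

section


/-!
# The FF-theorem, global part: every best offender in `T` is a product of the `A i`
-/

set_option autoImplicit false
set_option linter.unusedSectionVars false

namespace Cfsg.Agent.Omega.FF.Glob

open Subgroup Cfsg.Agent.ClassTwoFusion.Quad Cfsg.Agent.LieClassical Matrix
open scoped Pointwise

variable {H V : Type*} [Group H] [Group V] [MulDistribMulAction H V]

namespace Out0

variable {T : Sylow 2 H} {k : ℕ} {A B : Fin k → Subgroup H} (o : Out0 V T k A B)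
include o

/-! ### `H` acts faithfully on `V / ⋂ C_V(L i)` -/

/-- the product of the `L i` -/
def LX (A B : Fin k → Subgroup H) : Subgroup H := ⨆ i, (A i ⊔ B i)

omit o in
theorem le_LX {A B : Fin k → Subgroup H} (i : Fin k) : A i ⊔ B i ≤ LX A B := le_iSup (fun i => A i ⊔ B i) i

theorem LX_sup : LX A B ⊔ T = ⊤ :=
  o.gen _ le_sup_right fun i => (le_LX i).trans le_sup_left

theorem LX_normal : (LX A B).Normal := by
  rw [← normalizer_eq_top_iff, eq_top_iff]
  intro g _
  rw [← cj_eq_iff]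
  have key : ∀ g : H, cj g (LX A B) ≤ LX A B := by
    intro g
    rw [cj_le_iff]
    apply iSup_le
    intro i
    rw [← cj_le_iff]
    obtain ⟨j, hj⟩ := o.cjL g i
    rw [hj]
    exact le_LX j
  apply le_antisymm (key g)
  have h1 := key g⁻¹
  rwa [cj_le_iff, inv_inv] at h1

theorem isPGroup_quot : ∀ x : H, ∃ m : ℕ, x ^ 2 ^ m ∈ LX A B := by
  intro x
  have hN : (LX A B).Normal := o.LX_normal
  let f : T →* H ⧸ LX A B := (QuotientGroup.mk' _).comp (T : Subgroup H).subtype
  have hf : Function.Surjective f := by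
    intro z
    obtain ⟨y, rfl⟩ := QuotientGroup.mk_surjective z
    have hy : y ∈ LX A B ⊔ T := by rw [o.LX_sup]; trivial
    obtain ⟨l, hl, t, ht, rfl⟩ := mem_sup_of_normal_left.1 hy
    refine ⟨⟨t, ht⟩, ?_⟩
    show (QuotientGroup.mk t : H ⧸ LX A B) = QuotientGroup.mk (l * t)
    rw [QuotientGroup.mk_mul, (QuotientGroup.eq_one_iff l).2 hl, one_mul]
  have h1 : IsPGroup 2 (H ⧸ LX A B) := T.isPGroup'.of_surjective f hf
  obtain ⟨m, hm⟩ := h1 (QuotientGroup.mk x)
  refine ⟨m, ?_⟩
  rw [← QuotientGroup.mk_pow, QuotientGroup.eq_one_iff] at hm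
  exact hm

/-- the kernel of `H` on `V / ⋂ C_V(L i)` -/
def NN (o : Out0 V T k A B) : Subgroup H where
  carrier := {z | ∀ i, ∀ v : V, ∀ y ∈ A i ⊔ B i, y • d z v = d z v}
  one_mem' := by
    intro i v y _
    rw [(o.d_eq_one 1 v).2 (one_smul _ _), smul_one]
  mul_mem' := by
    intro x x' hx hx' i v y hy
    have e1 : d (x * x') v = d x (x' • v) * d x' v := by
      rw [d, d, d, mul_smul, mul_assoc, ← mul_assoc (x' • v), o.sq, one_mul]
    rw [e1, smul_mul', hx i _ y hy, hx' i _ y hy]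
  inv_mem' := by
    intro x hx i v y hy
    have e1 : d x⁻¹ v = d x (x⁻¹ • v) := by
      rw [d, d, smul_inv_smul, o.comm]
    rw [e1]
    exact hx i _ y hy

theorem eq_one_of_NN [Finite H] {z : H} (hz : z ∈ o.NN) : z = 1 := by
  have hNn : (o.NN).Normal := by
    constructor
    intro z hz g i v y hy
    obtain ⟨j, hj⟩ := o.cjL g⁻¹ i
    have h1 : cj g (A j ⊔ B j) = A i ⊔ B i := by rw [← hj, cj_cj_inv]
    have h2 : d (g * z * g⁻¹) v = g • d z (g⁻¹ • v) := by
      rw [d, d, smul_mul', smul_inv_smul, ← mul_smul, ← mul_smul]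
    rw [h2]
    have h3 : ∀ x ∈ cj g (A j ⊔ B j), x • (g • d z (g⁻¹ • v)) = g • d z (g⁻¹ • v) := by
      rw [smul_fix_cj, inv_smul_smul]
      exact hz j _
    rw [h1] at h3
    exact h3 y hy
  have hXn := o.LX_normal
  have h0 : (o.NN ⊓ LX A B).Normal := inferInstance
  have hfix : ∀ z ∈ o.NN, ∀ v : V, ∀ y ∈ LX A B, y • d z v = d z v := by
    intro z hz v y hy
    have h1 : LX A B ≤ MulAction.stabilizer H (d z v) := iSup_le fun i y hy => hz i v y hy
    exact h1 hy
  have h1 : o.NN ⊓ LX A B = ⊥ := by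
    apply o.core _ h0
    intro z
    refine ⟨1, Subtype.ext ?_⟩
    rw [pow_one, pow_two]
    show (z : H) * z = 1
    apply o.faith
    intro v
    have h2 := hfix z z.2.1 v z z.2.2
    rw [mul_smul, o.smul_eq z v, smul_mul', h2, o.smul_eq z v, ← mul_assoc, o.sq, one_mul]
  have h2 : o.NN = ⊥ := by
    apply o.core _ hNn
    intro z
    obtain ⟨m, hm⟩ := o.isPGroup_quot (z : H)
    refine ⟨m, Subtype.ext ?_⟩
    have h3 : (z : H) ^ 2 ^ m ∈ o.NN ⊓ LX A B := ⟨pow_mem z.2 _, hm⟩
    rw [h1, mem_bot] at h3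
    exact h3
  rw [h2, mem_bot] at hz
  exact hz

/-! ### the product of the `A i` -/

theorem sq_A (i : Fin k) : ∀ a ∈ A i, a * a = 1 := by
  intro a ha
  obtain ⟨F, _, _, π, φ, hn⟩ := o.nat i
  apply hn.eq_one_of_act (mem_sup_left (mul_mem ha ha))
  intro v
  obtain ⟨c, -, hc⟩ := hn.u_act ha
  rw [mul_smul, hc, hc]
  have := hn.char2 o.sq (c * π v 1)
  ext j
  fin_cases j
  · simp [add_assoc, this]
  · simp

theorem comm_A (i j : Fin k) : ∀ a ∈ A i, ∀ b ∈ A j, a * b = b * a := by
  intro a ha b hb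
  by_cases hij : i = j
  · subst hij
    have h1 := o.sq_A i _ (mul_mem ha hb)
    have h2 := o.sq_A i _ ha
    have h3 := o.sq_A i _ hb
    calc a * b = a * (a * b * (a * b)) * b := by rw [h1, mul_one]
      _ = (a * a) * (b * a) * (b * b) := by group
      _ = b * a := by rw [h2, h3, one_mul, mul_one]
  · exact o.LL i j hij a (mem_sup_left ha) b (mem_sup_left hb)

theorem sup_comm (I : Set (Fin k)) : ∀ x ∈ (⨆ i ∈ I, A i), ∀ y ∈ (⨆ i ∈ I, A i), x * y = y * x := by
  have h1 : ∀ j, ∀ b ∈ A j, ∀ x ∈ (⨆ i ∈ I, A i), x * b = b * x := by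
    intro j b hb
    have h2 : (⨆ i ∈ I, A i) ≤ centralizer ({b} : Set H) := by
      apply iSup₂_le
      intro i _ a ha
      rw [mem_centralizer_singleton_iff]
      exact o.comm_A i j a ha b hb
    intro x hx
    exact mem_centralizer_singleton_iff.1 (h2 hx)
  intro x hx
  have h2 : (⨆ i ∈ I, A i) ≤ centralizer ({x} : Set H) := by
    apply iSup₂_le
    intro i _ a ha
    rw [mem_centralizer_singleton_iff]
    exact (h1 i a ha x hx).symm
  intro y hy
  exact (mem_centralizer_singleton_iff.1 (h2 hy)).symm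

theorem sup_sq (I : Set (Fin k)) : ∀ x ∈ (⨆ i ∈ I, A i), x * x = 1 := by
  let K : Subgroup H :=
    { carrier := {x | x ∈ (⨆ i ∈ I, A i) ∧ x * x = 1}
      one_mem' := ⟨one_mem _, one_mul 1⟩
      mul_mem' := by
        rintro x y ⟨hx, hx'⟩ ⟨hy, hy'⟩
        refine ⟨mul_mem hx hy, ?_⟩
        rw [mul_assoc, ← mul_assoc y, o.sup_comm I y hy x hx, mul_assoc x, hy', mul_one, hx']
      inv_mem' := by
        rintro x ⟨hx, hx'⟩
        refine ⟨inv_mem hx, ?_⟩
        rw [← _root_.mul_inv_rev, hx', inv_one] }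
  have h1 : (⨆ i ∈ I, A i) ≤ K := by
    apply iSup₂_le
    intro i hi a ha
    exact ⟨(le_iSup₂_of_le i hi le_rfl : A i ≤ ⨆ i ∈ I, A i) ha, o.sq_A i a ha⟩
  exact fun x hx => (h1 hx).2

/-- **every best offender in `T` is a product of the `A i`** -/
theorem off [Finite H] [Finite V] {E : Subgroup H} (hET : E ≤ T) (hc : ∀ x ∈ E, ∀ y ∈ E, x * y = y * x)
    (hsq : ∀ x ∈ E, x * x = 1) (hE : (cv V (E : Set H)).index ≤ Nat.card E) :
    ∃ I : Set (Fin k), E = ⨆ i ∈ I, A i := by
  classical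
  have hnat := o.nat
  choose F hF hFt π φ hn using hnat
  set I : Set (Fin k) := {i | ∃ x ∈ E, ∃ v, π i (x • v) ≠ π i v} with hI
  refine ⟨I, ?_⟩
  have hlin : ∀ i, ∀ x ∈ E, ∃ c : F i, ∀ v, π i (x • v) = ![π i v 0 + c * π i v 1, π i v 1] := by
    intro i x hx
    exact (o.lin_of_off (hn i) hET hc hsq hE x hx).2
  -- elements of other `L j` act trivially on the `i`-th summand
  have hother : ∀ i j, j ≠ i → ∀ z ∈ A j ⊔ B j, ∀ v, π i (z • v) = π i v := by
    intro i j hji z hz v
    have h1 : π i (d z v) = 0 := ((hn i).ker _).2 fun y hy => o.mod j i hji z hz y hy v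
    rw [d, (hn i).mul] at h1
    have h2 := (hn i).two o.sq (π i v)
    calc π i (z • v) = π i (z • v) + (π i v + π i v) := by rw [h2, add_zero]
      _ = π i v := by rw [← add_assoc, h1, zero_add]
  have hle : E ≤ ⨆ i ∈ I, A i := by
    intro x hx
    have hex : ∀ i, ∃ a ∈ A i, (∀ v, π i (x • v) = π i (a • v)) ∧ (i ∉ I → a = 1) := by
      intro i
      obtain ⟨c, hc'⟩ := hlin i x hx
      obtain ⟨a, ha, ha0, hact⟩ := (hn i).exists_u c
      refine ⟨a, ha, fun v => by rw [hc', hact], fun hi => ?_⟩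
      rw [ha0]
      by_contra hc0
      apply hi
      obtain ⟨v, hv⟩ := (hn i).surj ![0, 1]
      refine ⟨x, hx, v, fun h1 => hc0 ?_⟩
      rw [hc', hv] at h1
      have h2 := congrFun h1 0
      simpa using h2
    choose a ha hact ha1 using hex
    have key : ∀ s : Finset (Fin k), ∃ y ∈ (⨆ i ∈ I, A i), ∀ i v, π i (y • v) =
        if i ∈ s then π i (a i • v) else π i v := by
      intro s
      induction s using Finset.induction_on with
      | empty => exact ⟨1, one_mem _, fun i v => by simp⟩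
      | insert j s hj ih =>
        obtain ⟨y, hy, hyact⟩ := ih
        refine ⟨a j * y, mul_mem ?_ hy, fun i v => ?_⟩
        · by_cases hjI : j ∈ I
          · exact (le_iSup₂_of_le j hjI le_rfl : A j ≤ ⨆ i ∈ I, A i) (ha j)
          · rw [ha1 j hjI]; exact one_mem _
        · rw [mul_smul]
          by_cases hij : i = j
          · subst hij
            rw [if_pos (Finset.mem_insert_self _ _)]
            have h1 := hyact i v
            rw [if_neg hj] at h1
            have h2 := (hn i).act ⟨a i, mem_sup_left (ha i)⟩ (y • v)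
            have h3 := (hn i).act ⟨a i, mem_sup_left (ha i)⟩ v
            show π i (a i • y • v) = π i (a i • v)
            rw [h1] at h2
            exact h2.trans h3.symm
          · rw [hother i j (fun h => hij h.symm) _ (mem_sup_left (ha j)), hyact]
            by_cases his : i ∈ s
            · rw [if_pos his, if_pos (Finset.mem_insert_of_mem his)]
            · rw [if_neg his, if_neg (by simp [hij, his])]
    obtain ⟨y, hy, hyact⟩ := key Finset.univ
    have hyx : y⁻¹ * x = 1 := by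
      apply o.eq_one_of_NN
      intro i v z hz
      have h1 : π i (x • v) = π i (y • v) := by rw [hyact, if_pos (Finset.mem_univ _), hact]
      have hyL : cj y⁻¹ (A i ⊔ B i) = A i ⊔ B i := by
        apply cj_inv_eq
        rw [cj_eq_iff]
        have h2 : (⨆ i ∈ I, A i) ≤ normalizer ((A i ⊔ B i : Subgroup H) : Set H) := by
          apply iSup₂_le
          intro j _ b hb
          by_cases hji : j = i
          · subst hji; exact le_normalizer (mem_sup_left hb)
          · rw [← cj_eq_iff]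
            exact cj_of_comm fun z hz => o.LL j i hji b (mem_sup_left hb) z hz
        exact h2 hy
      have h3 : π i (y⁻¹ • x • v) = π i (y⁻¹ • y • v) := (hn i).dep hyL h1
      rw [inv_smul_smul, ← mul_smul] at h3
      have h4 : π i (d (y⁻¹ * x) v) = 0 := by
        rw [d, (hn i).mul, h3]
        exact (hn i).two o.sq _
      exact ((hn i).ker _).1 h4 z hz
    have : x = y := (inv_mul_eq_one.1 hyx).symm
    rw [this]
    exact hy
  apply Subgroup.eq_of_le_of_card_ge hle
  refine (o.noover _ (o.sup_sq I)).trans (le_trans ?_ hE)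
  apply Nat.le_of_dvd (Nat.pos_of_ne_zero index_ne_zero_of_finite)
  apply index_dvd_of_le
  intro v hv
  have h1 : (⨆ i ∈ I, A i) ≤ MulAction.stabilizer H v := by
    apply iSup₂_le
    rintro i ⟨x, hx, w, hw⟩ a ha
    obtain ⟨c, hc'⟩ := hlin i x hx
    have hc0 : c ≠ 0 := by
      rintro rfl
      apply hw
      rw [hc', zero_mul, add_zero]
      ext j; fin_cases j <;> rfl
    have h2 := hc' v
    rw [hv x hx] at h2
    have h3 := congrFun h2 0
    simp only [cons_val_zero] at h3
    have h4 : c * π i v 1 = 0 := by linear_combination -h3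
    exact ((hn i).kerA v).1 ((mul_eq_zero.1 h4).resolve_left hc0) a ha
  exact fun x hx => h1 hx

end Out0

end Cfsg.Agent.Omega.FF.Glob

end
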