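import Cfsg.Agent.Mrg.Omega.FF.GlobDef
import Mathlib
import Cfsg.Agent.ClassTwoFusion.SpreadSL

section


/-!
# The FF-theorem, global part (D), (E): the members of `D` in `T`

`DT D T`: the members of `D` in `T`; `QQ D T F`: the group generated by the others; `Loc` holds for every `QQ D T F`, and
`T` is transitive on the members of `D` in `T`.
-/

set_option autoImplicit false
set_option linter.unusedSectionVars false

namespace Cfsg.Agent.Omega.FF.Glob

open Subgroup Cfsg.Agent.ClassTwoFusion.Quad Cfsg.Agent.LieClassical Matrix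
open scoped Pointwise

variable {H V : Type*} [Group H] [Group V] [MulDistribMulAction H V]

section Cj

theorem smul_fix_cj {g : H} {A : Subgroup H} {v : V} : (∀ x ∈ cj g A, x • v = v) ↔ ∀ a ∈ A, a • (g⁻¹ • v) = g⁻¹ • v := by
  constructor
  · intro h1 a ha
    have h2 := h1 _ (conj_mem_cj (g := g) ha)
    have h3 := congrArg (fun w => g⁻¹ • w) h2
    simp only [← mul_smul] at h3
    have e : g⁻¹ * (g * a * g⁻¹) = a * g⁻¹ := by group
    rw [e, mul_smul] at h3
    exact h3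
  · intro h1 x hx
    have h2 := h1 _ (mem_cj.1 hx)
    have h3 := congrArg (fun w => g • w) h2
    simp only [← mul_smul] at h3
    have e : g * (g⁻¹ * x * g * g⁻¹) = x := by group
    rw [e, mul_inv_cancel, one_smul] at h3
    exact h3

theorem _root_.Cfsg.Agent.Omega.FF.Glob.NatAt.toCj {A B : Subgroup H} {F : Type} [Field F] {π : V → (Fin 2 → F)}
    {φ : ↥(A ⊔ B) →* Matrix.SpecialLinearGroup (Fin 2) F} (h : NatAt A B π φ) (g : H) :
    NatAt (Glob.cj g A) (Glob.cj g B) (fun v => π (g⁻¹ • v))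
      (φ.comp ((MulEquiv.subgroupCongr (cj_sup g A B).symm).trans (cjEquiv g (A ⊔ B))).toMonoidHom) := by
  let e : ↥(Glob.cj g A ⊔ Glob.cj g B) ≃* ↥(A ⊔ B) :=
    (MulEquiv.subgroupCongr (cj_sup g A B).symm).trans (cjEquiv g (A ⊔ B))
  have he : ∀ x, ((e x : ↥(A ⊔ B)) : H) = g⁻¹ * x * g := fun x => rfl
  have hmem : ∀ (C : Subgroup H) (x : ↥(Glob.cj g A ⊔ Glob.cj g B)), (x : H) ∈ Glob.cj g C ↔ (e x : H) ∈ C := by
    intro C x
    rw [he, mem_cj]
  exact
    { mul := fun v w => by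
        show π (g⁻¹ • (v * w)) = _
        rw [smul_mul', h.mul]
      surj := fun z => by
        obtain ⟨v, rfl⟩ := h.surj z
        exact ⟨g • v, by show π (g⁻¹ • g • v) = π v; rw [inv_smul_smul]⟩
      ker := fun v => by
        show π (g⁻¹ • v) = 0 ↔ _
        rw [h.ker, ← cj_sup, smul_fix_cj]
      kerA := fun v => by
        show π (g⁻¹ • v) 1 = 0 ↔ _
        rw [h.kerA, smul_fix_cj]
      kerB := fun v => by
        show π (g⁻¹ • v) 0 = 0 ↔ _
        rw [h.kerB, smul_fix_cj]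
      act := fun x v => by
        show π (g⁻¹ • (x : H) • v) = (φ (e x)).1.mulVec (π (g⁻¹ • v))
        rw [← h.act, he, ← mul_smul, ← mul_smul]
        congr 2
        group
      bij := h.bij.comp e.bijective
      memA := fun x => by
        rw [hmem, h.memA]; rfl
      memB := fun x => by
        rw [hmem, h.memB]; rfl }

theorem _root_.Cfsg.Agent.Omega.FF.Glob.Nat2.cj {A B : Subgroup H} (h : Nat2 V A B) (g : H) :
    Nat2 V (Glob.cj g A) (Glob.cj g B) := by
  obtain ⟨F, hF, hFt, π, φ, hn⟩ := h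
  exact ⟨F, hF, hFt, _, _, hn.toCj g⟩

end Cj

namespace Loc

variable {T : Sylow 2 H} {M : Subgroup H} {D : Set (Subgroup H)} {q : ℕ} {Q : Subgroup H} (h : Loc V T M D q Q)
include h

theorem th_cj_iff {g : H} {A : Subgroup H} : Th D (cj g Q) A ↔ Th D Q (cj g⁻¹ A) := by
  have key : ∀ (k : H) (Q' A : Subgroup H), Th D Q' A → Th D (cj k Q') (cj k A) := by
    intro k Q' A hA
    refine ⟨h.Dcj A hA.mem k, ?_, ?_⟩
    · rw [normalizer_cj]; exact cj_mono hA.norm
    · rw [cj_le_cj_iff]; exact hA.nle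
  constructor
  · intro h1
    have := key g⁻¹ _ _ h1
    rwa [cj_inv_cj] at this
  · intro h1
    have := key g _ _ h1
    rwa [cj_cj_inv] at this

theorem opp_cj_iff {g : H} {A B : Subgroup H} : Opp M (cj g Q) A B ↔ Opp M Q (cj g⁻¹ A) (cj g⁻¹ B) := by
  constructor
  · intro h1 k h2 h3 h4
    rw [cj_le_iff, cj_cj, inv_inv] at h2 h3
    exact h1 _ h2 h3 (by rw [← cj_cj]; exact cj_mono h4)
  · intro h1 k h2 h3 h4
    refine h1 (g⁻¹ * k) ?_ ?_ ?_
    · rw [← cj_cj]; exact cj_mono h2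
    · rw [← cj_cj]; exact cj_mono h3
    · rw [← cj_cj, ← cj_le_iff]
      exact h4

/-- `Loc` for a conjugate of `Q` -/
theorem cjQ (g : H) : Loc V T M D q (cj g Q) where
  comm := h.comm
  sq := h.sq
  faith := h.faith
  core := h.core
  TM := h.TM
  Mne := h.Mne
  max := h.max
  nfix := h.nfix
  two_le := h.two_le
  Dcj := h.Dcj
  card := h.card
  idx := h.idx
  sqA := h.sqA
  ti := h.ti
  quad := h.quad
  noover := h.noover
  comm4 := h.comm4
  Qgen := fun K hK => by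
    rw [cj_le_iff]
    apply h.Qgen
    intro A hA hAQ
    rw [← cj_le_iff]
    exact hK _ (h.Dcj A hA g) (cj_mono hAQ)
  Q2 := isPGroup_cj h.Q2
  uniq := fun A hA k l h1 h2 h3 h4 => by
    rw [h.th_cj_iff] at hA
    have h5 := h.uniq _ hA (g⁻¹ * k) (g⁻¹ * l) (by rw [← cj_cj]; exact cj_mono h1)
      (by rw [← cj_cj, ← cj_le_iff]; exact h2) (by rw [← cj_cj]; exact cj_mono h3)
      (by rw [← cj_cj, ← cj_le_iff]; exact h4)
    rw [← cj_cj, ← cj_cj] at h5
    exact cj_inj h5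
  two := by
    obtain ⟨A, B, hA, hB, hAB⟩ := h.two
    refine ⟨cj g A, cj g B, ?_, ?_, ?_⟩
    · rw [h.th_cj_iff, cj_inv_cj]; exact hA
    · rw [h.th_cj_iff, cj_inv_cj]; exact hB
    · rw [h.opp_cj_iff, cj_inv_cj, cj_inv_cj]; exact hAB
  pair := fun A B hA hB hAB => by
    rw [h.th_cj_iff] at hA hB
    rw [h.opp_cj_iff] at hAB
    obtain ⟨h1, h2⟩ := h.pair _ _ hA hB hAB
    constructor
    · have h3 := h1.cj g
      rwa [cj_cj_inv, cj_cj_inv] at h3
    · intro a ha x hx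
      have h3 := h2 (g⁻¹ * a * g) (by rw [mem_cj, inv_inv]; simpa [mul_assoc] using ha) _ (mem_cj.1 hx)
      have h4 := congrArg (fun y => g * y * g⁻¹) h3
      simpa [mul_assoc] using h4

/-! ### (D) -/

theorem mem_of_le [Finite H] [Finite V] {S A F : Subgroup H} (hS : IsPGroup 2 S) (hA : Th D Q A) (hAS : A ≤ S)
    (hQS : Q ≤ S) (hF : F ∈ D) (hFS : F ≤ S) : F ≤ Q ∨ F = A := by
  by_contra hc
  push Not at hc
  have h1 : Q ≤ centralizer (F : Set H) := by
    apply h.Qgen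
    intro A'' hA'' hA''Q x hx
    rw [mem_centralizer_iff]
    intro f hf
    exact h.comm4 F hF A'' hA'' S hS hFS (hA''Q.trans hQS) f hf x hx
  have hFn : F ≤ normalizer (Q : Set H) := by
    intro f hf
    rw [← cj_eq_iff]
    apply cj_of_comm
    intro x hx
    exact mem_centralizer_iff.1 (h1 hx) f hf
  have hTh : Th D Q F := ⟨hF, hFn, hc.1⟩
  apply hc.2
  apply h.same_eq hTh hA
  obtain ⟨g, hg⟩ := h.exists_sylow_cj hS
  have h2 : S ≤ cj g M := hg.trans (cj_mono h.TM)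
  exact fun h3 => h3 g (hFS.trans h2) (hAS.trans h2) (hQS.trans h2)

/-! ### (E) -/

theorem trans [Finite H] [Finite V] {A F : Subgroup H} (hA : Th D Q A) (hAT : A ≤ T) (hQT : Q ≤ T) (hF : F ∈ D)
    (hFT : F ≤ T) : ∃ t ∈ T, F = cj t A := by
  by_contra hno
  set Q₁ : Subgroup H := sSup {E | E ∈ D ∧ E ≤ (T : Subgroup H) ∧ ¬ ∃ t ∈ T, E = cj t A} with hQ₁
  have hQ₁Q : Q₁ ≤ Q := by
    apply sSup_le
    rintro E ⟨hE, hET, hEn⟩
    rcases h.mem_of_le T.isPGroup' hA hAT hQT hE hET with h1 | h1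
    · exact h1
    · exact absurd ⟨1, one_mem _, by rw [cj_one]; exact h1⟩ hEn
  obtain ⟨B, hB, hAB⟩ := h.exists_opp hA
  have hTn : (T : Subgroup H) ≤ normalizer (Q₁ : Set H) := by
    have key : ∀ t ∈ T, cj t Q₁ ≤ Q₁ := by
      intro t ht
      rw [cj_le_iff]
      apply sSup_le
      rintro E ⟨hE, hET, hEn⟩
      rw [← cj_le_iff]
      refine le_sSup ⟨h.Dcj E hE t, ?_, ?_⟩
      · rw [cj_le_iff, cj_eq_of_mem (inv_mem ht)]; exact hET
      · rintro ⟨s, hs, h1⟩
        apply hEn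
        refine ⟨t⁻¹ * s, mul_mem (inv_mem ht) hs, ?_⟩
        rw [← cj_cj, ← h1, cj_inv_cj]
    intro t ht
    rw [← cj_eq_iff]
    apply le_antisymm (key t ht)
    have h1 := key _ (inv_mem ht)
    rwa [cj_le_iff, inv_inv] at h1
  have hBn : B ≤ normalizer (Q₁ : Set H) := by
    intro b hb
    rw [← cj_eq_iff]
    apply cj_of_comm
    intro x hx
    exact h.comm_Q hB b hb x (hQ₁Q hx)
  rcases h.max _ hTn with h1 | h1
  · exact hAB 1 (by rw [cj_one]; exact hAT.trans h.TM) (by rw [cj_one]; exact hBn.trans h1)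
      (by rw [cj_one]; exact hQT.trans h.TM)
  · have h2 : Q₁.Normal := normalizer_eq_top_iff.1 h1
    have h3 := h.core Q₁ h2 (h.Q2.to_le hQ₁Q)
    have h4 : F ≤ Q₁ := le_sSup ⟨hF, hFT, hno⟩
    obtain ⟨f, hf, hf1⟩ := h.exists_ne hF
    apply hf1
    have := h4 hf
    rw [h3, mem_bot] at this
    exact this

end Loc

/-- the group generated by the members of `D` in `T` different from `F` -/
def QQ (D : Set (Subgroup H)) (T F : Subgroup H) : Subgroup H := sSup {E | E ∈ D ∧ E ≤ T ∧ E ≠ F}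

namespace Loc

variable {T : Sylow 2 H} {M : Subgroup H} {D : Set (Subgroup H)} {q : ℕ} {Q : Subgroup H} (h : Loc V T M D q Q)
include h

theorem QQ_eq [Finite H] [Finite V] {A : Subgroup H} (hA : Th D Q A) (hAT : A ≤ T) (hQT : Q ≤ T) :
    QQ D T A = Q := by
  apply le_antisymm
  · apply sSup_le
    rintro E ⟨hE, hET, hEA⟩
    exact (h.mem_of_le T.isPGroup' hA hAT hQT hE hET).resolve_right hEA
  · apply h.Qgen
    intro E hE hEQ
    refine le_sSup ⟨hE, hEQ.trans hQT, ?_⟩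
    rintro rfl
    exact hA.nle hEQ

theorem QQ_cj {t : H} (ht : t ∈ T) (F : Subgroup H) : QQ D T (cj t F) = cj t (QQ D T F) := by
  have key : ∀ t ∈ T, ∀ F : Subgroup H, cj t (QQ D T F) ≤ QQ D T (cj t F) := by
    intro t ht F
    rw [cj_le_iff]
    apply sSup_le
    rintro E ⟨hE, hET, hEF⟩
    rw [← cj_le_iff]
    refine le_sSup ⟨h.Dcj E hE t, ?_, ?_⟩
    · rw [cj_le_iff, cj_eq_of_mem (inv_mem ht)]; exact hET
    · intro h1; exact hEF (cj_inj h1)
  apply le_antisymm _ (key t ht F)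
  have h1 := key _ (inv_mem ht) (cj t F)
  rw [cj_inv_cj, cj_le_iff, inv_inv] at h1
  exact h1

/-- **(D), (E)** -/
theorem family [Finite H] [Finite V] :
    (∃ F ∈ D, F ≤ (T : Subgroup H)) ∧ (∀ F ∈ D, F ≤ (T : Subgroup H) → ∀ E ∈ D, E ≤ (T : Subgroup H) → ∃ t ∈ T, E = cj t F) ∧
    ∀ F ∈ D, F ≤ (T : Subgroup H) → Loc V T M D q (QQ D T F) ∧ Th D (QQ D T F) F := by
  obtain ⟨A, B, hA, -, -⟩ := h.two
  obtain ⟨g, hg⟩ := h.exists_sylow_cj (h.isPGroup_AQ hA)
  have h' := h.cjQ g⁻¹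
  have hA' : Th D (cj g⁻¹ Q) (cj g⁻¹ A) := by
    rw [h.th_cj_iff, inv_inv, cj_cj_inv]; exact hA
  have hAT : cj g⁻¹ A ≤ T := by
    rw [cj_le_iff, inv_inv]; exact le_sup_left.trans hg
  have hQT : cj g⁻¹ Q ≤ T := by
    rw [cj_le_iff, inv_inv]; exact le_sup_right.trans hg
  have htr : ∀ F ∈ D, F ≤ (T : Subgroup H) → ∃ t ∈ T, F = cj t (cj g⁻¹ A) := fun F hF hFT => h'.trans hA' hAT hQT hF hFT
  refine ⟨⟨_, hA'.mem, hAT⟩, ?_, ?_⟩
  · intro F hF hFT E hE hET
    obtain ⟨t, ht, h1⟩ := htr F hF hFT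
    obtain ⟨s, hs, h2⟩ := htr E hE hET
    refine ⟨s * t⁻¹, mul_mem hs (inv_mem ht), ?_⟩
    rw [h2, ← cj_cj, h1, cj_inv_cj]
  · intro F hF hFT
    obtain ⟨t, ht, rfl⟩ := htr F hF hFT
    rw [h.QQ_cj ht, h'.QQ_eq hA' hAT hQT]
    refine ⟨h'.cjQ t, ?_⟩
    rw [h'.th_cj_iff, cj_inv_cj]
    exact hA'

end Loc

end Cfsg.Agent.Omega.FF.Glob

end

section


/-!
# OMEGA / SQ0, THEOREM FF (bb OMEGA #12272): basic notation

`X` a finite group acting on a finite elementary abelian 2-group `V` (additive, `v + v = 0`).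
* `fx V A` = `C_V(A)`, `fe V a` = `C_V(a)`, `cj g A` = `g A g⁻¹`, `mm V A` = `|A| |C_V(A)|`.
-/

set_option autoImplicit false
set_option linter.unusedSectionVars false

namespace Cfsg.Agent.Omega.FF.Basic

/-! ### cardinalities -/

section card

variable {W : Type*} [AddCommGroup W] [Finite W]

theorem card_mul_relIndex {H K : AddSubgroup W} (h : H ≤ K) :
    Nat.card H * H.relIndex K = Nat.card K := by
  rw [← AddSubgroup.relIndex_bot_left H, ← AddSubgroup.relIndex_bot_left K]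
  exact AddSubgroup.relIndex_mul_relIndex _ _ _ bot_le h

theorem card_sup_inf (H K : AddSubgroup W) :
    Nat.card (H ⊔ K : AddSubgroup W) * Nat.card (H ⊓ K : AddSubgroup W) = Nat.card H * Nat.card K := by
  have h1 := card_mul_relIndex (le_sup_right : K ≤ H ⊔ K)
  have h2 := card_mul_relIndex (inf_le_left : H ⊓ K ≤ H)
  rw [AddSubgroup.relIndex_sup_right] at h1
  rw [AddSubgroup.inf_relIndex_left] at h2
  rw [← h1, ← h2]; ring

theorem card_pos (H : AddSubgroup W) : 0 < Nat.card H := Nat.card_pos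

theorem card_le {H K : AddSubgroup W} (h : H ≤ K) : Nat.card H ≤ Nat.card K :=
  Nat.card_le_card_of_injective (AddSubgroup.inclusion h) (AddSubgroup.inclusion_injective h)

theorem eq_of_card_le {H K : AddSubgroup W} (h : H ≤ K) (h' : Nat.card K ≤ Nat.card H) : H = K :=
  AddSubgroup.eq_of_le_of_card_ge h h'

theorem card_top : Nat.card (⊤ : AddSubgroup W) = Nat.card W :=
  Nat.card_congr (Equiv.Set.univ W)

theorem card_le_top (H : AddSubgroup W) : Nat.card H ≤ Nat.card W := by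
  rw [← card_top (W := W)]; exact card_le le_top

theorem mem_sup {H K : AddSubgroup W} {v : W} (h : v ∈ H ⊔ K) : ∃ a ∈ H, ∃ b ∈ K, a + b = v := by
  obtain ⟨a, ha, b, hb, e⟩ := AddSubgroup.mem_sup.1 h
  exact ⟨a, ha, b, hb, e⟩

end card

variable {X : Type*} [Group X] {V : Type*} [AddCommGroup V] [DistribMulAction X V]

/-! ### fixed vectors -/

variable (V) in
/-- `C_V(A)` -/
def fx (A : Subgroup X) : AddSubgroup V where
  carrier := {v | ∀ a ∈ A, a • v = v}
  zero_mem' := fun a _ => smul_zero a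
  add_mem' := fun {v w} hv hw a ha => by rw [smul_add, hv a ha, hw a ha]
  neg_mem' := fun {v} hv a ha => by rw [smul_neg, hv a ha]

variable (V) in
/-- `C_V(a)` -/
def fe (a : X) : AddSubgroup V where
  carrier := {v | a • v = v}
  zero_mem' := smul_zero a
  add_mem' := fun {v w} hv hw => by
    change a • (v + w) = v + w
    rw [smul_add, hv, hw]
  neg_mem' := fun {v} hv => by
    change a • (-v) = -v
    rw [smul_neg, hv]

theorem mem_fx {A : Subgroup X} {v : V} : v ∈ fx V A ↔ ∀ a ∈ A, a • v = v := Iff.rfl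

theorem mem_fe {a : X} {v : V} : v ∈ fe V a ↔ a • v = v := Iff.rfl

theorem fx_le_fe {A : Subgroup X} {a : X} (ha : a ∈ A) : fx V A ≤ fe V a := fun _ hv => hv a ha

theorem fx_anti {A B : Subgroup X} (h : A ≤ B) : fx V B ≤ fx V A := fun _ hv a ha => hv a (h ha)

theorem fx_sup (A B : Subgroup X) : fx V (A ⊔ B) = fx V A ⊓ fx V B := by
  apply le_antisymm (le_inf (fx_anti le_sup_left) (fx_anti le_sup_right))
  rintro v ⟨h1, h2⟩
  intro a ha
  have : A ⊔ B ≤ MulAction.stabilizer X v :=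
    sup_le (fun x hx => h1 x hx) (fun x hx => h2 x hx)
  exact this ha

theorem fx_bot : fx V (⊥ : Subgroup X) = ⊤ := by
  rw [eq_top_iff]; intro v _ a ha
  rw [Subgroup.mem_bot] at ha; rw [ha, one_smul]

theorem mem_fx_closure {S : Set X} {v : V} (h : ∀ a ∈ S, a • v = v) : v ∈ fx V (Subgroup.closure S) := by
  intro a ha
  have : Subgroup.closure S ≤ MulAction.stabilizer X v := (Subgroup.closure_le _).2 fun x hx => h x hx
  exact this ha

theorem fe_inv (a : X) : fe V a⁻¹ = fe V a := by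
  ext v; rw [mem_fe, mem_fe, inv_smul_eq_iff, eq_comm]

theorem le_stab {A : Subgroup X} {v : V} : A ≤ MulAction.stabilizer X v ↔ v ∈ fx V A := Iff.rfl

/-! ### conjugation -/

/-- `g A g⁻¹` -/
def cj (g : X) (A : Subgroup X) : Subgroup X := A.comap (MulAut.conj g⁻¹).toMonoidHom

theorem mem_cj {g x : X} {A : Subgroup X} : x ∈ cj g A ↔ g⁻¹ * x * g ∈ A := by
  rw [cj, Subgroup.mem_comap]
  simp

theorem mem_cj_of {g x : X} {A : Subgroup X} (h : x ∈ A) : g * x * g⁻¹ ∈ cj g A := by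
  rw [mem_cj]; convert h using 1; group

theorem cj_one (A : Subgroup X) : cj 1 A = A := by ext x; rw [mem_cj]; simp

theorem cj_cj (g h : X) (A : Subgroup X) : cj g (cj h A) = cj (g * h) A := by
  ext x; rw [mem_cj, mem_cj, mem_cj]; simp [mul_assoc]

theorem cj_inv_cj (g : X) (A : Subgroup X) : cj g⁻¹ (cj g A) = A := by
  rw [cj_cj, inv_mul_cancel, cj_one]

theorem cj_cj_inv (g : X) (A : Subgroup X) : cj g (cj g⁻¹ A) = A := by
  rw [cj_cj, mul_inv_cancel, cj_one]

theorem cj_mono (g : X) {A B : Subgroup X} (h : A ≤ B) : cj g A ≤ cj g B := by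
  intro x hx; rw [mem_cj] at *; exact h hx

theorem cj_le_iff {g : X} {A B : Subgroup X} : cj g A ≤ B ↔ ∀ a ∈ A, g * a * g⁻¹ ∈ B := by
  constructor
  · intro h a ha; exact h (mem_cj_of ha)
  · intro h x hx
    have := h _ (mem_cj.1 hx)
    convert this using 1; group

theorem cj_le_cj {g : X} {A B : Subgroup X} : cj g A ≤ cj g B ↔ A ≤ B := by
  refine ⟨fun h => ?_, cj_mono g⟩
  have := cj_mono g⁻¹ h
  rwa [cj_inv_cj, cj_inv_cj] at this

theorem cj_inj {g : X} {A B : Subgroup X} (h : cj g A = cj g B) : A = B := by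
  rw [← cj_inv_cj g A, h, cj_inv_cj]

theorem cj_sup (g : X) (A B : Subgroup X) : cj g (A ⊔ B) = cj g A ⊔ cj g B := by
  apply le_antisymm
  · have : A ⊔ B ≤ cj g⁻¹ (cj g A ⊔ cj g B) := by
      apply sup_le
      · have := cj_mono g⁻¹ (le_sup_left : cj g A ≤ cj g A ⊔ cj g B)
        rwa [cj_inv_cj] at this
      · have := cj_mono g⁻¹ (le_sup_right : cj g B ≤ cj g A ⊔ cj g B)
        rwa [cj_inv_cj] at this
    have := cj_mono g this
    rwa [cj_cj_inv] at this
  · exact sup_le (cj_mono g le_sup_left) (cj_mono g le_sup_right)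

theorem cj_bot (g : X) : cj g (⊥ : Subgroup X) = ⊥ := by
  rw [eq_bot_iff]; intro x hx
  rw [mem_cj, Subgroup.mem_bot] at hx
  rw [Subgroup.mem_bot]
  have : x = g * 1 * g⁻¹ := by rw [← hx]; group
  rw [this]; group

theorem cj_top (g : X) : cj g (⊤ : Subgroup X) = ⊤ := by
  rw [eq_top_iff]; intro x _
  rw [mem_cj]; trivial

/-- the isomorphism `A ≃ g A g⁻¹` as a bijection -/
theorem card_cj (g : X) (A : Subgroup X) : Nat.card (cj g A) = Nat.card A := by
  refine Nat.card_congr ⟨fun x => ⟨g⁻¹ * x * g, mem_cj.1 x.2⟩, fun x => ⟨g * x * g⁻¹, mem_cj_of x.2⟩,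
    fun x => ?_, fun x => ?_⟩
  · apply Subtype.ext; change g * (g⁻¹ * x * g) * g⁻¹ = x; group
  · apply Subtype.ext; change g⁻¹ * (g * x * g⁻¹) * g = x; group

theorem cj_eq_self_of_mem {g : X} {A : Subgroup X} (h : g ∈ A) : cj g A = A := by
  ext x; rw [mem_cj]
  constructor
  · intro hx
    have := A.mul_mem (A.mul_mem h hx) (A.inv_mem h)
    convert this using 1; group
  · intro hx; exact A.mul_mem (A.mul_mem (A.inv_mem h) hx) h

theorem cj_eq_iff_mem_normalizer {g : X} {A : Subgroup X} :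
    cj g A = A ↔ g ∈ Subgroup.normalizer (A : Set X) := by
  rw [Subgroup.mem_normalizer_iff]
  constructor
  · intro h x
    constructor
    · intro hx; rw [← h]; exact mem_cj_of hx
    · intro hx
      have hx' : g * x * g⁻¹ ∈ cj g A := by rw [h]; exact hx
      rw [mem_cj] at hx'
      convert hx' using 1; group
  · intro h
    ext x
    rw [mem_cj]
    have e : g * (g⁻¹ * x * g) * g⁻¹ = x := by group
    have := h (g⁻¹ * x * g)
    rw [e] at this
    exact this

theorem cj_eq_of_le [Finite X] {g : X} {A : Subgroup X} (h : cj g A ≤ A) : cj g A = A :=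
  Subgroup.eq_of_le_of_card_ge h (by rw [card_cj])

theorem isPGroup_cj {p : ℕ} {A : Subgroup X} (g : X) (h : IsPGroup p A) : IsPGroup p (cj g A) := by
  intro x
  obtain ⟨k, hk⟩ := h ⟨g⁻¹ * x * g, mem_cj.1 x.2⟩
  refine ⟨k, ?_⟩
  have h1 : (g⁻¹ * (x : X) * g) ^ p ^ k = 1 := by
    have := congrArg Subtype.val hk; simpa using this
  have h2 : (x : X) ^ p ^ k = 1 := by
    have e : (x : X) = g * (g⁻¹ * x * g) * g⁻¹ := by group
    rw [e, conj_pow, h1]; group
  exact Subtype.ext (by simpa using h2)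

theorem mem_fx_cj {g : X} {A : Subgroup X} {v : V} : v ∈ fx V (cj g A) ↔ g⁻¹ • v ∈ fx V A := by
  constructor
  · intro h a ha
    have := h _ (mem_cj_of (g := g) ha)
    rw [smul_smul, eq_inv_smul_iff, smul_smul]
    rw [← mul_assoc]; exact this
  · intro h x hx
    have := h _ (mem_cj.1 hx)
    rw [smul_smul, mul_assoc, mul_inv_cancel, mul_one, mul_smul] at this
    exact smul_left_cancel g⁻¹ this

theorem smul_mem_fx_cj {g : X} {A : Subgroup X} {v : V} (h : v ∈ fx V A) : g • v ∈ fx V (cj g A) := by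
  rw [mem_fx_cj, inv_smul_smul]; exact h

theorem mem_fe_conj {g a : X} {v : V} : v ∈ fe V (g * a * g⁻¹) ↔ g⁻¹ • v ∈ fe V a := by
  rw [mem_fe, mem_fe, eq_inv_smul_iff, smul_smul, smul_smul, mul_assoc]

theorem card_smul {H K : AddSubgroup V} (g : X) (h : ∀ v, v ∈ K ↔ g⁻¹ • v ∈ H) : Nat.card K = Nat.card H := by
  refine Nat.card_congr ⟨fun v => ⟨g⁻¹ • (v : V), (h _).1 v.2⟩,
    fun v => ⟨g • (v : V), (h _).2 (by rw [inv_smul_smul]; exact v.2)⟩, fun v => ?_, fun v => ?_⟩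
  · apply Subtype.ext; change g • (g⁻¹ • (v : V)) = v; rw [smul_inv_smul]
  · apply Subtype.ext; change g⁻¹ • (g • (v : V)) = v; rw [inv_smul_smul]

theorem card_fx_cj (g : X) (A : Subgroup X) : Nat.card (fx V (cj g A)) = Nat.card (fx V A) :=
  card_smul g fun _ => mem_fx_cj

/-! ### elementary abelian subgroups -/

/-- exponent 2 -/
def EA (A : Subgroup X) : Prop := ∀ a ∈ A, a * a = 1

theorem EA.comm {A : Subgroup X} (h : EA A) {a b : X} (ha : a ∈ A) (hb : b ∈ A) : a * b = b * a := by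
  have h1 := h _ (A.mul_mem ha hb)
  have h2 : a⁻¹ = a := inv_eq_of_mul_eq_one_left (h a ha)
  have h3 : b⁻¹ = b := inv_eq_of_mul_eq_one_left (h b hb)
  have h4 : (a * b)⁻¹ = a * b := inv_eq_of_mul_eq_one_left h1
  rw [← h4, mul_inv_rev, h2, h3]

theorem EA.inv {A : Subgroup X} (h : EA A) {a : X} (ha : a ∈ A) : a⁻¹ = a :=
  inv_eq_of_mul_eq_one_left (h a ha)

theorem EA.mono {A B : Subgroup X} (h : EA B) (hAB : A ≤ B) : EA A := fun a ha => h a (hAB ha)

theorem EA.cj {A : Subgroup X} (h : EA A) (g : X) : EA (cj g A) := by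
  intro x hx
  have h1 := h _ (mem_cj.1 hx)
  have e : x * x = g * ((g⁻¹ * x * g) * (g⁻¹ * x * g)) * g⁻¹ := by group
  rw [e, h1]; group

theorem EA.isPGroup {A : Subgroup X} (h : EA A) : IsPGroup 2 A := by
  intro x
  refine ⟨1, Subtype.ext ?_⟩
  have := h x x.2
  simpa [pow_two] using this

variable (V) in
/-- `|A| |C_V(A)|` -/
noncomputable def mm (A : Subgroup X) : ℕ := Nat.card A * Nat.card (fx V A)

theorem mm_cj (g : X) (A : Subgroup X) : mm V (cj g A) = mm V A := by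
  rw [mm, mm, card_cj, card_fx_cj]

theorem mm_bot : mm V (⊥ : Subgroup X) = Nat.card V := by
  rw [mm, fx_bot, Subgroup.card_bot, one_mul]; exact Nat.card_congr (Equiv.Set.univ V)

/-! ### counting by fibres -/

theorem card_fib [Finite X] [Finite V] {A S : Subgroup X} {C W : AddSubgroup V} (hCW : C ≤ W)
    (f : X → V) (hf : ∀ a ∈ A, f a ∈ W) (hfib : ∀ a ∈ A, ∀ b ∈ A, f a - f b ∈ C → b⁻¹ * a ∈ S) :
    Nat.card A * Nat.card C ≤ Nat.card S * Nat.card W := by
  classical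
  -- representative of a coset
  let P : V → X → Prop := fun v a => a ∈ A ∧ f a - v ∈ C
  let r : V ⧸ C → X := fun q => if h : ∃ a ∈ A, (QuotientAddGroup.mk (f a) : V ⧸ C) = q then h.choose else 1
  have hr : ∀ a ∈ A, r (QuotientAddGroup.mk (f a)) ∈ A ∧
      (QuotientAddGroup.mk (f (r (QuotientAddGroup.mk (f a)))) : V ⧸ C) = QuotientAddGroup.mk (f a) := by
    intro a ha
    have h : ∃ b ∈ A, (QuotientAddGroup.mk (f b) : V ⧸ C) = QuotientAddGroup.mk (f a) := ⟨a, ha, rfl⟩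
    have e : r (QuotientAddGroup.mk (f a)) = h.choose := dif_pos h
    rw [e]; exact h.choose_spec
  have hrS : ∀ a ∈ A, (r (QuotientAddGroup.mk (f a)))⁻¹ * a ∈ S := by
    intro a ha
    obtain ⟨h1, h2⟩ := hr a ha
    apply hfib a ha _ h1
    rw [QuotientAddGroup.eq] at h2
    rw [sub_eq_neg_add]; exact h2
  rw [← Nat.card_prod, ← Nat.card_prod]
  refine Nat.card_le_card_of_injective
    (fun x : A × C => ((⟨(r (QuotientAddGroup.mk (f x.1)))⁻¹ * x.1, hrS _ x.1.2⟩ : S),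
      (⟨f x.1 + x.2, W.add_mem (hf _ x.1.2) (hCW x.2.2)⟩ : W))) ?_
  rintro ⟨a, c⟩ ⟨a', c'⟩ h
  simp only [Prod.mk.injEq, Subtype.mk.injEq] at h
  obtain ⟨h1, h2⟩ := h
  have hq : (QuotientAddGroup.mk (f a) : V ⧸ C) = QuotientAddGroup.mk (f a') := by
    rw [QuotientAddGroup.eq]
    have e : -f a + f a' = (c : V) - c' := by
      have : f a' = f a + c - c' := by rw [h2]; abel
      rw [this]; abel
    rw [e]; exact C.sub_mem c.2 c'.2
  rw [hq] at h1
  have ha : (a : X) = a' := mul_left_cancel h1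
  have hc : (c : V) = c' := by rw [ha] at h2; exact add_left_cancel h2
  exact Prod.ext (Subtype.ext ha) (Subtype.ext hc)

/-! ### fixed points of 2-groups -/

/-- the action on the quotient `V / K` -/
noncomputable def qact (K : AddSubgroup V) (t : X) (h : ∀ v ∈ K, t • v ∈ K) : V ⧸ K →+ V ⧸ K :=
  QuotientAddGroup.map K K (DistribSMul.toAddMonoidHom V t) fun v hv => h v hv

theorem exists_fixed [Finite V] {T : Subgroup X} (hT : IsPGroup 2 T) {H K : AddSubgroup V} (h2 : ∀ v : V, v + v = 0)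
    (hK : ∀ t ∈ T, ∀ v ∈ K, t • v ∈ K) (hH : ∀ t ∈ T, ∀ v ∈ H, t • v ∈ H) (hKH : K ≤ H) (hne : ¬ H ≤ K) :
    ∃ v ∈ H, v ∉ K ∧ ∀ t ∈ T, t • v - v ∈ K := by
  classical
  let Q : AddSubgroup (V ⧸ K) := H.map (QuotientAddGroup.mk' K)
  have hQ : ∀ v : V, (QuotientAddGroup.mk v : V ⧸ K) ∈ Q → v ∈ H := by
    intro v hv
    obtain ⟨w, hw, e⟩ := hv
    have e' : (QuotientAddGroup.mk w : V ⧸ K) = QuotientAddGroup.mk v := e
    rw [QuotientAddGroup.eq] at e'
    have : v = w + (-w + v) := by abel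
    rw [this]; exact H.add_mem hw (hKH e')
  have hQ' : ∀ v ∈ H, (QuotientAddGroup.mk v : V ⧸ K) ∈ Q := fun v hv => ⟨v, hv, rfl⟩
  have key : ∀ (t : T) (v : V), qact K (t : X) (hK t t.2) (QuotientAddGroup.mk v) = QuotientAddGroup.mk ((t : X) • v) :=
    fun t v => rfl
  let act : MulAction T Q :=
    { smul := fun t q => ⟨qact K (t : X) (hK t t.2) q, by
        obtain ⟨q, hq⟩ := q
        induction q using QuotientAddGroup.induction_on with
        | H v => exact hQ' _ (hH t t.2 v (hQ v hq))⟩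
      one_smul := by
        rintro ⟨q, hq⟩
        induction q using QuotientAddGroup.induction_on with
        | H v =>
          apply Subtype.ext
          change qact K ((1 : T) : X) (hK (1 : T) (1 : T).2) (QuotientAddGroup.mk v) = QuotientAddGroup.mk v
          rw [key]; simp
      mul_smul := by
        rintro s t ⟨q, hq⟩
        induction q using QuotientAddGroup.induction_on with
        | H v =>
          apply Subtype.ext
          change qact K ((s * t : T) : X) (hK (s * t : T) (s * t : T).2) (QuotientAddGroup.mk v) =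
            qact K (s : X) (hK s s.2) (qact K (t : X) (hK t t.2) (QuotientAddGroup.mk v))
          rw [key, key, key]; simp [mul_smul] }
  have hcard : 2 ∣ Nat.card Q := by
    obtain ⟨w, hw, hwK⟩ := Set.not_subset.1 hne
    have ho : addOrderOf (⟨QuotientAddGroup.mk w, hQ' w hw⟩ : Q) = 2 := by
      apply addOrderOf_eq_prime
      · apply Subtype.ext
        change (2 : ℕ) • (QuotientAddGroup.mk w : V ⧸ K) = 0
        rw [← QuotientAddGroup.mk_nsmul, two_nsmul, h2]; rfl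
      · intro h
        have := congrArg Subtype.val h
        exact hwK ((QuotientAddGroup.eq_zero_iff w).1 this)
    rw [← ho]; exact addOrderOf_dvd_natCard _
  have hfix := hT.card_modEq_card_fixedPoints Q
  have hmod : 2 ∣ Nat.card (MulAction.fixedPoints T Q) := (hfix.dvd_iff (dvd_refl 2)).1 hcard
  have h0 : (0 : Q) ∈ MulAction.fixedPoints T Q := by
    intro t
    apply Subtype.ext
    change qact K (t : X) (hK t t.2) 0 = 0
    exact map_zero _
  have hlt : 1 < Nat.card (MulAction.fixedPoints T Q) := by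
    have hpos : 0 < Nat.card (MulAction.fixedPoints T Q) := by
      have : Nonempty (MulAction.fixedPoints T Q) := ⟨⟨0, h0⟩⟩
      exact Nat.card_pos
    omega
  have := Finite.one_lt_card_iff_nontrivial.1 hlt
  obtain ⟨⟨q, hq⟩, hne'⟩ := exists_ne (⟨0, h0⟩ : MulAction.fixedPoints T Q)
  obtain ⟨q, hqQ⟩ := q
  induction q using QuotientAddGroup.induction_on with
  | H v =>
    refine ⟨v, hQ v hqQ, ?_, ?_⟩
    · intro hv
      apply hne'
      apply Subtype.ext
      apply Subtype.ext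
      exact (QuotientAddGroup.eq_zero_iff v).2 hv
    · intro t ht
      have h1 := hq ⟨t, ht⟩
      have h3 : (QuotientAddGroup.mk (t • v) : V ⧸ K) = QuotientAddGroup.mk v := congrArg Subtype.val h1
      rw [QuotientAddGroup.eq] at h3
      have h4 := K.neg_mem h3
      convert h4 using 1; abel

end Cfsg.Agent.Omega.FF.Basic

end

section


/-!
# THEOREM FF, step (0): minimal best offenders are quadratic (Timmesfeld replacement)
-/

set_option autoImplicit false
set_option linter.unusedSectionVars false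

namespace Cfsg.Agent.Omega.FF.Quad

open Cfsg.Agent.Omega.FF.Basic

variable {X : Type*} [Group X] [Finite X] {V : Type*} [AddCommGroup V] [Finite V] [DistribMulAction X V]

/-- `C_A([u, A])` -/
def st (A : Subgroup X) (u : V) : Subgroup X where
  carrier := {c | c ∈ A ∧ ∀ a ∈ A, c • (a • u - u) = a • u - u}
  one_mem' := ⟨A.one_mem, fun a _ => one_smul _ _⟩
  mul_mem' := fun {c d} hc hd => ⟨A.mul_mem hc.1 hd.1, fun a ha => by rw [mul_smul, hd.2 a ha, hc.2 a ha]⟩
  inv_mem' := fun {c} hc => ⟨A.inv_mem hc.1, fun a ha => by rw [inv_smul_eq_iff, hc.2 a ha]⟩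

theorem mm_le_st {A : Subgroup X} (hA : EA A) (u : V) : mm V A ≤ mm V (st A u) := by
  have hsub : fx V A ≤ fx V (st A u) := fx_anti fun c hc => hc.1
  refine card_fib hsub (fun a => a • u - u) (fun a ha c hc => hc.2 a ha) ?_
  intro a ha b hb h
  refine ⟨A.mul_mem (A.inv_mem hb) ha, fun d hd => ?_⟩
  -- `c = b⁻¹ a`, `c u - u ∈ C_V(A)`
  set c := b⁻¹ * a with hc
  have hcA : c ∈ A := A.mul_mem (A.inv_mem hb) ha
  have h1 : c • u - u ∈ fx V A := by
    have h3 : (a • u - b • u : V) ∈ fx V A := by convert h using 1; abel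
    have h4 := h3 b⁻¹ (A.inv_mem hb)
    have h5 : c • u - u = b⁻¹ • (a • u - b • u) := by
      rw [smul_sub, smul_smul, inv_smul_smul]
    rw [h5, h4]; exact h3
  have h2 : c • (d • u) = d • (c • u) := by
    rw [smul_smul, smul_smul, hA.comm hcA hd]
  have h3 := h1 d hd
  rw [smul_sub] at h3
  rw [smul_sub, h2]
  have h4 : d • c • u = c • u - u + d • u := by rw [← h3]; abel
  rw [h4]; abel

/-- (0): quadratic action -/
theorem quad {A : Subgroup X} (h2 : ∀ v : V, v + v = 0) (hA : EA A) (hne : A ≠ ⊥)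
    (hmax : ∀ F : Subgroup X, EA F → mm V F ≤ mm V A) (hmin : ∀ F < A, F ≠ ⊥ → mm V F < mm V A) :
    ∀ a ∈ A, ∀ b ∈ A, ∀ v : V, b • (a • v - v) = a • v - v := by
  intro a ha b hb u
  have hle : st A u ≤ A := fun c hc => hc.1
  have h1 := mm_le_st hA u
  by_cases hst : st A u = ⊥
  · exfalso
    -- `|A| |C| = |V|`
    have hA1 : mm V A = Nat.card V := by
      apply le_antisymm
      · rw [← mm_bot (V := V) (X := X), ← hst]; exact h1
      · rw [← mm_bot (V := V) (X := X)]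
        exact hmax _ fun a ha => by rw [Subgroup.mem_bot] at ha; rw [ha, one_mul]
    have hinj : ∀ a ∈ A, ∀ b ∈ A, (a • u - u) - (b • u - u) ∈ fx V A → a = b := by
      intro a ha b hb h
      have : b⁻¹ * a ∈ st A u := by
        refine ⟨A.mul_mem (A.inv_mem hb) ha, fun d hd => ?_⟩
        set c := b⁻¹ * a with hc
        have hcA : c ∈ A := A.mul_mem (A.inv_mem hb) ha
        have h1 : c • u - u ∈ fx V A := by
          have h3 : (a • u - b • u : V) ∈ fx V A := by convert h using 1; abel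
          have h4 := h3 b⁻¹ (A.inv_mem hb)
          have h5 : c • u - u = b⁻¹ • (a • u - b • u) := by
            rw [smul_sub, smul_smul, inv_smul_smul]
          rw [h5, h4]; exact h3
        have h2 : c • (d • u) = d • (c • u) := by
          rw [smul_smul, smul_smul, hA.comm hcA hd]
        have h3 := h1 d hd
        rw [smul_sub] at h3
        rw [smul_sub, h2]
        have h4 : d • c • u = c • u - u + d • u := by rw [← h3]; abel
        rw [h4]; abel
      rw [hst, Subgroup.mem_bot, inv_mul_eq_one] at this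
      exact this.symm
    -- the map `A × C → V` is bijective
    have hbij : Function.Bijective (fun x : A × fx V A => ((x.1 : X) • u - u + (x.2 : V) : V)) := by
      rw [Nat.bijective_iff_injective_and_card]
      refine ⟨?_, ?_⟩
      · rintro ⟨a, c⟩ ⟨a', c'⟩ h
        have h' : (a : X) • u - u + (c : V) = (a' : X) • u - u + (c' : V) := h
        have e : (a : X) = a' := by
          apply hinj a a.2 a' a'.2
          have : ((a : X) • u - u) - ((a' : X) • u - u) = (c' : V) - c := by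
            have : (a : X) • u - u = (a' : X) • u - u + (c' : V) - c := by rw [← h']; abel
            rw [this]; abel
          rw [this]; exact (fx V A).sub_mem c'.2 c.2
        rw [e] at h'
        exact Prod.ext (Subtype.ext e) (Subtype.ext (add_left_cancel h'))
      · rw [Nat.card_prod]; exact hA1
    obtain ⟨⟨a, c⟩, hac⟩ := hbij.2 u
    have hac' : (a : X) • u - u + (c : V) = u := hac
    have h3 : (a : X) • u = (u + u) - c := by rw [← sub_eq_zero] at hac' ⊢; rw [← hac']; abel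
    rw [h2, zero_sub] at h3
    have h4 : (a : X) • u ∈ fx V A := by rw [h3]; exact (fx V A).neg_mem c.2
    have h5 : u ∈ fx V A := by
      have := h4 (a : X)⁻¹ (A.inv_mem a.2)
      rw [inv_smul_smul] at this
      rw [this]; exact h4
    apply hne
    rw [Subgroup.eq_bot_iff_forall]
    intro x hx
    apply hinj x hx 1 A.one_mem
    rw [h5 x hx, one_smul, sub_self]; exact (fx V A).zero_mem
  · have : st A u = A := by
      by_contra h
      exact absurd (hmin _ (lt_of_le_of_ne hle h) hst) (not_lt.2 h1)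
    have hb' : b ∈ st A u := by rw [this]; exact hb
    exact hb'.2 a ha

/-- existence of a minimal best offender -/
theorem exists_min (A₀ : Subgroup X) (h0 : EA A₀) (hne : A₀ ≠ ⊥) (hoff : Nat.card V ≤ mm V A₀) :
    ∃ A : Subgroup X, EA A ∧ A ≠ ⊥ ∧ (∀ F : Subgroup X, EA F → mm V F ≤ mm V A) ∧
      (∀ F < A, F ≠ ⊥ → mm V F < mm V A) := by
  classical
  let S : Set (Subgroup X) := {A | EA A ∧ A ≠ ⊥}
  have hS : S.Finite := Set.toFinite _
  obtain ⟨B, hB, hBmax⟩ := Set.exists_max_image S (fun A => mm V A) hS ⟨A₀, h0, hne⟩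
  let S' : Set (Subgroup X) := {A | (EA A ∧ A ≠ ⊥) ∧ mm V A = mm V B}
  have hS' : S'.Finite := Set.toFinite _
  obtain ⟨A, hA, hAmin⟩ := Set.exists_min_image S' (fun A => Nat.card A) hS' ⟨B, hB, rfl⟩
  refine ⟨A, hA.1.1, hA.1.2, ?_, ?_⟩
  · intro F hF
    rw [hA.2]
    by_cases hF0 : F = ⊥
    · rw [hF0, mm_bot]
      exact hoff.trans (hBmax A₀ ⟨h0, hne⟩)
    · exact hBmax F ⟨hF, hF0⟩
  · intro F hF hF0
    have hFE : EA F := hA.1.1.mono hF.le
    have h1 : mm V F ≤ mm V A := by rw [hA.2]; exact hBmax F ⟨hFE, hF0⟩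
    rcases h1.lt_or_eq with h | h
    · exact h
    · exfalso
      have h3 := hAmin F ⟨⟨hFE, hF0⟩, h.trans hA.2⟩
      exact hF.ne (Subgroup.eq_of_le_of_card_ge hF.le h3)

end Cfsg.Agent.Omega.FF.Quad

end

section


/-!
# THEOREM FF: the hypotheses, points, and the pair `(T₁, T₂)` (steps (0), (1))
-/

set_option autoImplicit false
set_option linter.unusedSectionVars false

namespace Cfsg.Agent.Omega.FF.Setup

open Cfsg.Agent.Omega.FF.Basic
open scoped Pointwise

variable {X : Type*} [Group X] [Finite X] {V : Type*} [AddCommGroup V] [Finite V] [DistribMulAction X V]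

variable (V) in
/-- The standing hypotheses of THEOREM FF; `𝒟` is the class of a minimal best offender. -/
structure Hyp (𝒟 : Set (Subgroup X)) : Prop where
  h2 : ∀ v : V, v + v = 0
  faith : ∀ x : X, (∀ v : V, x • v = v) → x = 1
  o2 : ∀ N : Subgroup X, N.Normal → IsPGroup 2 N → N = ⊥
  mp : ∀ T : Sylow 2 X, ∃ M : Subgroup X, M ≠ ⊤ ∧ ∀ H : Subgroup X, (T : Subgroup X) ≤ H → H ≠ ⊤ → H ≤ M
  vec : ∀ T : Sylow 2 X, ∃ v : V, v ∈ fx V (T : Subgroup X) ∧ v ∉ fx V (⊤ : Subgroup X)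
  conj : ∀ A ∈ 𝒟, ∀ g : X, cj g A ∈ 𝒟
  tr : ∀ A ∈ 𝒟, ∀ B ∈ 𝒟, ∃ g : X, cj g A = B
  ne : 𝒟.Nonempty
  ea : ∀ A ∈ 𝒟, EA A
  nb : ∀ A ∈ 𝒟, A ≠ ⊥
  max : ∀ A ∈ 𝒟, ∀ E : Subgroup X, EA E → mm V E ≤ mm V A
  min : ∀ A ∈ 𝒟, ∀ F < A, F ≠ ⊥ → mm V F < mm V A
  quad : ∀ A ∈ 𝒟, ∀ a ∈ A, ∀ b ∈ A, ∀ v : V, b • (a • v - v) = a • v - v

/-- the largest proper overgroup of the Sylow subgroup `T` -/
def pt (T : Subgroup X) : Subgroup X := sSup {H | T ≤ H ∧ H ≠ ⊤}

/-- `J(R)` -/
def J (𝒟 : Set (Subgroup X)) (R : Subgroup X) : Subgroup X := sSup {A | A ∈ 𝒟 ∧ A ≤ R}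

theorem coe_smul (g : X) (T : Sylow 2 X) : ((g • T : Sylow 2 X) : Subgroup X) = cj g (T : Subgroup X) := by
  ext x
  rw [mem_cj, Sylow.coe_subgroup_smul, Subgroup.mem_pointwise_smul_iff_inv_smul_mem]
  simp [MulAut.smul_def]

theorem J_le {𝒟 : Set (Subgroup X)} {R : Subgroup X} : J 𝒟 R ≤ R := sSup_le fun _ h => h.2

theorem le_J {𝒟 : Set (Subgroup X)} {R A : Subgroup X} (h : A ∈ 𝒟) (hR : A ≤ R) : A ≤ J 𝒟 R := le_sSup ⟨h, hR⟩

theorem J_mono {𝒟 : Set (Subgroup X)} {R R' : Subgroup X} (h : R ≤ R') : J 𝒟 R ≤ J 𝒟 R' :=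
  sSup_le fun _ hA => le_J hA.1 (hA.2.trans h)

theorem J_J {𝒟 : Set (Subgroup X)} {R : Subgroup X} : J 𝒟 (J 𝒟 R) = J 𝒟 R :=
  le_antisymm J_le (sSup_le fun _ hA => le_J hA.1 (le_J hA.1 hA.2))

theorem exists_sylow {P : Subgroup X} (h : IsPGroup 2 P) : ∃ T : Sylow 2 X, P ≤ T := h.exists_le_sylow

/-- Sylow subgroups inside `P` are conjugate in `P` -/
theorem exists_conj_of_le {P : Subgroup X} (T T' : Sylow 2 X) (h : (T : Subgroup X) ≤ P) (h' : (T' : Subgroup X) ≤ P) :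
    ∃ m ∈ P, cj m (T : Subgroup X) = T' := by
  obtain ⟨m, hm⟩ := MulAction.exists_smul_eq P (T.subtype h) (T'.subtype h')
  refine ⟨m, m.2, ?_⟩
  have h1 : ((m • T.subtype h : Sylow 2 P) : Subgroup P) = (T'.subtype h' : Subgroup P) := by rw [hm]
  ext x
  constructor
  · intro hx
    have hxP : x ∈ P := by
      rw [mem_cj] at hx
      have := P.mul_mem (P.mul_mem m.2 (h hx)) (P.inv_mem m.2)
      convert this using 1; group
    have : (⟨x, hxP⟩ : P) ∈ ((m • T.subtype h : Sylow 2 P) : Subgroup P) := by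
      rw [Sylow.coe_subgroup_smul, Subgroup.mem_pointwise_smul_iff_inv_smul_mem]
      change (((MulAut.conj m)⁻¹ • (⟨x, hxP⟩ : P) : P) : X) ∈ (T : Subgroup X)
      rw [mem_cj] at hx
      convert hx using 1
      simp [MulAut.smul_def]
    rw [h1] at this
    exact this
  · intro hx
    have hxP : x ∈ P := h' hx
    have h2 : (⟨x, hxP⟩ : P) ∈ (T'.subtype h' : Subgroup P) := hx
    rw [← h1, Sylow.coe_subgroup_smul, Subgroup.mem_pointwise_smul_iff_inv_smul_mem] at h2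
    have h3 : (((MulAut.conj m)⁻¹ • (⟨x, hxP⟩ : P) : P) : X) ∈ (T : Subgroup X) := h2
    rw [mem_cj]
    convert h3 using 1
    simp [MulAut.smul_def]

namespace Hyp

variable {𝒟 : Set (Subgroup X)} (h : Hyp V 𝒟)
include h

theorem J_cj (g : X) (R : Subgroup X) : J 𝒟 (cj g R) = cj g (J 𝒟 R) := by
  apply le_antisymm
  · apply sSup_le
    rintro A ⟨hA, hAR⟩
    have h1 : cj g⁻¹ A ≤ J 𝒟 R := le_J (h.conj A hA _) (by
      have := cj_mono g⁻¹ hAR; rwa [cj_inv_cj] at this)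
    have := cj_mono g h1
    rwa [cj_cj_inv] at this
  · have : J 𝒟 R ≤ cj g⁻¹ (J 𝒟 (cj g R)) := by
      apply sSup_le
      rintro A ⟨hA, hAR⟩
      have h1 : cj g A ≤ J 𝒟 (cj g R) := le_J (h.conj A hA _) (cj_mono g hAR)
      have := cj_mono g⁻¹ h1
      rwa [cj_inv_cj] at this
    have := cj_mono g this
    rwa [cj_cj_inv] at this

theorem exists_le (T : Sylow 2 X) : ∃ A ∈ 𝒟, A ≤ (T : Subgroup X) := by
  obtain ⟨A, hA⟩ := h.ne
  obtain ⟨T', hT'⟩ := exists_sylow (h.ea A hA).isPGroup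
  obtain ⟨g, hg⟩ := MulAction.exists_smul_eq X T' T
  refine ⟨cj g A, h.conj A hA g, ?_⟩
  rw [← hg, coe_smul]; exact cj_mono g hT'

theorem ne_bot (T : Sylow 2 X) : (T : Subgroup X) ≠ ⊥ := by
  obtain ⟨A, hA, hAT⟩ := h.exists_le T
  intro e
  rw [e, le_bot_iff] at hAT
  exact h.nb A hA hAT

theorem not_normal {Q : Subgroup X} (hQ : IsPGroup 2 Q) (hne : Q ≠ ⊥) : Subgroup.normalizer (Q : Set X) ≠ ⊤ := by
  intro e
  exact hne (h.o2 Q (Subgroup.normalizer_eq_top_iff.1 e) hQ)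

theorem ne_top (T : Sylow 2 X) : (T : Subgroup X) ≠ ⊤ := by
  intro e
  apply h.not_normal T.isPGroup' (h.ne_bot T)
  rw [eq_top_iff, ← e]; exact Subgroup.le_normalizer

theorem le_pt (T : Sylow 2 X) : (T : Subgroup X) ≤ pt (T : Subgroup X) := le_sSup ⟨le_rfl, h.ne_top T⟩

omit [Finite X] h in
theorem le_pt_of {T H : Subgroup X} (hT : T ≤ H) (hH : H ≠ ⊤) : H ≤ pt T := le_sSup ⟨hT, hH⟩

theorem pt_ne_top (T : Sylow 2 X) : pt (T : Subgroup X) ≠ ⊤ := by
  obtain ⟨M, hM, hMT⟩ := h.mp T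
  intro e
  apply hM
  rw [eq_top_iff, ← e]
  exact sSup_le fun H hH => hMT H hH.1 hH.2

theorem pt_eq_of_le {T T' : Sylow 2 X} (hT : (T' : Subgroup X) ≤ pt (T : Subgroup X)) :
    pt (T' : Subgroup X) = pt (T : Subgroup X) := by
  have h1 : pt (T : Subgroup X) ≤ pt (T' : Subgroup X) := le_pt_of hT (h.pt_ne_top T)
  exact le_antisymm (le_pt_of ((h.le_pt T).trans h1) (h.pt_ne_top T')) h1

theorem pt_cj (g : X) (T : Subgroup X) : pt (cj g T) = cj g (pt T) := by
  apply le_antisymm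
  · apply sSup_le
    rintro H ⟨hH, hHt⟩
    have : cj g⁻¹ H ≤ pt T := le_pt_of (by
      have := cj_mono g⁻¹ hH; rwa [cj_inv_cj] at this) (by
      intro e; apply hHt; rw [← cj_cj_inv g H, e, cj_top])
    have := cj_mono g this
    rwa [cj_cj_inv] at this
  · have : pt T ≤ cj g⁻¹ (pt (cj g T)) := by
      apply sSup_le
      rintro H ⟨hH, hHt⟩
      have : cj g H ≤ pt (cj g T) := le_pt_of (cj_mono g hH) (by
        intro e; apply hHt; rw [← cj_inv_cj g H, e, cj_top])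
      have := cj_mono g⁻¹ this
      rwa [cj_inv_cj] at this
    have := cj_mono g this
    rwa [cj_cj_inv] at this

theorem mem_pt_of_cj {g : X} {T : Sylow 2 X} (hg : cj g (pt (T : Subgroup X)) = pt (T : Subgroup X)) :
    g ∈ pt (T : Subgroup X) := by
  have h1 : ((g • T : Sylow 2 X) : Subgroup X) ≤ pt (T : Subgroup X) := by
    rw [coe_smul, ← hg]; exact cj_mono g (h.le_pt T)
  obtain ⟨m, hm, e⟩ := exists_conj_of_le T (g • T) (h.le_pt T) h1
  have h2 : cj (m⁻¹ * g) (T : Subgroup X) = T := by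
    rw [← cj_cj, ← coe_smul, ← e, cj_inv_cj]
  have h3 : m⁻¹ * g ∈ pt (T : Subgroup X) :=
    le_pt_of Subgroup.le_normalizer (h.not_normal T.isPGroup' (h.ne_bot T)) (cj_eq_iff_mem_normalizer.1 h2)
  have := Subgroup.mul_mem _ hm h3
  convert this using 1; group

theorem cj_pt_iff {g : X} {T : Sylow 2 X} : cj g (pt (T : Subgroup X)) = pt (T : Subgroup X) ↔ g ∈ pt (T : Subgroup X) :=
  ⟨h.mem_pt_of_cj, cj_eq_self_of_mem⟩

/-- the normaliser of a nontrivial normal subgroup of `T` lies in `pt T` -/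
theorem normalizer_le_pt {T : Sylow 2 X} {Q : Subgroup X} (hQ : Q ≠ ⊥) (hQT : Q ≤ T)
    (hn : (T : Subgroup X) ≤ Subgroup.normalizer (Q : Set X)) : Subgroup.normalizer (Q : Set X) ≤ pt (T : Subgroup X) :=
  le_pt_of hn (h.not_normal (T.isPGroup'.to_le hQT) hQ)

theorem stab_le_pt {T : Sylow 2 X} {v : V} (hv : v ∈ fx V (T : Subgroup X)) (hv' : v ∉ fx V (⊤ : Subgroup X)) :
    MulAction.stabilizer X v ≤ pt (T : Subgroup X) := by
  apply le_pt_of (fun t ht => hv t ht)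
  intro e
  apply hv'
  intro x _
  have : x ∈ MulAction.stabilizer X v := by rw [e]; trivial
  exact this

theorem exists_ne_pt : ∃ T T' : Sylow 2 X, pt (T : Subgroup X) ≠ pt (T' : Subgroup X) := by
  obtain ⟨T⟩ : Nonempty (Sylow 2 X) := inferInstance
  obtain ⟨g, hg⟩ : ∃ g, g ∉ pt (T : Subgroup X) := by
    by_contra hcon
    push Not at hcon
    exact h.pt_ne_top T (by rw [eq_top_iff]; intro x _; exact hcon x)
  refine ⟨T, g • T, fun e => hg ?_⟩
  apply h.mem_pt_of_cj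
  rw [← h.pt_cj, ← coe_smul, ← e]

end Hyp

end Cfsg.Agent.Omega.FF.Setup

end

section


/-!
# THEOREM FF: a Frattini lemma
-/

set_option autoImplicit false
set_option linter.unusedSectionVars false

namespace Cfsg.Agent.Omega.FF.Frat

open Cfsg.Agent.Omega.FF.Basic Cfsg.Agent.Omega.FF.Setup
open scoped Pointwise

variable {X : Type*} [Group X] [Finite X]

theorem smul_map {K : Subgroup X} (y : X) (hy : y ∈ Subgroup.normalizer (K : Set X)) (R : Sylow 2 K) :
    (((Subgroup.normalizerMonoidHom K ⟨y, hy⟩ : MulAut K) • R : Sylow 2 K) : Subgroup K).map K.subtype =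
      cj y ((R : Subgroup K).map K.subtype) := by
  ext x
  rw [mem_cj]
  constructor
  · rintro ⟨k, hk, rfl⟩
    obtain ⟨r, hr, e⟩ := hk
    refine ⟨r, hr, ?_⟩
    have e' : (y : X) * r * y⁻¹ = k := congrArg Subtype.val e
    change (r : X) = y⁻¹ * (k : X) * y
    rw [← e']; group
  · rintro ⟨r, hr, e⟩
    refine ⟨Subgroup.normalizerMonoidHom K ⟨y, hy⟩ r, ⟨r, hr, rfl⟩, ?_⟩
    have e' : (r : X) = y⁻¹ * x * y := e
    change (y : X) * r * y⁻¹ = x
    rw [e']; group

theorem frat {K Y E : Subgroup X} (hY : Y ≤ Subgroup.normalizer (K : Set X)) (hEY : E ≤ Y)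
    (hE : IsPGroup 2 E) : ∃ R : Subgroup X, R ≤ K ∧ IsPGroup 2 R ∧ E ≤ Subgroup.normalizer (R : Set X) ∧
      (∀ y ∈ Y, ∃ k ∈ K, k⁻¹ * y ∈ Subgroup.normalizer (R : Set X)) ∧
      (∀ Q ≤ K, IsPGroup 2 Q → ∃ k ∈ K, Q ≤ cj k R) := by
  classical
  have hEK : E ≤ Subgroup.normalizer (K : Set X) := hEY.trans hY
  let act : MulAction E (Sylow 2 K) :=
    MulAction.compHom (Sylow 2 K) ((Subgroup.normalizerMonoidHom K).comp (Subgroup.inclusion hEK))
  have hnd : ¬ 2 ∣ Nat.card (Sylow 2 K) := by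
    have := card_sylow_modEq_one 2 K
    intro hd
    have h3 := (Nat.ModEq.dvd_iff this (dvd_refl 2)).1 hd
    omega
  obtain ⟨R', hR'⟩ := hE.nonempty_fixed_point_of_prime_not_dvd_card (Sylow 2 K) hnd
  let R : Subgroup X := (R' : Subgroup K).map K.subtype
  have hRK : R ≤ K := by
    rintro x ⟨k, _, rfl⟩; exact k.2
  refine ⟨R, hRK, R'.isPGroup'.map K.subtype, ?_, ?_, ?_⟩
  · intro e he
    rw [← cj_eq_iff_mem_normalizer]
    have h1 : (Subgroup.normalizerMonoidHom K ⟨e, hEK he⟩ : MulAut K) • R' = R' := hR' ⟨e, he⟩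
    rw [← smul_map e (hEK he) R', h1]
  · intro y hy
    obtain ⟨k, hk⟩ := MulAction.exists_smul_eq K R'
      ((Subgroup.normalizerMonoidHom K ⟨y, hY hy⟩ : MulAut K) • R')
    refine ⟨k, k.2, ?_⟩
    rw [← cj_eq_iff_mem_normalizer, ← cj_cj]
    have h1 := smul_map y (hY hy) R'
    rw [← hk] at h1
    have h2 : (((k • R' : Sylow 2 K)) : Subgroup K).map K.subtype = cj (k : X) R := by
      ext x
      rw [mem_cj]
      constructor
      · rintro ⟨z, hz, rfl⟩
        obtain ⟨r, hr, e⟩ := hz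
        refine ⟨r, hr, ?_⟩
        have e' : (k : X) * r * (k : X)⁻¹ = z := congrArg Subtype.val e
        change (r : X) = (k : X)⁻¹ * (z : X) * k
        rw [← e']; group
      · rintro ⟨r, hr, e⟩
        refine ⟨k * r * k⁻¹, ⟨r, hr, rfl⟩, ?_⟩
        have e' : (r : X) = (k : X)⁻¹ * x * k := e
        change (k : X) * r * (k : X)⁻¹ = x
        rw [e']; group
    rw [h2] at h1
    rw [← h1, cj_inv_cj]
  · intro Q hQ hQ2
    obtain ⟨R'', hR''⟩ := (hQ2.comap_subtype (H := Q) (K := K) : IsPGroup 2 (Q.subgroupOf K)).exists_le_sylow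
    obtain ⟨k, hk⟩ := MulAction.exists_smul_eq K R' R''
    refine ⟨k, k.2, ?_⟩
    intro x hx
    have h1 : (⟨x, hQ hx⟩ : K) ∈ (R'' : Subgroup K) := hR'' hx
    rw [← hk] at h1
    obtain ⟨r, hr, e⟩ := h1
    rw [mem_cj]
    refine ⟨r, hr, ?_⟩
    have e' : (k : X) * r * (k : X)⁻¹ = x := congrArg Subtype.val e
    change (r : X) = (k : X)⁻¹ * (x : X) * k
    rw [← e']; group

end Cfsg.Agent.Omega.FF.Frat

end

section


/-!
# THEOREM FF, steps (1), (2): the subgroup `D`, the family `𝒜_N` and minimal pairs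
-/

set_option autoImplicit false
set_option linter.unusedSectionVars false

namespace Cfsg.Agent.Omega.FF.Conf

open Cfsg.Agent.Omega.FF.Basic Cfsg.Agent.Omega.FF.Setup Cfsg.Agent.Omega.FF.Frat
open scoped Pointwise

variable {X : Type*} [Group X] [Finite X] {V : Type*} [AddCommGroup V] [Finite V] [DistribMulAction X V]

/-- `𝒜_N`: members of `𝒟` normalising `D`, not contained in `D` -/
def AN (𝒟 : Set (Subgroup X)) (D : Subgroup X) : Set (Subgroup X) :=
  {B | B ∈ 𝒟 ∧ B ≤ Subgroup.normalizer (D : Set X) ∧ ¬ B ≤ D}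

/-- the subgroup `D` of step (1) -/
structure Cfg (𝒟 : Set (Subgroup X)) (D : Subgroup X) : Prop where
  p : IsPGroup 2 D
  gen : J 𝒟 D = D
  uniq : ∀ B ∈ AN 𝒟 D, ∀ T T' : Sylow 2 X, D ⊔ B ≤ T → D ⊔ B ≤ T' → pt (T : Subgroup X) = pt (T' : Subgroup X)
  two : ∃ B ∈ AN 𝒟 D, ∃ C ∈ AN 𝒟 D, ∃ T T' : Sylow 2 X, D ⊔ B ≤ T ∧ D ⊔ C ≤ T' ∧
    pt (T : Subgroup X) ≠ pt (T' : Subgroup X)

/-- the point of `B ∈ 𝒜_N` -/
noncomputable def pp (D B : Subgroup X) : Subgroup X := by
  classical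
  exact if h : ∃ T : Sylow 2 X, D ⊔ B ≤ T then pt (h.choose : Subgroup X) else ⊥

theorem isPGroup_sup {D B : Subgroup X} (hD : IsPGroup 2 D) (hB : IsPGroup 2 B)
    (hn : B ≤ Subgroup.normalizer (D : Set X)) : IsPGroup 2 (D ⊔ B : Subgroup X) :=
  hD.to_sup_of_normal_left' hB hn

/-- a 2-subgroup of `P` lies in a conjugate of the Sylow subgroup `T ≤ P` -/
theorem exists_conj_ge {P Q : Subgroup X} (T : Sylow 2 X) (hT : (T : Subgroup X) ≤ P) (hQ : IsPGroup 2 Q) (hQP : Q ≤ P) :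
    ∃ m ∈ P, Q ≤ cj m (T : Subgroup X) := by
  obtain ⟨R'', hR''⟩ := (hQ.comap_subtype (H := Q) (K := P) : IsPGroup 2 (Q.subgroupOf P)).exists_le_sylow
  obtain ⟨k, hk⟩ := MulAction.exists_smul_eq P (T.subtype hT) R''
  refine ⟨k, k.2, ?_⟩
  intro x hx
  have h1 : (⟨x, hQP hx⟩ : P) ∈ (R'' : Subgroup P) := hR'' hx
  rw [← hk] at h1
  obtain ⟨r, hr, e⟩ := h1
  rw [mem_cj]
  have e' : (k : X) * r * (k : X)⁻¹ = x := congrArg Subtype.val e
  have e2 : (k : X)⁻¹ * x * k = r := by rw [← e']; group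
  rw [e2]; exact hr

section exist

variable {𝒟 : Set (Subgroup X)} (h : Hyp V 𝒟)
include h

theorem mem_AN_cj {D B : Subgroup X} (hB : B ∈ AN 𝒟 D) {n : X} (hn : n ∈ Subgroup.normalizer (D : Set X)) :
    cj n B ∈ AN 𝒟 D := by
  refine ⟨h.conj B hB.1 n, ?_, ?_⟩
  · rw [← cj_eq_self_of_mem hn]; exact cj_mono n hB.2.1
  · intro e
    apply hB.2.2
    rw [← cj_le_cj (g := n), (cj_eq_iff_mem_normalizer.2 hn : cj n D = D)]; exact e

/-- (1) -/
theorem exists_cfg : ∃ D : Subgroup X, Cfg 𝒟 D := by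
  classical
  let S : Set (Sylow 2 X × Sylow 2 X) := {x | pt (x.1 : Subgroup X) ≠ pt (x.2 : Subgroup X)}
  have hS : S.Finite := Set.toFinite _
  obtain ⟨T₀, T₀', h0⟩ := h.exists_ne_pt
  obtain ⟨⟨T, T'⟩, hT, hmax⟩ := Set.exists_max_image S
    (fun x => Nat.card (J 𝒟 ((x.1 : Subgroup X) ⊓ (x.2 : Subgroup X)))) hS ⟨(T₀, T₀'), h0⟩
  have hTT : pt (T : Subgroup X) ≠ pt (T' : Subgroup X) := hT
  set D := J 𝒟 ((T : Subgroup X) ⊓ (T' : Subgroup X)) with hD
  have hDT : D ≤ T := J_le.trans inf_le_left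
  have hDT' : D ≤ T' := J_le.trans inf_le_right
  have hmax' : ∀ U U' : Sylow 2 X, pt (U : Subgroup X) ≠ pt (U' : Subgroup X) →
      Nat.card (J 𝒟 ((U : Subgroup X) ⊓ (U' : Subgroup X))) ≤ Nat.card D := fun U U' hU => hmax (U, U') hU
  have hJD : J 𝒟 D = D := J_J
  have hDp : IsPGroup 2 D := T.isPGroup'.to_le hDT
  -- all Sylow subgroups have conjugate `J`
  have hcard : ∀ U U' : Sylow 2 X, Nat.card (J 𝒟 (U : Subgroup X)) = Nat.card (J 𝒟 (U' : Subgroup X)) := by
    intro U U'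
    obtain ⟨g, hg⟩ := MulAction.exists_smul_eq X U U'
    rw [← hg, coe_smul, h.J_cj, card_cj]
  -- `D < J_U`
  have hlt : ∀ U U' : Sylow 2 X, D ≤ U → D ≤ U' → pt (U : Subgroup X) ≠ pt (U' : Subgroup X) →
      J 𝒟 (U : Subgroup X) ≠ D := by
    intro U U' hU hU' hne e
    have e' : J 𝒟 (U' : Subgroup X) = D := by
      symm
      apply Subgroup.eq_of_le_of_card_ge
      · rw [← hJD]; exact J_mono hU'
      · rw [← hcard U U', e]
    have hDne : D ≠ ⊥ := by
      obtain ⟨A, hA, hAU⟩ := h.exists_le U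
      intro e3
      have := le_J hA hAU
      rw [e, e3, le_bot_iff] at this
      exact h.nb A hA this
    have hn : ∀ W : Sylow 2 X, J 𝒟 (W : Subgroup X) = D → (W : Subgroup X) ≤ Subgroup.normalizer (D : Set X) := by
      intro W hW w hw
      rw [← cj_eq_iff_mem_normalizer, ← hW, ← h.J_cj, cj_eq_self_of_mem hw]
    have h1 := h.normalizer_le_pt hDne hU (hn U e)
    exact hne (h.pt_eq_of_le ((hn U' e').trans h1)).symm
  -- there is a member of `𝒜_N` in `U`
  have hex : ∀ U : Sylow 2 X, D ≤ U → J 𝒟 (U : Subgroup X) ≠ D → ∃ B ∈ AN 𝒟 D, B ≤ U := by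
    intro U hU hne
    by_contra hcon
    push Not at hcon
    apply hne
    set R := (U : Subgroup X) ⊓ Subgroup.normalizer (D : Set X) with hR
    have hDR : D ≤ R := le_inf hU Subgroup.le_normalizer
    have h1 : J 𝒟 R = D := by
      apply le_antisymm
      · apply sSup_le
        rintro B ⟨hB, hBR⟩
        by_contra hBD
        exact hcon B ⟨hB, hBR.trans inf_le_right, hBD⟩ (hBR.trans inf_le_left)
      · rw [← hJD]; exact J_mono hDR
    have h2 : (U : Subgroup X) ⊓ Subgroup.normalizer (R : Set X) ≤ R := by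
      intro u hu
      refine Subgroup.mem_inf.2 ⟨hu.1, ?_⟩
      rw [← cj_eq_iff_mem_normalizer, ← h1, ← h.J_cj, cj_eq_iff_mem_normalizer.2 hu.2]
    have h3 : R = U := by
      by_contra hRU
      have hnil : Group.IsNilpotent U := U.isPGroup'.isNilpotent
      have hRlt : R.subgroupOf U < ⊤ := by
        rw [lt_top_iff_ne_top]
        intro e
        rw [Subgroup.subgroupOf_eq_top] at e
        exact hRU (le_antisymm inf_le_left e)
      have h4 := Group.normalizerCondition_of_isNilpotent (G := U) _ hRlt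
      obtain ⟨_, h5⟩ := SetLike.lt_iff_le_and_exists.1 h4
      obtain ⟨u, hu, hu'⟩ := h5
      apply hu'
      rw [Subgroup.mem_subgroupOf]
      apply h2
      refine Subgroup.mem_inf.2 ⟨u.2, ?_⟩
      rw [← cj_eq_iff_mem_normalizer]
      ext x
      rw [mem_cj]
      rw [Subgroup.mem_normalizer_iff] at hu
      constructor
      · intro hx
        have hxU : (u : X)⁻¹ * x * u ∈ (U : Subgroup X) := hx.1
        have h6 := (hu ⟨_, hxU⟩).1 (Subgroup.mem_subgroupOf.2 hx)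
        have h7 : (u : X) * ((u : X)⁻¹ * x * u) * (u : X)⁻¹ ∈ R := h6
        convert h7 using 1; group
      · intro hx
        have hxU : (u : X)⁻¹ * x * u ∈ (U : Subgroup X) :=
          Subgroup.mul_mem _ (Subgroup.mul_mem _ (Subgroup.inv_mem _ u.2) hx.1) u.2
        have h6 : (u * (⟨_, hxU⟩ : U) * u⁻¹ : U) ∈ R.subgroupOf U := by
          rw [Subgroup.mem_subgroupOf]
          have : ((u * (⟨_, hxU⟩ : U) * u⁻¹ : U) : X) = x := by
            change (u : X) * ((u : X)⁻¹ * x * u) * (u : X)⁻¹ = x; group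
          rw [this]; exact hx
        exact (hu ⟨_, hxU⟩).2 h6
    rw [← h3]; exact h1
  refine ⟨D, hDp, hJD, ?_, ?_⟩
  · intro B hB U U' hU hU'
    by_contra hne
    have h1 : D ⊔ B ≤ J 𝒟 ((U : Subgroup X) ⊓ (U' : Subgroup X)) := by
      apply sup_le
      · rw [← hJD]; exact J_mono (le_sup_left.trans (le_inf hU hU'))
      · exact le_J hB.1 (le_sup_right.trans (le_inf hU hU'))
    have h2 := hmax' U U' hne
    have h3 : D ⊔ B = D := by
      symm
      apply Subgroup.eq_of_le_of_card_ge le_sup_left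
      exact (Nat.card_le_card_of_injective _ (Subgroup.inclusion_injective h1)).trans h2
    exact hB.2.2 (le_sup_right.trans h3.le)
  · obtain ⟨B, hB, hBT⟩ := hex T hDT (hlt T T' hDT hDT' hTT)
    obtain ⟨C, hC, hCT⟩ := hex T' hDT' (hlt T' T hDT' hDT (Ne.symm hTT))
    exact ⟨B, hB, C, hC, T, T', sup_le hDT hBT, sup_le hDT' hCT, hTT⟩

end exist

end Cfsg.Agent.Omega.FF.Conf

end

section


/-!
# THEOREM FF, step (2): minimal pairs
-/

set_option autoImplicit false
set_option linter.unusedSectionVars false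

namespace Cfsg.Agent.Omega.FF.Min

open Cfsg.Agent.Omega.FF.Basic Cfsg.Agent.Omega.FF.Setup Cfsg.Agent.Omega.FF.Frat Cfsg.Agent.Omega.FF.Conf
open scoped Pointwise

variable {X : Type*} [Group X] [Finite X] {V : Type*} [AddCommGroup V] [Finite V] [DistribMulAction X V]

/-- minimal pair `(B, C)` -/
structure Mn (𝒟 : Set (Subgroup X)) (D B C : Subgroup X) : Prop where
  hB : B ∈ AN 𝒟 D
  hC : C ∈ AN 𝒟 D
  ne : pp D C ≠ pp D B
  min : ∀ C' ∈ AN 𝒟 D, pp D C' ≠ pp D B → C' ≤ D ⊔ B ⊔ C → C ≤ D ⊔ B ⊔ C'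

variable {𝒟 : Set (Subgroup X)} {D B C : Subgroup X} (h : Hyp V 𝒟) (c : Cfg 𝒟 D)
include h c

theorem exists_syl (hB : B ∈ AN 𝒟 D) : ∃ T : Sylow 2 X, D ⊔ B ≤ T :=
  exists_sylow (isPGroup_sup c.p (h.ea B hB.1).isPGroup hB.2.1)

theorem pp_eq (hB : B ∈ AN 𝒟 D) {T : Sylow 2 X} (hT : D ⊔ B ≤ T) : pp D B = pt (T : Subgroup X) := by
  have hex : ∃ T : Sylow 2 X, D ⊔ B ≤ T := ⟨T, hT⟩
  have h1 : pp D B = pt (hex.choose : Subgroup X) := by
    rw [pp]; exact dif_pos hex
  rw [h1]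
  exact c.uniq B hB _ _ hex.choose_spec hT

theorem le_pp (hB : B ∈ AN 𝒟 D) : D ⊔ B ≤ pp D B := by
  obtain ⟨T, hT⟩ := exists_syl h c hB
  rw [pp_eq h c hB hT]
  exact hT.trans (h.le_pt T)

theorem pp_cj (hB : B ∈ AN 𝒟 D) {n : X} (hn : n ∈ Subgroup.normalizer (D : Set X)) :
    pp D (cj n B) = cj n (pp D B) := by
  obtain ⟨T, hT⟩ := exists_syl h c hB
  have h1 : D ⊔ cj n B ≤ ((n • T : Sylow 2 X) : Subgroup X) := by
    rw [coe_smul, ← (cj_eq_iff_mem_normalizer.2 hn : cj n D = D), ← cj_sup]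
    exact cj_mono n hT
  rw [pp_eq h c (mem_AN_cj h hB hn) h1, coe_smul, h.pt_cj, pp_eq h c hB hT]

theorem mem_pp_of_cj (hB : B ∈ AN 𝒟 D) {g : X} (hg : cj g (pp D B) = pp D B) : g ∈ pp D B := by
  obtain ⟨T, hT⟩ := exists_syl h c hB
  rw [pp_eq h c hB hT] at hg ⊢
  exact h.mem_pt_of_cj hg

theorem pt_eq_pp (hB : B ∈ AN 𝒟 D) {T' : Sylow 2 X} (hT' : D ⊔ B ≤ pt (T' : Subgroup X)) :
    pt (T' : Subgroup X) = pp D B := by
  obtain ⟨m, hm, hle⟩ := exists_conj_ge T' (h.le_pt T') (isPGroup_sup c.p (h.ea B hB.1).isPGroup hB.2.1) hT'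
  have h1 : D ⊔ B ≤ ((m • T' : Sylow 2 X) : Subgroup X) := by rw [coe_smul]; exact hle
  rw [pp_eq h c hB h1, coe_smul, h.pt_cj, cj_eq_self_of_mem hm]

/-- `DB` lies in only one point -/
theorem pp_eq_of_le {C : Subgroup X} (hB : B ∈ AN 𝒟 D) (hC : C ∈ AN 𝒟 D) (hle : D ⊔ B ≤ pp D C) : pp D C = pp D B := by
  obtain ⟨T, hT⟩ := exists_syl h c hC
  rw [pp_eq h c hC hT] at hle ⊢
  exact pt_eq_pp h c hB hle

theorem pp_eq_of_le_cj (hB : B ∈ AN 𝒟 D) {g : X} (hle : D ⊔ B ≤ cj g (pp D B)) : g ∈ pp D B := by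
  obtain ⟨T, hT⟩ := exists_syl h c hB
  rw [pp_eq h c hB hT, ← h.pt_cj, ← coe_smul] at hle
  have h1 := pt_eq_pp h c hB hle
  rw [coe_smul, h.pt_cj, ← pp_eq h c hB hT] at h1
  exact mem_pp_of_cj h c hB h1

theorem exists_two : ∃ B ∈ AN 𝒟 D, ∃ C ∈ AN 𝒟 D, pp D C ≠ pp D B := by
  obtain ⟨B, hB, C, hC, T, T', hT, hT', hne⟩ := c.two
  refine ⟨B, hB, C, hC, ?_⟩
  rw [pp_eq h c hB hT, pp_eq h c hC hT']
  exact Ne.symm hne

theorem exists_partner (B : Subgroup X) : ∃ C ∈ AN 𝒟 D, pp D C ≠ pp D B := by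
  obtain ⟨B₁, hB₁, C₁, hC₁, hne⟩ := exists_two h c
  by_cases e : pp D B₁ = pp D B
  · exact ⟨C₁, hC₁, by rw [← e]; exact hne⟩
  · exact ⟨B₁, hB₁, e⟩

omit h c in
/-- existence of minimal pairs below a given pair -/
theorem exists_mn {B C : Subgroup X} (hB : B ∈ AN 𝒟 D) (hC : C ∈ AN 𝒟 D) (hne : pp D C ≠ pp D B) :
    ∃ F, Mn 𝒟 D B F ∧ F ≤ D ⊔ B ⊔ C := by
  classical
  let S : Set (Subgroup X) := {F | F ∈ AN 𝒟 D ∧ pp D F ≠ pp D B ∧ F ≤ D ⊔ B ⊔ C}
  have hS : S.Finite := Set.toFinite _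
  obtain ⟨F, ⟨hF, hFB, hFC⟩, hmin⟩ := Set.exists_min_image S (fun F => Nat.card (D ⊔ B ⊔ F : Subgroup X)) hS
    ⟨C, hC, hne, le_sup_right⟩
  refine ⟨F, ⟨hB, hF, hFB, ?_⟩, hFC⟩
  intro C' hC' hne' hle
  have h1 : D ⊔ B ⊔ C' ≤ D ⊔ B ⊔ F := sup_le le_sup_left hle
  have h2 : D ⊔ B ⊔ F ≤ D ⊔ B ⊔ C := sup_le le_sup_left hFC
  have h3 := hmin C' ⟨hC', hne', le_sup_right.trans (h1.trans h2)⟩
  have h4 : D ⊔ B ⊔ C' = D ⊔ B ⊔ F := Subgroup.eq_of_le_of_card_ge h1 h3
  rw [h4]; exact le_sup_right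

variable (m : Mn 𝒟 D B C)
include m

omit h c in
theorem Y_le : D ⊔ B ⊔ C ≤ Subgroup.normalizer (D : Set X) :=
  sup_le (sup_le Subgroup.le_normalizer m.hB.2.1) m.hC.2.1

/-- proper subgroups over `DB` lie in the point of `B` -/
theorem le_P {H : Subgroup X} (hH : H ≤ D ⊔ B ⊔ C) (hDB : D ⊔ B ≤ H) (hC : ¬ C ≤ H) : H ≤ pp D B := by
  intro x hx
  apply mem_pp_of_cj h c m.hB
  by_contra hne
  have hxn : x ∈ Subgroup.normalizer (D : Set X) := Y_le m (hH hx)
  have h1 : cj x B ∈ AN 𝒟 D := mem_AN_cj h m.hB hxn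
  have hxB : cj x B ≤ H := by
    rw [← cj_eq_self_of_mem hx]; exact cj_mono x (le_sup_right.trans hDB)
  rw [← pp_cj h c m.hB hxn] at hne
  apply hC
  refine (m.min _ h1 hne (hxB.trans hH)).trans ?_
  exact sup_le hDB hxB

theorem C_not_le : ¬ C ≤ pp D B := by
  intro e
  apply m.ne
  have : D ⊔ C ≤ pp D B := sup_le (le_sup_left.trans (le_pp h c m.hB)) e
  exact (pp_eq_of_le h c m.hC m.hB this).symm

theorem C_le {x : X} (hx : x ∈ D ⊔ B ⊔ C) (hxP : x ∉ pp D B) : C ≤ D ⊔ B ⊔ cj x B := by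
  have hxn : x ∈ Subgroup.normalizer (D : Set X) := Y_le m hx
  apply m.min _ (mem_AN_cj h m.hB hxn)
  · rw [pp_cj h c m.hB hxn]
    intro e; exact hxP (mem_pp_of_cj h c m.hB e)
  · rw [← cj_eq_self_of_mem hx]; exact cj_mono x (le_sup_right.trans le_sup_left)

theorem Y_eq {x : X} (hx : x ∈ D ⊔ B ⊔ C) (hxP : x ∉ pp D B) : D ⊔ B ⊔ cj x B = D ⊔ B ⊔ C := by
  apply le_antisymm
  · apply sup_le le_sup_left
    rw [← cj_eq_self_of_mem hx]; exact cj_mono x (le_sup_right.trans le_sup_left)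
  · exact sup_le le_sup_left (C_le h c m hx hxP)

theorem le_P' {H : Subgroup X} {x : X} (hx : x ∈ D ⊔ B ⊔ C) (hH : H ≤ D ⊔ B ⊔ C) (hDB : D ⊔ cj x B ≤ H)
    (hC : ¬ D ⊔ B ⊔ C ≤ H) : H ≤ cj x (pp D B) := by
  have hxn : x ∈ Subgroup.normalizer (D : Set X) := Y_le m hx
  have h1 : cj x⁻¹ H ≤ pp D B := by
    apply le_P h c m
    · rw [← cj_eq_self_of_mem (Subgroup.inv_mem _ hx)]; exact cj_mono _ hH
    · have := cj_mono x⁻¹ hDB
      rw [cj_sup, cj_inv_cj, (cj_eq_iff_mem_normalizer.2 (Subgroup.inv_mem _ hxn) : cj x⁻¹ D = D)] at this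
      exact this
    · intro hcon
      apply hC
      have h2 : D ⊔ B ⊔ C ≤ cj x⁻¹ H := by
        apply sup_le _ hcon
        have := cj_mono x⁻¹ hDB
        rw [cj_sup, cj_inv_cj, (cj_eq_iff_mem_normalizer.2 (Subgroup.inv_mem _ hxn) : cj x⁻¹ D = D)] at this
        exact this
      have := cj_mono x h2
      rwa [cj_cj_inv, cj_eq_self_of_mem hx] at this
  have := cj_mono x h1
  rwa [cj_cj_inv] at this

/-- `O = O₂(Y)` (what we need of it) -/
theorem exists_O : ∃ O : Subgroup X, O ≤ D ⊔ B ⊔ C ∧ IsPGroup 2 O ∧ D ⊔ B ⊔ C ≤ Subgroup.normalizer (O : Set X) ∧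
    D ≤ O ∧ O ≤ pp D B ∧
    (∀ a ∈ B, a ∉ O → ∃ x ∈ D ⊔ B ⊔ C, x ∉ pp D B ∧ a ∉ cj x (pp D B)) := by
  classical
  set Y := D ⊔ B ⊔ C with hY
  set P := pp D B with hP
  let K : Subgroup X :=
    { carrier := {a | a ∈ Y ∧ ∀ x ∈ Y, a ∈ cj x P}
      one_mem' := ⟨Y.one_mem, fun x _ => (cj x P).one_mem⟩
      mul_mem' := fun ha hb => ⟨Y.mul_mem ha.1 hb.1, fun x hx => (cj x P).mul_mem (ha.2 x hx) (hb.2 x hx)⟩
      inv_mem' := fun ha => ⟨Y.inv_mem ha.1, fun x hx => (cj x P).inv_mem (ha.2 x hx)⟩ }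
  have hKY : K ≤ Y := fun a ha => ha.1
  have hKP : K ≤ P := fun a ha => by
    have := ha.2 1 Y.one_mem
    rwa [cj_one] at this
  have hYK : Y ≤ Subgroup.normalizer (K : Set X) := by
    intro y hy
    rw [← cj_eq_iff_mem_normalizer]
    apply cj_eq_of_le
    rw [cj_le_iff]
    intro a ha
    refine ⟨Y.mul_mem (Y.mul_mem hy ha.1) (Y.inv_mem hy), fun x hx => ?_⟩
    have h1 := ha.2 (y⁻¹ * x) (Y.mul_mem (Y.inv_mem hy) hx)
    rw [mem_cj] at h1 ⊢
    convert h1 using 1; group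
  have hDY : D ≤ Y := le_sup_left.trans le_sup_left
  have hBY : B ≤ Y := le_sup_right.trans le_sup_left
  have hDBY : D ⊔ B ≤ Y := le_sup_left
  have hDBP : D ⊔ B ≤ P := le_pp h c m.hB
  obtain ⟨R, hRK, hR2, hER, hfr, hsy⟩ := frat hYK hDBY (isPGroup_sup c.p (h.ea B m.hB.1).isPGroup m.hB.2.1)
  have hYR : Y ≤ Subgroup.normalizer (R : Set X) := by
    by_contra hcon
    have hC : ¬ C ≤ Y ⊓ Subgroup.normalizer (R : Set X) := by
      intro e
      exact hcon (sup_le hER (e.trans inf_le_right))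
    have h1 : Y ⊓ Subgroup.normalizer (R : Set X) ≤ P :=
      le_P h c m inf_le_left (le_inf hDBY hER) hC
    apply C_not_le h c m
    refine le_trans (le_sup_right : C ≤ Y) ?_
    intro y hy
    obtain ⟨k, hk, hky⟩ := hfr y hy
    have h2 : k⁻¹ * y ∈ P := h1 (Subgroup.mem_inf.2 ⟨Y.mul_mem (Y.inv_mem (hKY hk)) hy, hky⟩)
    have := P.mul_mem (hKP hk) h2
    convert this using 1; group
  have hsy' : ∀ Q ≤ K, IsPGroup 2 Q → Q ≤ R := by
    intro Q hQ hQ2
    obtain ⟨k, hk, hle⟩ := hsy Q hQ hQ2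
    rwa [cj_eq_iff_mem_normalizer.2 (hYR (hKY hk))] at hle
  refine ⟨R, hRK.trans hKY, hR2, hYR, ?_, hRK.trans hKP, ?_⟩
  · apply hsy' D _ c.p
    intro d hd
    refine ⟨hDY hd, fun x hx => ?_⟩
    have hxn : x ∈ Subgroup.normalizer (D : Set X) := Y_le m hx
    have h1 : D ≤ cj x P := by
      rw [← (cj_eq_iff_mem_normalizer.2 hxn : cj x D = D)]
      exact cj_mono x (le_sup_left.trans hDBP)
    exact h1 hd
  · intro a ha haR
    by_contra hcon
    push Not at hcon
    apply haR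
    have haK : a ∈ K := by
      refine ⟨hBY ha, fun x hx => ?_⟩
      by_cases hxP : x ∈ P
      · rw [cj_eq_self_of_mem hxP]; exact hDBP ((le_sup_right : B ≤ D ⊔ B) ha)
      · exact hcon x hx hxP
    have h1 : Subgroup.zpowers a ≤ K := Subgroup.zpowers_le.2 haK
    have h2 : IsPGroup 2 (Subgroup.zpowers a) := by
      apply (h.ea B m.hB.1).isPGroup.to_le
      exact Subgroup.zpowers_le.2 ha
    exact hsy' _ h1 h2 (Subgroup.mem_zpowers a)

end Cfsg.Agent.Omega.FF.Min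

end

section


/-!
# THEOREM FF, steps (3), (4): the chief factor; no over-offenders
-/

set_option autoImplicit false
set_option linter.unusedSectionVars false

namespace Cfsg.Agent.Omega.FF.Chief

open Cfsg.Agent.Omega.FF.Basic Cfsg.Agent.Omega.FF.Setup Cfsg.Agent.Omega.FF.Frat Cfsg.Agent.Omega.FF.Conf
open Cfsg.Agent.Omega.FF.Min
open scoped Pointwise

variable {X : Type*} [Group X] [Finite X] {V : Type*} [AddCommGroup V] [Finite V] [DistribMulAction X V]

/-- invariant under `Y` -/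
def Iv (Y : Subgroup X) (H : AddSubgroup V) : Prop := ∀ y ∈ Y, ∀ v ∈ H, y • v ∈ H

/-- `{y ∈ Y | y v - v ∈ K}` -/
def sb (Y : Subgroup X) (K : AddSubgroup V) (hK : Iv Y K) (v : V) : Subgroup X where
  carrier := {y | y ∈ Y ∧ y • v - v ∈ K}
  one_mem' := ⟨Y.one_mem, by rw [one_smul, sub_self]; exact K.zero_mem⟩
  mul_mem' := fun {y z} hy hz => ⟨Y.mul_mem hy.1 hz.1, by
    have h1 := K.add_mem (hK y hy.1 _ hz.2) hy.2
    have e : (y * z) • v - v = y • (z • v - v) + (y • v - v) := by rw [mul_smul, smul_sub]; abel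
    rw [e]; exact h1⟩
  inv_mem' := fun {y} hy => ⟨Y.inv_mem hy.1, by
    have h1 := K.neg_mem (hK _ (Y.inv_mem hy.1) _ hy.2)
    have e : y⁻¹ • v - v = -(y⁻¹ • (y • v - v)) := by rw [smul_sub, inv_smul_smul]; abel
    rw [e]; exact h1⟩

/-- if the odd order elements and a Sylow 2-subgroup of `Y` lie in `P` then `Y ≤ P` -/
theorem le_of_odd {Y P : Subgroup X} (hodd : ∀ y ∈ Y, Odd (orderOf y) → y ∈ P) (T : Sylow 2 Y)
    (hT : ∀ t ∈ (T : Subgroup Y), (t : X) ∈ P) : Y ≤ P := by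
  classical
  let K : Subgroup Y := Subgroup.closure {y | Odd (orderOf y)}
  have hKn : K.Normal := by
    constructor
    intro k hk g
    have : K ≤ K.comap (MulAut.conj g).toMonoidHom := by
      rw [Subgroup.closure_le]
      intro y hy
      apply Subgroup.subset_closure
      change Odd (orderOf ((MulAut.conj g) y))
      rw [MulEquiv.orderOf_eq]; exact hy
    exact this hk
  have hQ : IsPGroup 2 (Y ⧸ K) := by
    intro q
    induction q using QuotientGroup.induction_on with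
    | H y =>
      obtain ⟨k, m, hm, e⟩ := Nat.exists_eq_two_pow_mul_odd (orderOf_pos y).ne'
      refine ⟨k, ?_⟩
      rw [← QuotientGroup.mk_pow, QuotientGroup.eq_one_iff]
      apply Subgroup.subset_closure
      change Odd (orderOf (y ^ 2 ^ k))
      rw [orderOf_pow_of_dvd (by positivity) (by rw [e]; exact dvd_mul_right _ _), e,
        Nat.mul_div_cancel_left _ (by positivity)]
      exact hm
  obtain ⟨j, hj⟩ := IsPGroup.iff_card.1 hQ
  have hKi : K.index = 2 ^ j := hj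
  let N : Subgroup Y := P.subgroupOf Y
  have hKN : K ≤ N := by
    rw [Subgroup.closure_le]
    intro y hy
    have : Odd (orderOf (y : X)) := by rw [Subgroup.orderOf_coe]; exact hy
    exact hodd y y.2 this
  have hTN : (T : Subgroup Y) ≤ N := fun t ht => hT t ht
  have h1 : N.index ∣ 2 ^ j := by rw [← hKi]; exact Subgroup.index_dvd_of_le hKN
  have h2 : N.index ∣ (T : Subgroup Y).index := Subgroup.index_dvd_of_le hTN
  have h3 : ¬ 2 ∣ (T : Subgroup Y).index := T.not_dvd_index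
  obtain ⟨i, _, hi⟩ := (Nat.dvd_prime_pow Nat.prime_two).1 h1
  have h4 : i = 0 := by
    by_contra hne
    apply h3
    refine dvd_trans ?_ h2
    rw [hi]; exact dvd_pow_self 2 hne
  rw [h4, pow_zero] at hi
  have h5 : N = ⊤ := Subgroup.index_eq_one.1 hi
  exact Subgroup.subgroupOf_eq_top.1 h5

variable (V) in
/-- the outcome of steps (3), (4) for a minimal pair -/
structure Out (D B C : Subgroup X) (V₁ V₂ AB : AddSubgroup V) : Prop where
  no : ∀ E : Subgroup X, EA E → mm V E ≤ Nat.card V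
  mmB : mm V B = Nat.card V
  le12 : V₂ ≤ V₁
  le1 : V₁ ≤ fx V D
  inv1 : Iv (D ⊔ B ⊔ C) V₁
  inv2 : Iv (D ⊔ B ⊔ C) V₂
  fix : ∀ v ∈ V₁, (∀ y ∈ D ⊔ B ⊔ C, y • v = v) → v ∈ V₂
  sup : V₁ ⊔ fx V B = ⊤
  inf : V₁ ⊓ fx V B = AB
  c1 : Nat.card AB = Nat.card B * Nat.card V₂
  c2 : Nat.card V₁ * Nat.card V₂ = Nat.card AB * Nat.card AB
  ti : ∀ a ∈ B, a ≠ 1 → ∀ v ∈ V₁, a • v - v ∈ V₂ → v ∈ fx V B

variable {𝒟 : Set (Subgroup X)} {D B C : Subgroup X} (h : Hyp V 𝒟) (c : Cfg 𝒟 D) (m : Mn 𝒟 D B C)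
include h c m

theorem out : ∃ V₁ V₂ AB : AddSubgroup V, Out V D B C V₁ V₂ AB := by
  classical
  obtain ⟨O, hOY, hO2, hYO, hDO, hOP, hOx⟩ := exists_O h c m
  set Y := D ⊔ B ⊔ C with hY
  set P := pp D B with hP
  have hDY : D ≤ Y := le_sup_left.trans le_sup_left
  have hBY : B ≤ Y := le_sup_right.trans le_sup_left
  have hCY : C ≤ Y := le_sup_right
  have hDBY : D ⊔ B ≤ Y := le_sup_left
  have hDBP : D ⊔ B ≤ P := le_pp h c m.hB
  have hB2 : IsPGroup 2 B := (h.ea B m.hB.1).isPGroup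
  -- `V₀`, `V₂`
  have hV0 : Iv Y (fx V O) := by
    intro y hy v hv o ho
    have h1 : y⁻¹ * o * y ∈ O := by
      have := (cj_eq_iff_mem_normalizer.2 (hYO hy) : cj y O = O)
      rw [← this, mem_cj] at ho; exact ho
    have h3 : o • y • v = y • (y⁻¹ * o * y) • v := by rw [smul_smul, smul_smul]; congr 1; group
    rw [h3, hv _ h1]
  let V₂ : AddSubgroup V :=
    { carrier := {v | v ∈ fx V O ∧ ∀ y ∈ Y, Odd (orderOf y) → y • v = v}
      zero_mem' := ⟨(fx V O).zero_mem, fun y _ _ => smul_zero y⟩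
      add_mem' := fun hv hw => ⟨(fx V O).add_mem hv.1 hw.1, fun y hy ho => by
        rw [smul_add, hv.2 y hy ho, hw.2 y hy ho]⟩
      neg_mem' := fun hv => ⟨(fx V O).neg_mem hv.1, fun y hy ho => by rw [smul_neg, hv.2 y hy ho]⟩ }
  have hV2 : Iv Y V₂ := by
    intro y hy v hv
    refine ⟨hV0 y hy v hv.1, fun z hz ho => ?_⟩
    have h1 : (y⁻¹ * z * y) • v = v := by
      apply hv.2 _ (Y.mul_mem (Y.mul_mem (Y.inv_mem hy) hz) hy)
      have e : y⁻¹ * z * y = (MulAut.conj y⁻¹) z := by simp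
      rw [e, MulEquiv.orderOf_eq]; exact ho
    have h3 : z • y • v = y • (y⁻¹ * z * y) • v := by rw [smul_smul, smul_smul]; congr 1; group
    rw [h3, h1]
  have hV20 : V₂ ≤ fx V O := fun v hv => hv.1
  -- (4a)
  have h4a : ¬ fx V O ≤ V₂ := by
    intro hle
    have hBO : B ≤ Subgroup.normalizer (O : Set X) := hBY.trans hYO
    obtain ⟨T, hT⟩ := exists_sylow (isPGroup_sup hO2 hB2 hBO)
    have hDBT : D ⊔ B ≤ T := sup_le (hDO.trans (le_sup_left.trans hT)) (le_sup_right.trans hT)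
    obtain ⟨v, hv, hv'⟩ := h.vec T
    have hst := h.stab_le_pt hv hv'
    rw [← pp_eq h c m.hB hDBT] at hst
    have hvO : v ∈ V₂ := hle (fx_anti (le_sup_left.trans hT) hv)
    have hodd : ∀ y ∈ Y, Odd (orderOf y) → y ∈ P := fun y hy ho => hst (hvO.2 y hy ho)
    -- a Sylow subgroup of `Y` over `DB`
    obtain ⟨TY, hTY⟩ := ((isPGroup_sup c.p hB2 m.hB.2.1).comap_subtype (K := Y) :
      IsPGroup 2 ((D ⊔ B).subgroupOf Y)).exists_le_sylow
    have hTP : ∀ t ∈ (TY : Subgroup Y), (t : X) ∈ P := by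
      let H : Subgroup X := (TY : Subgroup Y).map Y.subtype
      have hHY : H ≤ Y := by rintro x ⟨k, _, rfl⟩; exact k.2
      have hDBH : D ⊔ B ≤ H := by
        intro x hx
        exact ⟨⟨x, hDBY hx⟩, hTY hx, rfl⟩
      have hCH : ¬ C ≤ H := by
        intro e
        have hH2 : IsPGroup 2 H := TY.isPGroup'.map Y.subtype
        obtain ⟨U, hU⟩ := exists_sylow hH2
        apply m.ne
        rw [pp_eq h c m.hB (hDBH.trans hU),
          pp_eq h c m.hC (sup_le (le_sup_left.trans (hDBH.trans hU)) (e.trans hU))]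
      have := le_P h c m hHY hDBH hCH
      intro t ht
      exact this ⟨t, ht, rfl⟩
    exact C_not_le h c m (hCY.trans (le_of_odd hodd TY hTP))
  -- `V₁`
  obtain ⟨V₁, ⟨h1inv, h21, h10, hne⟩, h1min⟩ := Set.exists_min_image
    {W : AddSubgroup V | Iv Y W ∧ V₂ ≤ W ∧ W ≤ fx V O ∧ ¬ W ≤ V₂} (fun W => Nat.card W) (Set.toFinite _)
    ⟨fx V O, hV0, hV20, le_rfl, h4a⟩
  have h1min' : ∀ W : AddSubgroup V, Iv Y W → V₂ ≤ W → W ≤ V₁ → ¬ W ≤ V₂ → W = V₁ := by
    intro W hW h2W hW1 hn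
    exact eq_of_card_le hW1 (h1min W ⟨hW, h2W, hW1.trans h10, hn⟩)
  -- C1
  have C1 : ∀ v ∈ V₁, (∀ y ∈ Y, y • v - v ∈ V₂) → v ∈ V₂ := by
    intro v hv hy2
    refine ⟨h10 hv, fun y hy ho => ?_⟩
    set w := y • v - v with hw
    have hwf : y • w = w := (hy2 y hy).2 y hy ho
    have hpow : ∀ n : ℕ, y ^ n • v = v + n • w := by
      intro n
      induction n with
      | zero => simp
      | succ n ih =>
        have e1 : y • (n • w) = n • w := by rw [smul_comm, hwf]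
        have e2 : y • v = v + w := by rw [hw]; abel
        rw [pow_succ', mul_smul, ih, smul_add, e1, e2, succ_nsmul]; abel
    have h3 := hpow (orderOf y)
    rw [pow_orderOf_eq_one, one_smul] at h3
    obtain ⟨k, hk⟩ := ho
    have h4 : (orderOf y) • w = w := by
      rw [hk, add_nsmul, one_nsmul, mul_comm, mul_nsmul, two_nsmul]
      have : k • w + k • w = 0 := h.h2 _
      rw [this, zero_add]
    rw [h4] at h3
    have h5 : w = 0 := by
      have : v + w = v + 0 := by rw [add_zero]; exact h3.symm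
      exact add_left_cancel this
    rw [hw, sub_eq_zero] at h5
    exact h5
  -- `V₂ < V₁`
  have hne' : V₂ ≠ V₁ := fun e => hne e.ge
  -- an element `x` outside `P`
  have hYP : ¬ Y ≤ P := fun e => C_not_le h c m (hCY.trans e)
  obtain ⟨x₀, hx₀, hx₀P⟩ := Set.not_subset.1 hYP
  -- the subgroups `A_F`
  let AA : Subgroup X → AddSubgroup V := fun F =>
    { carrier := {v | v ∈ V₁ ∧ ∀ b ∈ F, b • v - v ∈ V₂}
      zero_mem' := ⟨V₁.zero_mem, fun b _ => by rw [smul_zero, sub_self]; exact V₂.zero_mem⟩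
      add_mem' := fun {v w} hv hw => ⟨V₁.add_mem hv.1 hw.1, fun b hb => by
        have := V₂.add_mem (hv.2 b hb) (hw.2 b hb)
        rw [smul_add]
        convert this using 1; abel⟩
      neg_mem' := fun {v} hv => ⟨V₁.neg_mem hv.1, fun b hb => by
        have := V₂.neg_mem (hv.2 b hb)
        rw [smul_neg]
        convert this using 1; abel⟩ }
  have hAA1 : ∀ F, AA F ≤ V₁ := fun F v hv => hv.1
  have hAA2 : ∀ F ≤ Y, V₂ ≤ AA F := by
    intro F hF v hv
    exact ⟨h21 hv, fun b hb => V₂.sub_mem (hV2 b (hF hb) v hv) hv⟩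
  -- intersection
  have hinf : ∀ x ∈ Y, x ∉ P → AA B ⊓ AA (cj x B) ≤ V₂ := by
    intro x hx hxP v hv
    apply C1 v hv.1.1
    have hle : Y ≤ sb Y V₂ hV2 v := by
      refine (Y_eq h c m hx hxP).ge.trans (sup_le (sup_le ?_ ?_) ?_)
      · intro d hd
        refine ⟨hDY hd, ?_⟩
        rw [h10 hv.1.1 d (hDO hd), sub_self]; exact V₂.zero_mem
      · intro b hb; exact ⟨hBY hb, hv.1.2 b hb⟩
      · intro b hb
        refine ⟨?_, hv.2.2 b hb⟩
        have := cj_mono x hBY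
        rw [cj_eq_self_of_mem hx] at this
        exact this hb
    intro y hy
    exact (hle hy).2
  have hsup : ∀ x ∈ Y, x ∉ P → AA B ⊔ AA (cj x B) = V₁ := by
    intro x hx hxP
    set W := AA B ⊔ AA (cj x B) with hW
    have hcjY : cj x B ≤ Y := by
      have := cj_mono x hBY
      rwa [cj_eq_self_of_mem hx] at this
    have hW1 : W ≤ V₁ := sup_le (hAA1 _) (hAA1 _)
    have h2W : V₂ ≤ W := (hAA2 B hBY).trans le_sup_left
    -- the elements of `Y` with `[V₁, y] ≤ W`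
    let S : Subgroup X :=
      { carrier := {y | y ∈ Y ∧ ∀ v ∈ V₁, y • v - v ∈ W}
        one_mem' := ⟨Y.one_mem, fun v _ => by rw [one_smul, sub_self]; exact W.zero_mem⟩
        mul_mem' := fun {y z} hy hz => ⟨Y.mul_mem hy.1 hz.1, fun v hv => by
          have h1 := hz.2 v hv
          have h2 := hy.2 _ (hW1 h1)
          have h3 := W.add_mem (W.add_mem h2 h1) (hy.2 v hv)
          have e : (y * z) • v - v = y • (z • v - v) - (z • v - v) + (z • v - v) + (y • v - v) := by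
            rw [mul_smul, smul_sub]; abel
          rw [e]; exact h3⟩
        inv_mem' := fun {y} hy => ⟨Y.inv_mem hy.1, fun v hv => by
          have h1 := hy.2 (y⁻¹ • v) (h1inv _ (Y.inv_mem hy.1) v hv)
          rw [smul_inv_smul] at h1
          have := W.neg_mem h1
          convert this using 1; abel⟩ }
    have hSY : Y ≤ S := by
      rw [hY, ← Y_eq h c m hx hxP]
      refine sup_le (sup_le ?_ ?_) ?_
      · intro d hd
        refine ⟨hDY hd, fun v hv => ?_⟩
        rw [h10 hv d (hDO hd), sub_self]; exact W.zero_mem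
      · intro b hb
        refine ⟨hBY hb, fun v hv => ?_⟩
        apply (le_sup_left : AA B ≤ W)
        refine ⟨V₁.sub_mem (h1inv b (hBY hb) v hv) hv, fun b' hb' => ?_⟩
        rw [h.quad B m.hB.1 b hb b' hb', sub_self]; exact V₂.zero_mem
      · intro b hb
        refine ⟨hcjY hb, fun v hv => ?_⟩
        apply (le_sup_right : AA (cj x B) ≤ W)
        refine ⟨V₁.sub_mem (h1inv b (hcjY hb) v hv) hv, fun b' hb' => ?_⟩
        rw [h.quad _ (h.conj B m.hB.1 x) b hb b' hb', sub_self]; exact V₂.zero_mem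
    apply h1min' W _ h2W hW1
    · intro hcon
      obtain ⟨v, hv, hv2⟩ := Set.not_subset.1 hne
      apply hv2
      apply C1 v hv
      intro y hy
      exact hcon ((hSY hy).2 v hv)
    · intro y hy v hv
      have h1 := (hSY hy).2 v (hW1 hv)
      have := W.add_mem h1 hv
      convert this using 1; abel
  -- cardinalities
  have hcardAA : ∀ x ∈ Y, Nat.card (AA (cj x B)) = Nat.card (AA B) := by
    intro x hx
    apply card_smul x
    intro v
    constructor
    · intro hv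
      refine ⟨h1inv _ (Y.inv_mem hx) v hv.1, fun b hb => ?_⟩
      have h1 := hV2 _ (Y.inv_mem hx) _ (hv.2 _ (mem_cj_of (g := x) hb))
      have e : b • x⁻¹ • v - x⁻¹ • v = x⁻¹ • ((x * b * x⁻¹) • v - v) := by
        rw [smul_sub, smul_smul, smul_smul]; congr 2; group
      rw [e]; exact h1
    · intro hv
      refine ⟨?_, fun b hb => ?_⟩
      · have := h1inv x hx _ hv.1
        rwa [smul_inv_smul] at this
      · have h1 := hV2 x hx _ (hv.2 _ (mem_cj.1 hb))
        have e : b • v - v = x • ((x⁻¹ * b * x) • x⁻¹ • v - x⁻¹ • v) := by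
          rw [smul_sub, smul_smul, smul_smul, smul_inv_smul]; congr 2; group
        rw [e]; exact h1
  have c2 : Nat.card V₁ * Nat.card V₂ = Nat.card (AA B) * Nat.card (AA B) := by
    have h1 := card_sup_inf (AA B) (AA (cj x₀ B))
    have h2 : AA B ⊓ AA (cj x₀ B) = V₂ :=
      le_antisymm (hinf x₀ hx₀ hx₀P) (le_inf (hAA2 B hBY) (hAA2 _ (by
        have := cj_mono x₀ hBY
        rwa [cj_eq_self_of_mem hx₀] at this)))
    rw [hsup x₀ hx₀ hx₀P, h2, hcardAA x₀ hx₀] at h1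
    exact h1
  -- (3a)
  have h3a : ∀ a ∈ B, a ∉ O → ∀ v ∈ V₁, a • v - v ∈ V₂ → v ∈ AA B := by
    intro a ha haO v hv hav
    obtain ⟨x, hx, hxP, hax⟩ := hOx a ha haO
    have hcjY : cj x B ≤ Y := by
      have := cj_mono x hBY
      rwa [cj_eq_self_of_mem hx] at this
    rw [← hsup x hx hxP] at hv
    obtain ⟨v₁, hv₁, v₂, hv₂, rfl⟩ := mem_sup hv
    have h1 : a • v₂ - v₂ ∈ V₂ := by
      have := V₂.sub_mem hav (hv₁.2 a ha)
      rw [smul_add] at this
      convert this using 1; abel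
    by_cases hH : Y ≤ sb Y V₂ hV2 v₂
    · have h2 : v₂ ∈ V₂ := C1 v₂ hv₂.1 fun y hy => (hH hy).2
      exact (AA B).add_mem hv₁ (hAA2 B hBY h2)
    · exfalso
      apply hax
      have h2 : sb Y V₂ hV2 v₂ ≤ cj x P := by
        apply le_P' h c m hx (fun y (hy : y ∈ sb Y V₂ hV2 v₂) => hy.1) _ hH
        apply sup_le
        · intro d hd
          refine ⟨hDY hd, ?_⟩
          rw [h10 hv₂.1 d (hDO hd), sub_self]; exact V₂.zero_mem
        · intro b hb
          exact ⟨hcjY hb, hv₂.2 b hb⟩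
      exact h2 ⟨hBY ha, h1⟩
  -- (3b)
  have hAB1 : ¬ V₁ ≤ AA B := by
    intro hle
    have e : AA B = V₁ := le_antisymm (hAA1 B) hle
    rw [e] at c2
    have : Nat.card V₂ = Nat.card V₁ := Nat.eq_of_mul_eq_mul_left (card_pos V₁) c2
    exact hne' (eq_of_card_le h21 this.ge)
  obtain ⟨w, hw1, hwA⟩ := Set.not_subset.1 hAB1
  have h3b : Nat.card B * Nat.card V₂ ≤ Nat.card (B ⊓ O : Subgroup X) * Nat.card (AA B) := by
    apply card_fib (hAA2 B hBY) (fun b => b • w - w)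
    · intro b hb
      refine ⟨V₁.sub_mem (h1inv b (hBY hb) w hw1) hw1, fun b' hb' => ?_⟩
      rw [h.quad B m.hB.1 b hb b' hb', sub_self]; exact V₂.zero_mem
    · intro a ha b hb hab
      have hba : b⁻¹ * a ∈ B := B.mul_mem (B.inv_mem hb) ha
      refine Subgroup.mem_inf.2 ⟨hba, ?_⟩
      by_contra hO
      apply hwA
      apply h3a _ hba hO w hw1
      have h1 : (a • w - b • w : V) ∈ V₂ := by convert hab using 1; abel
      have h2 := hV2 _ (Y.inv_mem (hBY hb)) _ h1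
      rw [smul_sub, smul_smul, inv_smul_smul] at h2
      exact h2
  -- (4)
  have hinfB : V₁ ⊓ fx V B ≤ AA B := by
    intro v hv
    refine ⟨hv.1, fun b hb => ?_⟩
    rw [hv.2 b hb, sub_self]; exact V₂.zero_mem
  set C1' := fx V B with hC1'
  have e1 := card_sup_inf V₁ C1'
  have h4 : mm V B ≤ mm V (B ⊓ O : Subgroup X) ∧
      (Nat.card B * Nat.card V₂) * (Nat.card (AA B) * Nat.card C1') ≤
        Nat.card (B ⊓ O : Subgroup X) * Nat.card (V₁ ⊔ C1' : AddSubgroup V) * (Nat.card V₂ * Nat.card (AA B)) := by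
    have h5 : Nat.card V₁ * Nat.card C1' ≤ Nat.card (V₁ ⊔ C1' : AddSubgroup V) * Nat.card (AA B) := by
      rw [← e1]; exact Nat.mul_le_mul_left _ (card_le hinfB)
    have h6 : V₁ ⊔ C1' ≤ fx V (B ⊓ O : Subgroup X) :=
      sup_le (h10.trans (fx_anti inf_le_right)) (fx_anti inf_le_left)
    have h7 : (Nat.card B * Nat.card V₂) * (Nat.card (AA B) * Nat.card C1') ≤
        Nat.card (B ⊓ O : Subgroup X) * Nat.card (V₁ ⊔ C1' : AddSubgroup V) * (Nat.card V₂ * Nat.card (AA B)) := by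
      calc (Nat.card B * Nat.card V₂) * (Nat.card (AA B) * Nat.card C1')
          ≤ (Nat.card (B ⊓ O : Subgroup X) * Nat.card (AA B)) * (Nat.card (AA B) * Nat.card C1') :=
            Nat.mul_le_mul_right _ h3b
        _ = Nat.card (B ⊓ O : Subgroup X) * (Nat.card (AA B) * Nat.card (AA B)) * Nat.card C1' := by ring
        _ = Nat.card (B ⊓ O : Subgroup X) * Nat.card V₂ * (Nat.card V₁ * Nat.card C1') := by rw [← c2]; ring
        _ ≤ Nat.card (B ⊓ O : Subgroup X) * Nat.card V₂ * (Nat.card (V₁ ⊔ C1' : AddSubgroup V) * Nat.card (AA B)) :=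
            Nat.mul_le_mul_left _ h5
        _ = _ := by ring
    refine ⟨?_, h7⟩
    have hpos : 0 < Nat.card V₂ * Nat.card (AA B) := Nat.mul_pos (card_pos _) (card_pos _)
    apply Nat.le_of_mul_le_mul_right _ hpos
    calc mm V B * (Nat.card V₂ * Nat.card (AA B))
        = (Nat.card B * Nat.card V₂) * (Nat.card (AA B) * Nat.card C1') := by rw [mm]; ring
      _ ≤ _ := h7
      _ ≤ mm V (B ⊓ O : Subgroup X) * (Nat.card V₂ * Nat.card (AA B)) := by
          apply Nat.mul_le_mul_right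
          exact Nat.mul_le_mul_left _ (card_le h6)
  have hBO : B ⊓ O = ⊥ := by
    by_contra hne
    have hlt : B ⊓ O < B := by
      refine lt_of_le_of_ne inf_le_left fun e => ?_
      have hBO : B ≤ O := inf_eq_left.1 e
      apply hx₀P
      apply pp_eq_of_le_cj h c m.hB
      apply (sup_le hDO hBO).trans
      have := cj_mono x₀ hOP
      rwa [cj_eq_iff_mem_normalizer.2 (hYO hx₀)] at this
    exact absurd (h.min B m.hB.1 _ hlt hne) (not_lt.2 h4.1)
  have hmmB : mm V B = Nat.card V := by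
    apply le_antisymm
    · rw [← mm_bot (V := V) (X := X), ← hBO]; exact h4.1
    · rw [← mm_bot (V := V) (X := X)]
      exact h.max B m.hB.1 _ fun a ha => by rw [Subgroup.mem_bot] at ha; rw [ha, one_mul]
  have h41 := h4.2
  rw [hBO, Subgroup.card_bot, one_mul] at h41
  have h3b' := h3b
  rw [hBO, Subgroup.card_bot, one_mul] at h3b'
  -- equalities
  have hpos : 0 < Nat.card V₂ * Nat.card (AA B) := Nat.mul_pos (card_pos _) (card_pos _)
  have hle1 : Nat.card V ≤ Nat.card (V₁ ⊔ C1' : AddSubgroup V) := by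
    apply Nat.le_of_mul_le_mul_right _ hpos
    calc Nat.card V * (Nat.card V₂ * Nat.card (AA B))
        = (Nat.card B * Nat.card V₂) * (Nat.card (AA B) * Nat.card C1') := by rw [← hmmB, mm]; ring
      _ ≤ _ := h41
  have hsupT : V₁ ⊔ C1' = ⊤ := by
    apply eq_of_card_le le_top
    rw [card_top]; exact hle1
  have hVpos : 0 < Nat.card V := Nat.card_pos
  have e2 : Nat.card V * Nat.card (V₁ ⊓ C1' : AddSubgroup V) = Nat.card V₁ * Nat.card C1' := by
    rw [← e1, hsupT, card_top]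
  -- |AA B| ≤ |B| |V₂|
  have hAAle : Nat.card (AA B) ≤ Nat.card B * Nat.card V₂ := by
    -- |V₁| |C| = |V| |V₁ ⊓ C| ≤ |V| |AA| = |B| |C| |AA|
    have h5 : Nat.card V₁ ≤ Nat.card B * Nat.card (AA B) := by
      have hCpos : 0 < Nat.card C1' := card_pos _
      apply Nat.le_of_mul_le_mul_right _ hCpos
      calc Nat.card V₁ * Nat.card C1' = Nat.card V * Nat.card (V₁ ⊓ C1' : AddSubgroup V) := e2.symm
        _ ≤ Nat.card V * Nat.card (AA B) := Nat.mul_le_mul_left _ (card_le hinfB)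
        _ = Nat.card B * Nat.card (AA B) * Nat.card C1' := by rw [← hmmB, mm]; ring
    have h6 : Nat.card (AA B) * Nat.card (AA B) ≤ Nat.card B * Nat.card (AA B) * Nat.card V₂ := by
      rw [← c2]; exact Nat.mul_le_mul_right _ h5
    have hApos : 0 < Nat.card (AA B) := card_pos _
    apply Nat.le_of_mul_le_mul_right _ hApos
    calc _ ≤ _ := h6
      _ = _ := by ring
  have c1 : Nat.card (AA B) = Nat.card B * Nat.card V₂ := le_antisymm hAAle h3b'
  have hinfeq : V₁ ⊓ C1' = AA B := by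
    apply eq_of_card_le hinfB
    -- |V₁| |C| = |V| |V₁ ⊓ C|, |V₁| |V₂| = |AA|², |AA| = |B| |V₂| so |V₁| = |B| |AA|
    have h5 : Nat.card V₁ = Nat.card B * Nat.card (AA B) := by
      have h2pos : 0 < Nat.card V₂ := card_pos _
      apply Nat.eq_of_mul_eq_mul_right h2pos
      rw [c2]; nth_rewrite 1 [c1]; ring
    have h6 : Nat.card V * Nat.card (AA B) = Nat.card V * Nat.card (V₁ ⊓ C1' : AddSubgroup V) := by
      rw [e2, h5, ← hmmB, mm]; ring
    exact (Nat.eq_of_mul_eq_mul_left hVpos h6).le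
  have hno : ∀ E : Subgroup X, EA E → mm V E ≤ Nat.card V := by
    intro E hE; rw [← hmmB]; exact h.max B m.hB.1 E hE
  refine ⟨V₁, V₂, AA B, hno, hmmB, h21, h10.trans (fx_anti hDO), h1inv, hV2, ?_, hsupT, hinfeq, c1, c2, ?_⟩
  · intro v hv hy
    apply C1 v hv
    intro y hyY
    rw [hy y hyY, sub_self]; exact V₂.zero_mem
  · intro a ha ha1 v hv hav
    have haO : a ∉ O := by
      intro haO
      have : a ∈ B ⊓ O := Subgroup.mem_inf.2 ⟨ha, haO⟩
      rw [hBO, Subgroup.mem_bot] at this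
      exact ha1 this
    have := h3a a ha haO v hv hav
    rw [← hinfeq] at this
    exact this.2

end Cfsg.Agent.Omega.FF.Chief

end

section


/-!
# THEOREM FF, step (5): all pairs in `𝒜_N` at different points
-/

set_option autoImplicit false
set_option linter.unusedSectionVars false

namespace Cfsg.Agent.Omega.FF.Pair

open Cfsg.Agent.Omega.FF.Basic Cfsg.Agent.Omega.FF.Setup Cfsg.Agent.Omega.FF.Frat Cfsg.Agent.Omega.FF.Conf
open Cfsg.Agent.Omega.FF.Min Cfsg.Agent.Omega.FF.Chief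
open scoped Pointwise

variable {X : Type*} [Group X] [Finite X] {V : Type*} [AddCommGroup V] [Finite V] [DistribMulAction X V]

omit [Finite X] in
/-- if the commutators of `A` are fixed by `B` and conversely, then `A`, `B` commute (faithful action) -/
theorem commute_of (hf : ∀ x : X, (∀ v : V, x • v = v) → x = 1) {a b : X}
    (h1 : ∀ v : V, b • (a • v - v) = a • v - v) (h2 : ∀ v : V, a • (b • v - v) = b • v - v) : a * b = b * a := by
  have key : ∀ v : V, (a * b) • v = (b * a) • v := by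
    intro v
    have e1 := h1 v
    have e2 := h2 v
    rw [smul_sub, smul_smul] at e1 e2
    have e3 : (b * a) • v = a • v - v + b • v := by rw [← e1]; abel
    have e4 : (a * b) • v = b • v - v + a • v := by rw [← e2]; abel
    rw [e3, e4]; abel
  have : (b * a)⁻¹ * (a * b) = 1 := by
    apply hf
    intro v
    rw [mul_smul, key, inv_smul_smul]
  rw [inv_mul_eq_one] at this
  exact this.symm

omit [Finite X] in
/-- product of two commuting elementary abelian groups -/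
theorem EA_sup {A B : Subgroup X} (hA : EA A) (hB : EA B) (hc : ∀ a ∈ A, ∀ b ∈ B, a * b = b * a) : EA (A ⊔ B) := by
  let E : Subgroup X :=
    { carrier := {x | ∃ a ∈ A, ∃ b ∈ B, x = a * b}
      one_mem' := ⟨1, A.one_mem, 1, B.one_mem, by simp⟩
      mul_mem' := by
        rintro _ _ ⟨a, ha, b, hb, rfl⟩ ⟨a', ha', b', hb', rfl⟩
        refine ⟨a * a', A.mul_mem ha ha', b * b', B.mul_mem hb hb', ?_⟩
        have := hc a' ha' b hb
        calc a * b * (a' * b') = a * (b * a') * b' := by group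
          _ = a * (a' * b) * b' := by rw [this]
          _ = _ := by group
      inv_mem' := by
        rintro _ ⟨a, ha, b, hb, rfl⟩
        refine ⟨a⁻¹, A.inv_mem ha, b⁻¹, B.inv_mem hb, ?_⟩
        rw [hc a ha b hb, mul_inv_rev] }
  have hle : A ⊔ B ≤ E := sup_le (fun a ha => ⟨a, ha, 1, B.one_mem, by simp⟩)
    (fun b hb => ⟨1, A.one_mem, b, hb, by simp⟩)
  intro x hx
  obtain ⟨a, ha, b, hb, rfl⟩ := hle hx
  calc a * b * (a * b) = a * (b * a) * b := by group
    _ = a * (a * b) * b := by rw [← hc a ha b hb]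
    _ = (a * a) * (b * b) := by group
    _ = 1 := by rw [hA a ha, hB b hb, one_mul]

variable {𝒟 : Set (Subgroup X)} {D : Subgroup X} (h : Hyp V 𝒟) (c : Cfg 𝒟 D)
include h c

/-! ### consequences for the class `𝒟` -/

/-- (a) of the theorem: no over-offenders -/
theorem no (E : Subgroup X) (hE : EA E) : mm V E ≤ Nat.card V := by
  obtain ⟨B, hB, C, hC, hne⟩ := exists_two h c
  obtain ⟨F, hF, _⟩ := exists_mn hB hC hne
  obtain ⟨V₁, V₂, AB, o⟩ := out h c hF
  exact o.no E hE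

theorem mm_eq {A : Subgroup X} (hA : A ∈ 𝒟) : mm V A = Nat.card V := by
  obtain ⟨B, hB, C, hC, hne⟩ := exists_two h c
  obtain ⟨F, hF, _⟩ := exists_mn hB hC hne
  obtain ⟨V₁, V₂, AB, o⟩ := out h c hF
  obtain ⟨g, hg⟩ := h.tr B hB.1 A hA
  rw [← hg, mm_cj, o.mmB]

omit c in
theorem card_eq {A B : Subgroup X} (hA : A ∈ 𝒟) (hB : B ∈ 𝒟) : Nat.card A = Nat.card B := by
  obtain ⟨g, hg⟩ := h.tr B hB A hA
  rw [← hg, card_cj]

omit c in
theorem two_le {A : Subgroup X} (hA : A ∈ 𝒟) : 2 ≤ Nat.card A := by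
  have := (Subgroup.one_lt_card_iff_ne_bot A).2 (h.nb A hA)
  omega

/-- TI1 -/
theorem ti {A : Subgroup X} (hA : A ∈ 𝒟) {a : X} (ha : a ∈ A) (ha1 : a ≠ 1) {v : V} (hv : a • v = v) : v ∈ fx V A := by
  obtain ⟨B, hB, C, hC, hne⟩ := exists_two h c
  obtain ⟨F, hF, _⟩ := exists_mn hB hC hne
  obtain ⟨V₁, V₂, AB, o⟩ := out h c hF
  have key : ∀ b ∈ B, b ≠ 1 → ∀ v : V, b • v = v → v ∈ fx V B := by
    intro b hb hb1 v hv
    have hvT : v ∈ V₁ ⊔ fx V B := by rw [o.sup]; trivial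
    obtain ⟨v₁, hv₁, u, hu, rfl⟩ := mem_sup hvT
    have h1 : b • v₁ = v₁ := by
      rw [smul_add, hu b hb] at hv
      exact add_right_cancel hv
    have h2 : v₁ ∈ fx V B := o.ti b hb hb1 v₁ hv₁ (by rw [h1, sub_self]; exact V₂.zero_mem)
    exact (fx V B).add_mem h2 hu
  obtain ⟨g, hg⟩ := h.tr B hB.1 A hA
  rw [← hg] at ha ⊢
  rw [mem_fx_cj]
  apply key _ (mem_cj.1 ha)
  · intro e
    apply ha1
    have : a = g * (g⁻¹ * a * g) * g⁻¹ := by group
    rw [this, e]; group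
  · rw [smul_smul, mul_assoc, mul_inv_cancel, mul_one, mul_smul, hv]

theorem fx_ne_top {A : Subgroup X} (hA : A ∈ 𝒟) : ¬ ∀ v : V, v ∈ fx V A := by
  intro e
  apply h.nb A hA
  rw [Subgroup.eq_bot_iff_forall]
  intro x hx
  exact h.faith x fun v => e v x hx

/-- AX -/
theorem ax {A B : Subgroup X} (hA : A ∈ 𝒟) (hB : B ∈ 𝒟) (e : fx V A = fx V B) : A = B := by
  have hc : ∀ a ∈ A, ∀ b ∈ B, a * b = b * a := by
    intro a ha b hb
    apply commute_of h.faith
    · intro v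
      have h1 : a • v - v ∈ fx V A := fun a' ha' => h.quad A hA a ha a' ha' v
      rw [e] at h1
      exact h1 b hb
    · intro v
      have h1 : b • v - v ∈ fx V B := fun a' ha' => h.quad B hB b hb a' ha' v
      rw [← e] at h1
      exact h1 a ha
  have h1 := no h c _ (EA_sup (h.ea A hA) (h.ea B hB) hc)
  have h2 := mm_eq h c hA
  rw [mm, fx_sup, ← e, inf_idem, ← h2, mm] at h1
  have h3 := Nat.le_of_mul_le_mul_right h1 (card_pos _)
  have h4 : A = A ⊔ B := Subgroup.eq_of_le_of_card_ge le_sup_left h3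
  have h5 : B ≤ A := by rw [h4]; exact le_sup_right
  exact (Subgroup.eq_of_le_of_card_ge h5 (card_eq h hA hB).le).symm

omit h c [Finite X] [Finite V] in
theorem fx_inv {n : X} (hn : n ∈ Subgroup.normalizer (D : Set X)) {v : V} (hv : v ∈ fx V D) : n • v ∈ fx V D := by
  have := smul_mem_fx_cj (g := n) hv
  rwa [cj_eq_iff_mem_normalizer.2 hn] at this

/-! ### pairs -/

section pair

variable {B C : Subgroup X} (hB : B ∈ AN 𝒟 D) (hC : C ∈ AN 𝒟 D) (hne : pp D C ≠ pp D B)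
include hB hC hne

/-- cardinalities -/
theorem pair_basic : fx V D ⊔ (fx V B ⊓ fx V C) = ⊤ ∧
    Nat.card (fx V D) = Nat.card B * Nat.card B * Nat.card (fx V D ⊓ fx V B ⊓ fx V C : AddSubgroup V) ∧
    ∀ b ∈ B, b ≠ 1 → ∀ v ∈ fx V D, b • v - v ∈ fx V D ⊓ fx V B ⊓ fx V C → v ∈ fx V B := by
  obtain ⟨F, hF, hFY⟩ := exists_mn hB hC hne
  obtain ⟨V₁, V₂, AB, o⟩ := out h c hF
  set W : AddSubgroup V := fx V D ⊓ fx V B ⊓ fx V C with hW
  set cBC : AddSubgroup V := fx V B ⊓ fx V C with hcBC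
  set q := Nat.card B with hq
  have hWe : W = fx V D ⊓ cBC := by rw [hW, hcBC, inf_assoc]
  have hWY : ∀ w ∈ W, ∀ y ∈ D ⊔ B ⊔ C, y • w = w := by
    intro w hw y hy
    have : w ∈ fx V (D ⊔ B ⊔ C) := by rw [fx_sup, fx_sup]; exact hw
    exact this y hy
  have hV1W : V₁ ⊓ W ≤ V₂ := by
    intro v hv
    apply o.fix v hv.1
    intro y hy
    exact hWY v hv.2 y ((sup_le le_sup_left hFY : D ⊔ B ⊔ F ≤ D ⊔ B ⊔ C) hy)
  -- |V₁| = q² |V₂|
  have c3 : Nat.card V₁ = q * q * Nat.card V₂ := by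
    have := o.c2
    rw [o.c1] at this
    apply Nat.eq_of_mul_eq_mul_right (card_pos V₂)
    rw [this]; ring
  -- lower bound
  have e1 := card_sup_inf V₁ W
  have hV1W' : V₁ ⊔ W ≤ fx V D := sup_le o.le1 (by rw [hWe]; exact inf_le_left)
  have hlow : q * q * Nat.card W ≤ Nat.card (fx V D) := by
    apply Nat.le_of_mul_le_mul_right _ (card_pos V₂)
    calc q * q * Nat.card W * Nat.card V₂ = Nat.card V₁ * Nat.card W := by rw [c3]; ring
      _ = Nat.card (V₁ ⊔ W : AddSubgroup V) * Nat.card (V₁ ⊓ W : AddSubgroup V) := e1.symm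
      _ ≤ Nat.card (fx V D) * Nat.card V₂ := Nat.mul_le_mul (card_le hV1W') (card_le hV1W)
  -- upper bound
  have hVB : q * Nat.card (fx V B) = Nat.card V := mm_eq h c hB.1
  have hVC : q * Nat.card (fx V C) = Nat.card V := by
    rw [hq, card_eq h hB.1 hC.1]; exact mm_eq h c hC.1
  have e2 := card_sup_inf (fx V B) (fx V C)
  have hVpos : 0 < Nat.card V := Nat.card_pos
  have hup1 : Nat.card V ≤ q * q * Nat.card cBC := by
    apply Nat.le_of_mul_le_mul_left _ hVpos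
    calc Nat.card V * Nat.card V = q * q * (Nat.card (fx V B) * Nat.card (fx V C)) := by
          nth_rewrite 1 [← hVB]; rw [← hVC]; ring
      _ = q * q * (Nat.card (fx V B ⊔ fx V C : AddSubgroup V) * Nat.card cBC) := by rw [e2]
      _ ≤ q * q * (Nat.card V * Nat.card cBC) :=
          Nat.mul_le_mul_left _ (Nat.mul_le_mul_right _ (card_le_top _))
      _ = _ := by ring
  have e3 := card_sup_inf (fx V D) cBC
  rw [← hWe] at e3
  -- |fx D| |cBC| = |sup| |W| ≤ |V| |W| ≤ q² |cBC| |W|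
  have hup : Nat.card (fx V D) ≤ q * q * Nat.card W := by
    apply Nat.le_of_mul_le_mul_right _ (card_pos cBC)
    calc Nat.card (fx V D) * Nat.card cBC = Nat.card (fx V D ⊔ cBC : AddSubgroup V) * Nat.card W := e3.symm
      _ ≤ Nat.card V * Nat.card W := Nat.mul_le_mul_right _ (card_le_top _)
      _ ≤ q * q * Nat.card cBC * Nat.card W := Nat.mul_le_mul_right _ hup1
      _ = _ := by ring
  have hD : Nat.card (fx V D) = q * q * Nat.card W := le_antisymm hup hlow
  have hsup : fx V D ⊔ cBC = ⊤ := by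
    apply eq_of_card_le le_top
    rw [card_top]
    apply Nat.le_of_mul_le_mul_right _ (card_pos W)
    rw [e3, hD]
    calc Nat.card V * Nat.card W ≤ q * q * Nat.card cBC * Nat.card W := Nat.mul_le_mul_right _ hup1
      _ = _ := by ring
  -- V₁ ⊔ W = fx D, V₁ ⊓ W = V₂
  have e4 : Nat.card (V₁ ⊔ W : AddSubgroup V) * Nat.card (V₁ ⊓ W : AddSubgroup V) = Nat.card (fx V D) * Nat.card V₂ := by
    rw [e1, c3, hD]; ring
  have hV1Weq : V₁ ⊔ W = fx V D := by
    apply eq_of_card_le hV1W'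
    apply Nat.le_of_mul_le_mul_right _ (card_pos V₂)
    rw [← e4]; exact Nat.mul_le_mul_left _ (card_le hV1W)
  have hV2eq : V₁ ⊓ W = V₂ := by
    apply eq_of_card_le hV1W
    rw [hV1Weq] at e4
    exact (Nat.eq_of_mul_eq_mul_left (card_pos _) e4).ge
  refine ⟨hsup, hD, ?_⟩
  intro b hb hb1 v hv hbv
  rw [← hV1Weq] at hv
  obtain ⟨v₁, hv₁, w, hw, rfl⟩ := mem_sup hv
  have hbw : b • w = w := hWY w hw b ((le_sup_right.trans le_sup_left : B ≤ D ⊔ B ⊔ C) hb)
  have h1 : b • v₁ - v₁ ∈ V₂ := by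
    rw [← hV2eq]
    refine AddSubgroup.mem_inf.2
      ⟨V₁.sub_mem (o.inv1 b ((le_sup_right.trans le_sup_left : B ≤ D ⊔ B ⊔ F) hb) v₁ hv₁) hv₁, ?_⟩
    rw [smul_add, hbw] at hbv
    convert hbv using 1; abel
  have h2 := o.ti b hb hb1 v₁ hv₁ h1
  refine (fx V B).add_mem h2 ?_
  have h3 : w ∈ fx V D ⊓ cBC := by rw [← hWe]; exact hw
  exact h3.2.1

theorem sup_eq : fx V D ⊔ (fx V B ⊓ fx V C) = ⊤ := (pair_basic h c hB hC hne).1

theorem mem_sup' (v : V) : ∃ d ∈ fx V D, ∃ u : V, u ∈ fx V B ∧ u ∈ fx V C ∧ d + u = v := by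
  have : v ∈ fx V D ⊔ (fx V B ⊓ fx V C) := by rw [sup_eq h c hB hC hne]; trivial
  obtain ⟨d, hd, u, hu, e⟩ := mem_sup this
  exact ⟨d, hd, u, hu.1, hu.2, e⟩

/-- `[V, B] ≤ C_V(D)` -/
theorem comm_mem {b : X} (hb : b ∈ B) (v : V) : b • v - v ∈ fx V D := by
  obtain ⟨d, hd, u, hu, _, rfl⟩ := mem_sup' h c hB hC hne v
  have e : b • (d + u) - (d + u) = b • d - d := by rw [smul_add, hu b hb]; abel
  rw [e]
  exact (fx V D).sub_mem (fx_inv (hB.2.1 hb) hd) hd

/-- (P3) -/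
theorem p3 {b : X} (hb : b ∈ B) {v : V} (hv : b • v - v ∈ fx V C) : b • v = v := by
  by_cases hb1 : b = 1
  · rw [hb1, one_smul]
  obtain ⟨d, hd, u, hu, _, rfl⟩ := mem_sup' h c hB hC hne v
  have e : b • (d + u) - (d + u) = b • d - d := by rw [smul_add, hu b hb]; abel
  rw [e] at hv
  have h1 : d ∈ fx V B := by
    apply (pair_basic h c hB hC hne).2.2 b hb hb1 d hd
    refine ⟨⟨(fx V D).sub_mem (fx_inv (hB.2.1 hb) hd) hd, ?_⟩, hv⟩
    exact fun b' hb' => h.quad B hB.1 b hb b' hb' d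
  rw [smul_add, hu b hb, h1 b hb]

end pair

/-! ### the two hyperplane-like subgroups -/

theorem halves {B C : Subgroup X} (hB : B ∈ AN 𝒟 D) (hC : C ∈ AN 𝒟 D) (hne : pp D C ≠ pp D B) :
    (fx V D ⊓ fx V B) ⊔ (fx V D ⊓ fx V C) = fx V D ∧
    Nat.card (fx V D ⊓ fx V B : AddSubgroup V) =
      Nat.card B * Nat.card (fx V D ⊓ fx V B ⊓ fx V C : AddSubgroup V) ∧
    Nat.card (fx V D ⊓ fx V C : AddSubgroup V) =
      Nat.card B * Nat.card (fx V D ⊓ fx V B ⊓ fx V C : AddSubgroup V) := by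
  obtain ⟨_, hD, _⟩ := pair_basic h c hB hC hne
  set W : AddSubgroup V := fx V D ⊓ fx V B ⊓ fx V C with hW
  set q := Nat.card B with hq
  have hVB : q * Nat.card (fx V B) = Nat.card V := mm_eq h c hB.1
  have hVC : q * Nat.card (fx V C) = Nat.card V := by
    rw [hq, card_eq h hB.1 hC.1]; exact mm_eq h c hC.1
  set HB : AddSubgroup V := fx V D ⊓ fx V B with hHB
  set HC : AddSubgroup V := fx V D ⊓ fx V C with hHC
  have hWe : HB ⊓ HC = W := by
    rw [hW, hHB, hHC]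
    apply le_antisymm
    · exact le_inf inf_le_left (inf_le_right.trans inf_le_right)
    · exact le_inf inf_le_left (le_inf (inf_le_left.trans inf_le_left) inf_le_right)
  have hqpos : 0 < q := Nat.card_pos
  have hlow : ∀ F : Subgroup X, q * Nat.card (fx V F) = Nat.card V →
      Nat.card (fx V D) ≤ q * Nat.card (fx V D ⊓ fx V F : AddSubgroup V) := by
    intro F hF
    have e := card_sup_inf (fx V D) (fx V F)
    apply Nat.le_of_mul_le_mul_right _ (card_pos (fx V F))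
    rw [← e]
    calc Nat.card (fx V D ⊔ fx V F : AddSubgroup V) * Nat.card (fx V D ⊓ fx V F : AddSubgroup V)
        ≤ Nat.card V * Nat.card (fx V D ⊓ fx V F : AddSubgroup V) := Nat.mul_le_mul_right _ (card_le_top _)
      _ = _ := by rw [← hF]; ring
  have h1 := hlow B hVB
  have h2 := hlow C hVC
  rw [hD] at h1 h2
  have h1' : q * Nat.card W ≤ Nat.card HB := by
    apply Nat.le_of_mul_le_mul_left _ hqpos
    rw [← mul_assoc]; exact h1
  have h2' : q * Nat.card W ≤ Nat.card HC := by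
    apply Nat.le_of_mul_le_mul_left _ hqpos
    rw [← mul_assoc]; exact h2
  have e := card_sup_inf HB HC
  rw [hWe] at e
  have hsup : HB ⊔ HC ≤ fx V D := sup_le inf_le_left inf_le_left
  -- |HB| |HC| ≤ |fx D| |W| = q² |W|²
  have h3 : Nat.card HB * Nat.card HC ≤ (q * Nat.card W) * (q * Nat.card W) := by
    rw [← e]
    calc Nat.card (HB ⊔ HC : AddSubgroup V) * Nat.card W ≤ Nat.card (fx V D) * Nat.card W :=
          Nat.mul_le_mul_right _ (card_le hsup)
      _ = _ := by rw [hD]; ring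
  have hpos : 0 < q * Nat.card W := Nat.mul_pos hqpos (card_pos W)
  have h4 : Nat.card HB = q * Nat.card W := by
    apply le_antisymm _ h1'
    apply Nat.le_of_mul_le_mul_right _ hpos
    exact (Nat.mul_le_mul_left _ h2').trans h3
  have h5 : Nat.card HC = q * Nat.card W := by
    apply le_antisymm _ h2'
    apply Nat.le_of_mul_le_mul_left _ hpos
    exact (Nat.mul_le_mul_right _ h1').trans h3
  refine ⟨?_, h4, h5⟩
  apply eq_of_card_le hsup
  apply Nat.le_of_mul_le_mul_right _ (card_pos W)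
  rw [e, h4, h5, hD]
  apply le_of_eq; ring

/-- half of the covering lemma -/
theorem cover_half {B C : Subgroup X} (hB : B ∈ AN 𝒟 D) (hC : C ∈ AN 𝒟 D) (hne : pp D C ≠ pp D B)
    {W₁ : AddSubgroup V} (h1 : W₁ ≤ fx V D) (hinv : Iv B W₁) {w : V} (hw : w ∈ W₁) (hwB : w ∉ fx V B) :
    fx V D ⊓ fx V B ≤ W₁ ⊔ (fx V D ⊓ fx V B ⊓ fx V C) := by
  obtain ⟨_, hD, h3⟩ := pair_basic h c hB hC hne
  obtain ⟨_, hHB, _⟩ := halves h c hB hC hne
  set W : AddSubgroup V := fx V D ⊓ fx V B ⊓ fx V C with hW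
  set HB : AddSubgroup V := fx V D ⊓ fx V B with hHBd
  have hWB : W ≤ HB := inf_le_left
  have hle : (W₁ ⊓ HB) ⊔ W ≤ HB := sup_le inf_le_right hWB
  have hcard : Nat.card B * Nat.card W ≤ Nat.card (⊥ : Subgroup X) * Nat.card ((W₁ ⊓ HB) ⊔ W : AddSubgroup V) := by
    apply card_fib le_sup_right (fun b => b • w - w)
    · intro b hb
      apply (le_sup_left : W₁ ⊓ HB ≤ (W₁ ⊓ HB) ⊔ W)
      refine ⟨W₁.sub_mem (hinv b hb w hw) hw, ?_, ?_⟩
      · exact (fx V D).sub_mem (fx_inv (hB.2.1 hb) (h1 hw)) (h1 hw)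
      · exact fun b' hb' => h.quad B hB.1 b hb b' hb' w
    · intro a ha b hb hab
      rw [Subgroup.mem_bot]
      by_contra hn
      apply hwB
      apply h3 _ (B.mul_mem (B.inv_mem hb) ha) hn w (h1 hw)
      have h4 : (a • w - b • w : V) ∈ W := by convert hab using 1; abel
      have h5 : b⁻¹ • (a • w - b • w) = a • w - b • w := h4.1.2 b⁻¹ (B.inv_mem hb)
      rw [smul_sub, smul_smul, inv_smul_smul] at h5
      rw [h5]; exact h4
  rw [Subgroup.card_bot, one_mul, ← hHB] at hcard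
  have h6 : (W₁ ⊓ HB) ⊔ W = HB := eq_of_card_le hle hcard
  rw [← h6]
  exact sup_le_sup_right inf_le_left W

/-- the covering lemma -/
theorem cover {B C : Subgroup X} (hB : B ∈ AN 𝒟 D) (hC : C ∈ AN 𝒟 D) (hne : pp D C ≠ pp D B)
    {W₁ : AddSubgroup V} (h1 : W₁ ≤ fx V D) (hinvB : Iv B W₁) (hinvC : Iv C W₁) (hn : ¬ W₁ ≤ fx V B ⊓ fx V C) :
    fx V D ≤ W₁ ⊔ (fx V D ⊓ fx V B ⊓ fx V C) := by
  have hsymm : fx V D ⊓ fx V C ⊓ fx V B = fx V D ⊓ fx V B ⊓ fx V C := inf_right_comm _ _ _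
  have key1 : (∃ w ∈ W₁, w ∉ fx V B) → fx V D ⊓ fx V B ≤ W₁ ⊔ (fx V D ⊓ fx V B ⊓ fx V C) := by
    rintro ⟨w, hw, hwB⟩
    exact cover_half h c hB hC hne h1 hinvB hw hwB
  have key2 : (∃ w ∈ W₁, w ∉ fx V C) → fx V D ⊓ fx V C ≤ W₁ ⊔ (fx V D ⊓ fx V B ⊓ fx V C) := by
    rintro ⟨w, hw, hwC⟩
    have := cover_half h c hC hB (Ne.symm hne) h1 hinvC hw hwC
    rwa [hsymm] at this
  obtain ⟨hsup, hHB, hHC⟩ := halves h c hB hC hne
  have h2 : 2 ≤ Nat.card B := two_le h hB.1
  have hpos := card_pos (fx V D ⊓ fx V B ⊓ fx V C : AddSubgroup V)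
  have imp1 : (∃ w ∈ W₁, w ∉ fx V B) → ∃ w ∈ W₁, w ∉ fx V C := by
    intro hw
    have h3 := key1 hw
    by_contra hcon
    push Not at hcon
    have h4 : fx V D ⊓ fx V B ≤ fx V C := h3.trans (sup_le hcon inf_le_right)
    have h5 := card_le (le_inf le_rfl h4 : fx V D ⊓ fx V B ≤ fx V D ⊓ fx V B ⊓ fx V C)
    rw [hHB] at h5
    nlinarith
  have imp2 : (∃ w ∈ W₁, w ∉ fx V C) → ∃ w ∈ W₁, w ∉ fx V B := by
    intro hw
    have h3 := key2 hw
    by_contra hcon
    push Not at hcon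
    have h4 : fx V D ⊓ fx V C ≤ fx V B := h3.trans (sup_le hcon (inf_le_left.trans inf_le_right))
    have h5 := card_le (le_inf le_rfl h4 : fx V D ⊓ fx V C ≤ fx V D ⊓ fx V C ⊓ fx V B)
    rw [hsymm, hHC] at h5
    nlinarith
  have hex : ∃ w ∈ W₁, w ∉ fx V B := by
    obtain ⟨w, hw, hw2⟩ := Set.not_subset.1 hn
    by_cases hwB : w ∈ fx V B
    · apply imp2
      refine ⟨w, hw, fun hwC => hw2 ⟨hwB, hwC⟩⟩
    · exact ⟨w, hw, hwB⟩
  nth_rewrite 1 [← hsup]
  exact sup_le (key1 hex) (key2 (imp1 hex))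

end Cfsg.Agent.Omega.FF.Pair

end

section


/-!
# THEOREM FF: two members of `𝒟` in a common 2-subgroup commute

#12336 (3), (4) (helper385), on the structures of helper431 (`Hyp`, `Cfg`).
-/

set_option autoImplicit false
set_option linter.unusedSectionVars false
set_option linter.unusedVariables false

namespace Cfsg.Agent.Omega.FF.Comm4

open Cfsg.Agent.Omega.FF.Basic Cfsg.Agent.Omega.FF.Setup Cfsg.Agent.Omega.FF.Conf
open scoped Pointwise

/-- a proper subgroup of a 2-group lies in a proper normal subgroup -/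
theorem exists_normal {X : Type*} [Group X] [Finite X] {P A : Subgroup X} (hP : IsPGroup 2 P) (hA : A ≤ P)
    (hne : A ≠ P) : ∃ M : Subgroup X, A ≤ M ∧ M ≤ P ∧ M ≠ P ∧ ∀ g ∈ P, cj g M = M := by
  have h2 : Fact (Nat.Prime 2) := ⟨Nat.prime_two⟩
  have hnil : Group.IsNilpotent P := hP.isNilpotent
  have hAt : A.subgroupOf P ≠ ⊤ := by
    intro e
    exact hne (le_antisymm hA (Subgroup.subgroupOf_eq_top.1 e))
  obtain ⟨M, hM, hAM⟩ : ∃ M : Subgroup P, IsCoatom M ∧ A.subgroupOf P ≤ M := by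
    rcases eq_top_or_exists_le_coatom (A.subgroupOf P) with h | ⟨M, h1, h2⟩
    · exact absurd h hAt
    · exact ⟨M, h1, h2⟩
  have hn : M.Normal := Subgroup.NormalizerCondition.normal_of_coatom M
    Group.normalizerCondition_of_isNilpotent hM
  refine ⟨M.map P.subtype, ?_, ?_, ?_, ?_⟩
  · intro a ha
    exact ⟨⟨a, hA ha⟩, hAM (Subgroup.mem_subgroupOf.2 ha), rfl⟩
  · rintro _ ⟨m, -, rfl⟩
    exact m.2
  · intro e
    apply hM.1
    rw [eq_top_iff]
    intro x _
    have : (x : X) ∈ M.map P.subtype := by rw [e]; exact x.2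
    obtain ⟨m, hm, e2⟩ := this
    have : m = x := Subtype.ext e2
    rw [← this]; exact hm
  · intro g hg
    apply cj_eq_of_le
    rw [cj_le_iff]
    rintro _ ⟨m, hm, rfl⟩
    exact ⟨⟨g, hg⟩ * m * ⟨g, hg⟩⁻¹, hn.conj_mem m hm _, rfl⟩

variable {X : Type*} [Group X] [Finite X] {V : Type*} [AddCommGroup V] [Finite V] [DistribMulAction X V]
variable {𝒟 : Set (Subgroup X)} {D : Subgroup X} (h : Hyp V 𝒟) (c : Cfg 𝒟 D)
include h c

theorem inf_bot {A B : Subgroup X} (hA : A ∈ 𝒟) (hB : B ∈ 𝒟) (hne : A ≠ B) : A ⊓ B = ⊥ := by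
  rw [Subgroup.eq_bot_iff_forall]
  rintro x ⟨hxA, hxB⟩
  by_contra hx
  apply hne
  apply Pair.ax h c hA hB
  apply le_antisymm
  · intro v hv
    exact Pair.ti h c hB hxB hx (hv x hxA)
  · intro v hv
    exact Pair.ti h c hA hxA hx (hv x hxB)

/-- the lower bound -/
theorem card_inf_ge {A B : Subgroup X} (hA : A ∈ 𝒟) (hB : B ∈ 𝒟) :
    Nat.card V ≤ Nat.card A * Nat.card A * Nat.card (fx V A ⊓ fx V B : AddSubgroup V) := by
  have e1 := Pair.mm_eq h c hA
  have e2 := Pair.mm_eq h c hB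
  rw [mm] at e1 e2
  rw [← Pair.card_eq h hA hB] at e2
  have e3 := card_sup_inf (fx V A) (fx V B)
  have e4 := card_le_top (fx V A ⊔ fx V B)
  have hpos : 0 < Nat.card V := Nat.card_pos
  apply Nat.le_of_mul_le_mul_left _ hpos
  calc Nat.card V * Nat.card V = (Nat.card A * Nat.card A) * (Nat.card (fx V A) * Nat.card (fx V B)) := by
        nth_rewrite 1 [← e1]; rw [← e2]; ring
    _ = (Nat.card A * Nat.card A) * (Nat.card (fx V A ⊔ fx V B : AddSubgroup V) *
        Nat.card (fx V A ⊓ fx V B : AddSubgroup V)) := by rw [e3]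
    _ ≤ (Nat.card A * Nat.card A) * (Nat.card V * Nat.card (fx V A ⊓ fx V B : AddSubgroup V)) :=
        Nat.mul_le_mul_left _ (Nat.mul_le_mul_right _ e4)
    _ = _ := by ring

/-- (3) -/
theorem card_inf {A B : Subgroup X} (hA : A ∈ 𝒟) (hB : B ∈ 𝒟) (hne : A ≠ B)
    (hc : ∀ a ∈ A, ∀ b ∈ B, a * b = b * a) :
    Nat.card A * Nat.card A * Nat.card (fx V A ⊓ fx V B : AddSubgroup V) = Nat.card V ∧
      fx V A ⊔ fx V B = ⊤ := by
  have h1 := Pair.no h c _ (Pair.EA_sup (h.ea A hA) (h.ea B hB) hc)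
  rw [mm, fx_sup] at h1
  have h2 : Nat.card A * Nat.card A ≤ Nat.card (A ⊔ B : Subgroup X) := by
    nth_rewrite 2 [Pair.card_eq h hA hB]
    rw [← Nat.card_prod]
    refine Nat.card_le_card_of_injective
      (fun x : A × B => (⟨(x.1 : X) * x.2, Subgroup.mul_mem _ (Subgroup.mem_sup_left x.1.2)
        (Subgroup.mem_sup_right x.2.2)⟩ : (A ⊔ B : Subgroup X))) ?_
    rintro ⟨a, b⟩ ⟨a', b'⟩ e
    have e1 : (a : X) * b = a' * b' := congrArg Subtype.val e
    have e2 : (a' : X)⁻¹ * a = b' * (b : X)⁻¹ := by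
      rw [inv_mul_eq_iff_eq_mul, ← mul_assoc, ← e1]; group
    have e3 : (a' : X)⁻¹ * a ∈ A ⊓ B := by
      refine Subgroup.mem_inf.2 ⟨A.mul_mem (A.inv_mem a'.2) a.2, ?_⟩
      rw [e2]; exact B.mul_mem b'.2 (B.inv_mem b.2)
    rw [inf_bot h c hA hB hne, Subgroup.mem_bot, inv_mul_eq_one] at e3
    have e4 : (b : X) = b' := by
      rw [e3] at e1
      exact mul_left_cancel e1
    exact Prod.ext (Subtype.ext e3.symm) (Subtype.ext e4)
  have h3 := card_inf_ge h c hA hB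
  have h4 : Nat.card A * Nat.card A * Nat.card (fx V A ⊓ fx V B : AddSubgroup V) = Nat.card V :=
    le_antisymm ((Nat.mul_le_mul_right _ h2).trans h1) h3
  refine ⟨h4, ?_⟩
  apply eq_of_card_le le_top
  rw [card_top]
  have e1 := Pair.mm_eq h c hA
  have e2 := Pair.mm_eq h c hB
  rw [mm] at e1 e2
  rw [← Pair.card_eq h hA hB] at e2
  have e3 := card_sup_inf (fx V A) (fx V B)
  have hq : 0 < Nat.card A * Nat.card A := Nat.mul_pos Nat.card_pos Nat.card_pos
  have hi := card_pos (fx V A ⊓ fx V B : AddSubgroup V)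
  apply Nat.le_of_mul_le_mul_right _ (Nat.mul_pos hq hi)
  apply le_of_eq
  calc Nat.card V * (Nat.card A * Nat.card A * Nat.card (fx V A ⊓ fx V B : AddSubgroup V)) =
        Nat.card V * Nat.card V := by rw [h4]
    _ = (Nat.card A * Nat.card A) * (Nat.card (fx V A) * Nat.card (fx V B)) := by
        nth_rewrite 1 [← e1]; rw [← e2]; ring
    _ = (Nat.card A * Nat.card A) * (Nat.card (fx V A ⊔ fx V B : AddSubgroup V) *
        Nat.card (fx V A ⊓ fx V B : AddSubgroup V)) := by rw [e3]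
    _ = _ := by ring

omit c in
/-- `A` normalises `B`, `A` commutes with `A^b ≠ A` -/
theorem comm_of {A B : Subgroup X} (hA : A ∈ 𝒟) (hB : B ∈ 𝒟) (hn : ∀ a ∈ A, cj a B = B) {b₀ : X} (hb₀ : b₀ ∈ B)
    (hi : A ⊓ cj b₀ A = ⊥) (hc : ∀ a ∈ A, ∀ x ∈ cj b₀ A, a * x = x * a) : ∀ a ∈ A, ∀ b ∈ B, a * b = b * a := by
  have hf : ∀ a ∈ A, a⁻¹ * (b₀ * a * b₀⁻¹) ∈ B := by
    intro a ha
    have h1 : a⁻¹ * b₀ * a ∈ B := by
      have := hn a ha
      rw [← this, mem_cj] at hb₀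
      exact hb₀
    have h2 := B.mul_mem h1 (B.inv_mem hb₀)
    convert h2 using 1; group
  let f : A → B := fun a => ⟨(a : X)⁻¹ * (b₀ * a * b₀⁻¹), hf a a.2⟩
  have hinj : Function.Injective f := by
    intro a a' e
    have e1 : (a : X)⁻¹ * (b₀ * a * b₀⁻¹) = (a' : X)⁻¹ * (b₀ * a' * b₀⁻¹) := congrArg Subtype.val e
    have e2 : (a' : X) * (a : X)⁻¹ = b₀ * ((a' : X) * (a : X)⁻¹) * b₀⁻¹ := by
      have e3 : (a' : X) * ((a : X)⁻¹ * (b₀ * a * b₀⁻¹)) * (b₀ * (a : X)⁻¹ * b₀⁻¹) =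
          (a' : X) * ((a' : X)⁻¹ * (b₀ * a' * b₀⁻¹)) * (b₀ * (a : X)⁻¹ * b₀⁻¹) := by rw [e1]
      have e4 : (a' : X) * ((a : X)⁻¹ * (b₀ * a * b₀⁻¹)) * (b₀ * (a : X)⁻¹ * b₀⁻¹) = a' * (a : X)⁻¹ := by group
      have e5 : (a' : X) * ((a' : X)⁻¹ * (b₀ * a' * b₀⁻¹)) * (b₀ * (a : X)⁻¹ * b₀⁻¹) =
          b₀ * ((a' : X) * (a : X)⁻¹) * b₀⁻¹ := by group
      exact e4.symm.trans (e3.trans e5)
    have e3 : (a' : X) * (a : X)⁻¹ ∈ A ⊓ cj b₀ A := by
      refine Subgroup.mem_inf.2 ⟨A.mul_mem a'.2 (A.inv_mem a.2), ?_⟩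
      rw [e2]
      exact mem_cj_of (A.mul_mem a'.2 (A.inv_mem a.2))
    rw [hi, Subgroup.mem_bot, mul_inv_eq_one] at e3
    exact Subtype.ext e3.symm
  have hsurj : Function.Surjective f :=
    ((Nat.bijective_iff_injective_and_card f).2 ⟨hinj, Pair.card_eq h hA hB⟩).2
  intro a₁ ha₁ b hb
  obtain ⟨⟨a, ha⟩, e⟩ := hsurj ⟨b, hb⟩
  have e1 : a⁻¹ * (b₀ * a * b₀⁻¹) = b := congrArg Subtype.val e
  have e2 : a₁ * (b₀ * a * b₀⁻¹) = (b₀ * a * b₀⁻¹) * a₁ := hc a₁ ha₁ _ (mem_cj_of ha)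
  have e3 : a₁ * a⁻¹ = a⁻¹ * a₁ := (h.ea A hA).comm ha₁ (A.inv_mem ha)
  rw [← e1]
  calc a₁ * (a⁻¹ * (b₀ * a * b₀⁻¹)) = (a₁ * a⁻¹) * (b₀ * a * b₀⁻¹) := by group
    _ = a⁻¹ * (a₁ * (b₀ * a * b₀⁻¹)) := by rw [e3]; group
    _ = a⁻¹ * ((b₀ * a * b₀⁻¹) * a₁) := by rw [e2]
    _ = _ := by group

/-- half of (4) -/
theorem quad_of {A B P : Subgroup X} (hA : A ∈ 𝒟) (hB : B ∈ 𝒟) (hP : P = A ⊔ B) {b₀ : X} (hb₀ : b₀ ∈ B)
    (hne : cj b₀ A ≠ A) (hc : ∀ a ∈ A, ∀ x ∈ cj b₀ A, a * x = x * a) :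
    ∀ a ∈ A, ∀ v : V, ∀ b ∈ B, b • (a • v - v) = a • v - v := by
  have hA' : cj b₀ A ∈ 𝒟 := h.conj A hA b₀
  obtain ⟨h1, h2⟩ := card_inf h c hA hA' (Ne.symm hne) hc
  have h3 := card_inf_ge h c hA hB
  have hle : fx V A ⊓ fx V B ≤ fx V A ⊓ fx V (cj b₀ A) := by
    rw [← fx_sup, ← fx_sup]
    apply fx_anti
    apply sup_le le_sup_left
    rw [cj_le_iff]
    intro a ha
    exact Subgroup.mul_mem _ (Subgroup.mul_mem _ (Subgroup.mem_sup_right hb₀) (Subgroup.mem_sup_left ha))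
      (Subgroup.inv_mem _ (Subgroup.mem_sup_right hb₀))
  have hq : 0 < Nat.card A * Nat.card A := Nat.mul_pos Nat.card_pos Nat.card_pos
  have heq : fx V A ⊓ fx V B = fx V A ⊓ fx V (cj b₀ A) := by
    apply eq_of_card_le hle
    apply Nat.le_of_mul_le_mul_left _ hq
    rw [h1]; exact h3
  intro a ha v b hb
  have hv : v ∈ fx V A ⊔ fx V (cj b₀ A) := by rw [h2]; trivial
  obtain ⟨v₁, hv₁, v₂, hv₂, rfl⟩ := mem_sup hv
  have e : a • (v₁ + v₂) - (v₁ + v₂) = a • v₂ - v₂ := by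
    rw [smul_add, hv₁ a ha]; abel
  rw [e]
  have hmem : a • v₂ - v₂ ∈ fx V A ⊓ fx V (cj b₀ A) := by
    refine AddSubgroup.mem_inf.2 ⟨fun a' ha' => h.quad A hA a ha a' ha' v₂, ?_⟩
    refine (fx V (cj b₀ A)).sub_mem ?_ hv₂
    intro x hx
    rw [smul_smul, ← hc a ha x hx, ← smul_smul, hv₂ x hx]
  rw [← heq] at hmem
  exact hmem.2 b hb

/-- **(4)**: two members of `𝒟` in a common 2-subgroup commute. -/
theorem comm : ∀ (n : ℕ) (A : Subgroup X), A ∈ 𝒟 → ∀ B ∈ 𝒟, IsPGroup 2 (A ⊔ B : Subgroup X) →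
    Nat.card (A ⊔ B : Subgroup X) = n → ∀ a ∈ A, ∀ b ∈ B, a * b = b * a := by
  intro n
  induction n using Nat.strong_induction_on with
  | _ n ih =>
    intro A hA B hB hP hn
    by_cases hAB : A = B
    · subst hAB
      intro a ha b hb
      exact (h.ea A hA).comm ha hb
    have hAne : A ≠ A ⊔ B := by
      intro e
      have h1 : B ≤ A := by rw [e]; exact le_sup_right
      exact hAB (Subgroup.eq_of_le_of_card_ge h1 (Pair.card_eq h hA hB).le).symm
    have hBne : B ≠ A ⊔ B := by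
      intro e
      have h1 : A ≤ B := by rw [e]; exact le_sup_left
      exact hAB (Subgroup.eq_of_le_of_card_ge h1 (Pair.card_eq h hB hA).le)
    -- conjugates of `A` under `P` commute with `A`
    have key : ∀ C ∈ 𝒟, C ≤ A ⊔ B → C ≠ A ⊔ B → ∀ g ∈ A ⊔ B, ∀ a ∈ C, ∀ x ∈ cj g C, a * x = x * a := by
      intro C hC hCP hCne g hg
      obtain ⟨M, hCM, hMP, hMne, hMn⟩ := exists_normal hP hCP hCne
      have h1 : cj g C ≤ M := by
        rw [← hMn g hg]; exact cj_mono g hCM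
      have h2 : C ⊔ cj g C ≤ M := sup_le hCM h1
      have h3 : Nat.card (C ⊔ cj g C : Subgroup X) < n := by
        rw [← hn]
        refine lt_of_le_of_lt (Nat.card_le_card_of_injective _ (Subgroup.inclusion_injective h2)) ?_
        refine lt_of_le_of_ne (Nat.card_le_card_of_injective _ (Subgroup.inclusion_injective hMP)) ?_
        intro e
        exact hMne (Subgroup.eq_of_le_of_card_ge hMP e.ge)
      exact ih _ h3 C hC (cj g C) (h.conj C hC g) (hP.to_le (h2.trans hMP)) rfl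
    by_cases h1 : ∃ b ∈ B, cj b A ≠ A
    · obtain ⟨b₀, hb₀, hne⟩ := h1
      have hc := key A hA le_sup_left hAne b₀ (Subgroup.mem_sup_right hb₀)
      by_cases h2 : ∃ a ∈ A, cj a B ≠ B
      · obtain ⟨a₀, ha₀, hne'⟩ := h2
        have hc' := key B hB le_sup_right hBne a₀ (Subgroup.mem_sup_left ha₀)
        intro a ha b hb
        exact Pair.commute_of h.faith
          (fun v => quad_of h c hA hB rfl hb₀ hne hc a ha v b hb)
          (fun v => quad_of h c hB hA rfl ha₀ hne' hc' b hb v a ha)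
      · push Not at h2
        exact comm_of h hA hB h2 hb₀ (inf_bot h c hA (h.conj A hA b₀) (Ne.symm hne)) hc
    · push Not at h1
      by_cases h2 : ∃ a ∈ A, cj a B ≠ B
      · obtain ⟨a₀, ha₀, hne'⟩ := h2
        have hc' := key B hB le_sup_right hBne a₀ (Subgroup.mem_sup_left ha₀)
        have h3 := comm_of h hB hA h1 ha₀ (inf_bot h c hB (h.conj B hB a₀) (Ne.symm hne')) hc'
        intro a ha b hb
        exact (h3 b hb a ha).symm
      · push Not at h2
        intro a ha b hb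
        have e1 : a * b * a⁻¹ * b⁻¹ ∈ A ⊓ B := by
          refine Subgroup.mem_inf.2 ⟨?_, ?_⟩
          · have e2 : b * a⁻¹ * b⁻¹ ∈ A := by
              rw [← h1 b hb]; exact mem_cj_of (A.inv_mem ha)
            have e3 := A.mul_mem ha e2
            convert e3 using 1; group
          · have e2 : a * b * a⁻¹ ∈ B := by
              rw [← h2 a ha]; exact mem_cj_of hb
            exact B.mul_mem e2 (B.inv_mem hb)
        rw [inf_bot h c hA hB hAB, Subgroup.mem_bot] at e1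
        have e2 : a * b = b * a := by
          have e3 : a * b * a⁻¹ * b⁻¹ * (b * a) = a * b := by group
          rw [← e3, e1, one_mul]
        exact e2

/-- Two members of `𝒟` in a common 2-subgroup commute. -/
theorem comm' {A B P : Subgroup X} (hA : A ∈ 𝒟) (hB : B ∈ 𝒟) (hP : IsPGroup 2 P) (hAP : A ≤ P) (hBP : B ≤ P) :
    ∀ a ∈ A, ∀ b ∈ B, a * b = b * a :=
  comm h c _ A hA B hB (hP.to_le (sup_le hAP hBP)) rfl

end Cfsg.Agent.Omega.FF.Comm4

end

section


/-!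
# THEOREM FF: the spread of a pair

`B, C ∈ 𝒜_N` at different points: `B ∩ pp C = 1`, and for `1 ≠ c ∈ C` there is `b ∈ B` with
`[[v, b], c] = v` modulo `C_V(B) ∩ C_V(C)` for `v ∈ C_V(C)`.
-/

set_option autoImplicit false
set_option linter.unusedSectionVars false
set_option linter.unusedVariables false

namespace Cfsg.Agent.Omega.FF.ToLoc1

open Cfsg.Agent.Omega.FF.Basic Cfsg.Agent.Omega.FF.Setup Cfsg.Agent.Omega.FF.Conf
open scoped Pointwise

variable {X : Type*} [Group X] [Finite X] {V : Type*} [AddCommGroup V] [Finite V] [DistribMulAction X V]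
variable {𝒟 : Set (Subgroup X)} {D : Subgroup X} (h : Hyp V 𝒟) (c : Cfg 𝒟 D)
include h c

variable {B C : Subgroup X} (hB : B ∈ AN 𝒟 D) (hC : C ∈ AN 𝒟 D) (hne : pp D C ≠ pp D B)
include hB hC hne

omit hB hC hne in
/-- the intersection does not depend on the pair -/
theorem W_eq (hB : B ∈ AN 𝒟 D) (hC : C ∈ AN 𝒟 D) (hne : pp D C ≠ pp D B)
    {B' C' : Subgroup X} (hB' : B' ∈ AN 𝒟 D) (hC' : C' ∈ AN 𝒟 D) (hne' : pp D C' ≠ pp D B')
    (h1 : B' ≤ D ⊔ B ⊔ C) (h2 : C' ≤ D ⊔ B ⊔ C) :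
    fx V D ⊓ fx V B' ⊓ fx V C' = fx V D ⊓ fx V B ⊓ fx V C := by
  symm
  have hle : fx V D ⊓ fx V B ⊓ fx V C ≤ fx V D ⊓ fx V B' ⊓ fx V C' := by
    rw [← fx_sup, ← fx_sup, ← fx_sup, ← fx_sup]
    apply fx_anti
    exact sup_le (sup_le (le_sup_left.trans le_sup_left) h1) h2
  apply eq_of_card_le hle
  have e1 := (Pair.pair_basic h c hB hC hne).2.1
  have e2 := (Pair.pair_basic h c hB' hC' hne').2.1
  rw [Pair.card_eq h hB'.1 hB.1, e1] at e2
  have hq : 0 < Nat.card B * Nat.card B := Nat.mul_pos Nat.card_pos Nat.card_pos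
  exact (Nat.eq_of_mul_eq_mul_left hq e2).ge

/-- `Y` normalises `D` -/
theorem Y_le : D ⊔ B ⊔ C ≤ Subgroup.normalizer (D : Set X) :=
  sup_le (sup_le Subgroup.le_normalizer hB.2.1) hC.2.1

/-- (reg) -/
theorem reg {b : X} (hb : b ∈ B) (hbC : b ∈ pp D C) : b = 1 := by
  by_contra hb1
  set Y := D ⊔ B ⊔ C with hY
  have hYn : Y ≤ Subgroup.normalizer (D : Set X) := Y_le h c hB hC hne
  have hDY : D ≤ Y := le_sup_left.trans le_sup_left
  have hBY : B ≤ Y := le_sup_right.trans le_sup_left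
  have hCY : C ≤ Y := le_sup_right
  set W : AddSubgroup V := fx V D ⊓ fx V B ⊓ fx V C with hW
  have hWY : ∀ w ∈ W, ∀ y ∈ Y, y • w = w := by
    intro w hw y hy
    have : w ∈ fx V (D ⊔ B ⊔ C) := by rw [fx_sup, fx_sup]; exact hw
    exact this y hy
  set P := Y ⊓ pp D C with hP
  have hDC : D ⊔ C ≤ P := le_inf (sup_le hDY hCY) (Min.le_pp h c hC)
  -- a Sylow 2-subgroup of `P` over `D ⊔ C`
  have hDC2 : IsPGroup 2 (D ⊔ C : Subgroup X) := isPGroup_sup c.p (h.ea C hC.1).isPGroup hC.2.1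
  obtain ⟨S, hS⟩ := (hDC2.comap_subtype (H := D ⊔ C) (K := P) :
    IsPGroup 2 ((D ⊔ C).subgroupOf P)).exists_le_sylow
  have hbP : b ∈ P := ⟨hBY hb, hbC⟩
  have hz : IsPGroup 2 (Subgroup.zpowers b) := by
    apply (h.ea B hB.1).isPGroup.to_le
    exact Subgroup.zpowers_le.2 hb
  obtain ⟨S', hS'⟩ := (hz.comap_subtype (H := Subgroup.zpowers b) (K := P) :
    IsPGroup 2 ((Subgroup.zpowers b).subgroupOf P)).exists_le_sylow
  obtain ⟨y, hy⟩ := MulAction.exists_smul_eq P S S'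
  set R : Subgroup X := (S' : Subgroup P).map P.subtype with hR
  have hR2 : IsPGroup 2 R := S'.isPGroup'.map _
  have hRY : R ≤ Y := by
    rintro _ ⟨r, -, rfl⟩
    exact r.2.1
  have hbR : b ∈ R := ⟨⟨b, hbP⟩, hS' (Subgroup.mem_subgroupOf.2 (Subgroup.mem_zpowers b)), rfl⟩
  have hyY : (y : X) ∈ Y := y.2.1
  have hcjR : cj (y : X) (D ⊔ C) ≤ R := by
    rw [cj_le_iff]
    intro x hx
    have h1 : (⟨x, hDC hx⟩ : P) ∈ (S : Subgroup P) := hS (Subgroup.mem_subgroupOf.2 hx)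
    have h2 : y * ⟨x, hDC hx⟩ * y⁻¹ ∈ (S' : Subgroup P) := by
      rw [← hy]
      exact ⟨⟨x, hDC hx⟩, h1, rfl⟩
    exact ⟨_, h2, rfl⟩
  rw [cj_sup] at hcjR
  set C' := cj (y : X) C with hC'
  have hyn : (y : X) ∈ Subgroup.normalizer (D : Set X) := hYn hyY
  have hC'A : C' ∈ AN 𝒟 D := mem_AN_cj h hC hyn
  have hC'Y : C' ≤ Y := by
    rw [← cj_eq_self_of_mem hyY]; exact cj_mono _ hCY
  have hppC' : pp D C' = pp D C := by
    rw [hC', Min.pp_cj h c hC hyn, cj_eq_self_of_mem y.2.2]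
  have hne' : pp D C' ≠ pp D B := by rw [hppC']; exact hne
  have hWe : fx V D ⊓ fx V B ⊓ fx V C' = W := W_eq h c hB hC hne hB hC'A hne' hBY hC'Y
  -- a fixed vector
  have hD := (Pair.pair_basic h c hB hC hne).2.1
  have hnle : ¬ fx V D ≤ W := by
    intro hle
    have h1 := card_le hle
    rw [hD, ← hW] at h1
    have h2 := Pair.two_le h hB.1
    have h3 := card_pos W
    have h4 : 2 * 2 * Nat.card W ≤ Nat.card B * Nat.card B * Nat.card W :=
      Nat.mul_le_mul_right _ (Nat.mul_le_mul h2 h2)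
    omega
  obtain ⟨v, hv, hvW, hvR⟩ := exists_fixed (V := V) hR2 (H := fx V D) (K := W) h.h2
    (fun t ht w hw => by rw [hWY w hw t (hRY ht)]; exact hw)
    (fun t ht w hw => Pair.fx_inv (hYn (hRY ht)) hw) (inf_le_left.trans inf_le_left) hnle
  apply hvW
  have h1 : v ∈ fx V B := (Pair.pair_basic h c hB hC hne).2.2 b hb hb1 v hv (hvR b hbR)
  have h2 : v ∈ fx V C' := by
    obtain ⟨c', hc', hc'1⟩ : ∃ c' ∈ C', c' ≠ 1 := by
      have := h.nb C' hC'A.1
      rw [Ne, Subgroup.eq_bot_iff_forall] at this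
      push Not at this
      exact this
    apply (Pair.pair_basic h c hC'A hB (Ne.symm hne')).2.2 c' hc' hc'1 v hv
    rw [inf_right_comm, hWe]
    exact hvR c' (hcjR (Subgroup.mem_sup_right hc'))
  rw [← hWe]
  exact ⟨⟨hv, h1⟩, h2⟩

/-- cardinality of the intersection of the centralisers in `V` -/
theorem card_U : Nat.card V = Nat.card B * Nat.card B * Nat.card (fx V B ⊓ fx V C : AddSubgroup V) ∧
    fx V B ⊔ fx V C = ⊤ := by
  obtain ⟨h1, h2, -⟩ := Pair.pair_basic h c hB hC hne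
  have e1 := card_sup_inf (fx V D) (fx V B ⊓ fx V C)
  rw [h1, card_top, ← inf_assoc, h2] at e1
  have hpos := card_pos (fx V D ⊓ fx V B ⊓ fx V C : AddSubgroup V)
  have e2 : Nat.card V = Nat.card B * Nat.card B * Nat.card (fx V B ⊓ fx V C : AddSubgroup V) := by
    apply Nat.eq_of_mul_eq_mul_right hpos
    rw [e1]; ring
  refine ⟨e2, ?_⟩
  apply eq_of_card_le le_top
  rw [card_top]
  have hVB : Nat.card B * Nat.card (fx V B) = Nat.card V := Pair.mm_eq h c hB.1
  have hVC : Nat.card B * Nat.card (fx V C) = Nat.card V := by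
    rw [Pair.card_eq h hB.1 hC.1]; exact Pair.mm_eq h c hC.1
  have e3 := card_sup_inf (fx V B) (fx V C)
  have hU := card_pos (fx V B ⊓ fx V C : AddSubgroup V)
  have hq : 0 < Nat.card B := Nat.card_pos
  apply Nat.le_of_mul_le_mul_right _ (Nat.mul_pos (Nat.mul_pos hq hq) hU)
  apply le_of_eq
  calc Nat.card V * (Nat.card B * Nat.card B * Nat.card (fx V B ⊓ fx V C : AddSubgroup V)) =
        Nat.card V * Nat.card V := by rw [← e2]
    _ = (Nat.card B * Nat.card B) * (Nat.card (fx V B) * Nat.card (fx V C)) := by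
        nth_rewrite 1 [← hVB]; rw [← hVC]; ring
    _ = (Nat.card B * Nat.card B) * (Nat.card (fx V B ⊔ fx V C : AddSubgroup V) *
        Nat.card (fx V B ⊓ fx V C : AddSubgroup V)) := by rw [e3]
    _ = _ := by ring

/-- `b ↦ [x, b]` is surjective modulo `W` -/
theorem exists_comm {x y : V} (hx : x ∈ fx V D ⊓ fx V C) (hxW : x ∉ fx V B) (hy : y ∈ fx V D ⊓ fx V B) :
    ∃ b ∈ B, b • x - x - y ∈ fx V D ⊓ fx V B ⊓ fx V C := by
  classical
  obtain ⟨_, hHB, _⟩ := Pair.halves h c hB hC hne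
  set W : AddSubgroup V := fx V D ⊓ fx V B ⊓ fx V C with hW
  set HB : AddSubgroup V := fx V D ⊓ fx V B with hHBd
  have hWB : W ≤ HB := inf_le_left
  have hmem : ∀ b ∈ B, b • x - x ∈ HB := by
    intro b hb
    exact ⟨(fx V D).sub_mem (Pair.fx_inv (hB.2.1 hb) hx.1) hx.1, fun b' hb' => h.quad B hB.1 b hb b' hb' x⟩
  let f : B → HB ⧸ W.addSubgroupOf HB := fun b => QuotientAddGroup.mk ⟨(b : X) • x - x, hmem b b.2⟩
  have hinj : Function.Injective f := by
    intro a b hab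
    by_contra hn
    apply hxW
    have h1 := QuotientAddGroup.eq.1 hab
    rw [AddSubgroup.mem_addSubgroupOf] at h1
    have h2 : ((a : X) • x - (b : X) • x : V) ∈ W := by
      have h3 := W.neg_mem h1
      convert h3 using 1
      change (a : X) • x - (b : X) • x = -(-((a : X) • x - x) + ((b : X) • x - x))
      abel
    have hne1 : (b : X)⁻¹ * a ≠ 1 := by
      intro e
      apply hn
      rw [inv_mul_eq_one] at e
      exact Subtype.ext e.symm
    apply (Pair.pair_basic h c hB hC hne).2.2 _ (B.mul_mem (B.inv_mem b.2) a.2) hne1 x hx.1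
    have h5 : (b : X)⁻¹ • ((a : X) • x - (b : X) • x) = (a : X) • x - (b : X) • x := h2.1.2 _ (B.inv_mem b.2)
    rw [smul_sub, smul_smul, inv_smul_smul] at h5
    rw [h5]; exact h2
  have hcard : Nat.card B = Nat.card (HB ⧸ W.addSubgroupOf HB) := by
    have e1 := card_mul_relIndex hWB
    rw [hHB] at e1
    have e2 : W.relIndex HB = Nat.card B := by
      apply Nat.eq_of_mul_eq_mul_left (card_pos W)
      rw [e1]; ring
    rw [← e2]; rfl
  have hsurj : Function.Surjective f := ((Nat.bijective_iff_injective_and_card f).2 ⟨hinj, hcard⟩).2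
  obtain ⟨⟨b, hb⟩, e⟩ := hsurj (QuotientAddGroup.mk ⟨y, hy⟩)
  refine ⟨b, hb, ?_⟩
  have h1 := QuotientAddGroup.eq.1 e
  rw [AddSubgroup.mem_addSubgroupOf] at h1
  have h3 := W.neg_mem h1
  convert h3 using 1
  change b • x - x - y = -(-(b • x - x) + y)
  abel

/-- the two twisted members have the same point -/
theorem point_eq {g b : X} (hg : g ∈ C) (hb : b ∈ B) {y : V} (hy : y ∈ fx V D ⊓ fx V B) (hyC : y ∉ fx V C)
    (hb2 : b • (g • y - y) - (g • y - y) - y ∈ fx V D ⊓ fx V B ⊓ fx V C) :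
    pp D (cj b C) = pp D (cj g B) := by
  by_contra hcon
  have hYn : D ⊔ B ⊔ C ≤ Subgroup.normalizer (D : Set X) := Y_le h c hB hC hne
  have hbY : b ∈ D ⊔ B ⊔ C := Subgroup.mem_sup_left (Subgroup.mem_sup_right hb)
  have hgY : g ∈ D ⊔ B ⊔ C := Subgroup.mem_sup_right hg
  have hB' : cj g B ∈ AN 𝒟 D := mem_AN_cj h hB (hYn hgY)
  have hC' : cj b C ∈ AN 𝒟 D := mem_AN_cj h hC (hYn hbY)
  have hB'Y : cj g B ≤ D ⊔ B ⊔ C := by
    rw [← cj_eq_self_of_mem hgY]; exact cj_mono _ (le_sup_right.trans le_sup_left)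
  have hC'Y : cj b C ≤ D ⊔ B ⊔ C := by
    rw [← cj_eq_self_of_mem hbY]; exact cj_mono _ le_sup_right
  have hWe := W_eq h c hB hC hne hB' hC' hcon hB'Y hC'Y
  have hgyD : g • y ∈ fx V D := Pair.fx_inv (hYn hgY) hy.1
  have h1 : g • y ∈ fx V (cj g B) := smul_mem_fx_cj hy.2
  -- `x = [y, g]`
  set x : V := g • y - y with hx
  have hxC : x ∈ fx V C := fun c' hc' => h.quad C hC.1 g hg c' hc' y
  set w : V := b • x - x - y with hw
  have hbx : b • x = g • y + w := by
    rw [hw, hx]; abel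
  have h2 : b • x ∈ fx V (cj b C) := smul_mem_fx_cj hxC
  have hwC' : w ∈ fx V D ⊓ fx V (cj g B) ⊓ fx V (cj b C) := by rw [hWe]; exact hb2
  have h3 : g • y ∈ fx V (cj b C) := by
    have e : g • y = b • x - w := by rw [hbx]; abel
    rw [e]
    exact (fx V (cj b C)).sub_mem h2 hwC'.2
  have h4 : g • y ∈ fx V D ⊓ fx V B ⊓ fx V C := by
    rw [← hWe]; exact ⟨⟨hgyD, h1⟩, h3⟩
  apply hyC
  have h5 : g⁻¹ • (g • y) = g • y := h4.2 g⁻¹ (C.inv_mem hg)
  rw [inv_smul_smul] at h5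
  rw [h5]; exact h4.2

/-- the spread, on `C_V(B)` -/
theorem spread {g : X} (hg : g ∈ C) (hg1 : g ≠ 1) : ∃ b ∈ B, ∀ u ∈ fx V B,
    b • (g • u - u) - (g • u - u) - u ∈ fx V B ⊓ fx V C := by
  have hYn : D ⊔ B ⊔ C ≤ Subgroup.normalizer (D : Set X) := Y_le h c hB hC hne
  obtain ⟨_, hHB, _⟩ := Pair.halves h c hB hC hne
  have hsymm : fx V D ⊓ fx V C ⊓ fx V B = fx V D ⊓ fx V B ⊓ fx V C := inf_right_comm _ _ _
  have hWU : fx V D ⊓ fx V B ⊓ fx V C ≤ fx V B ⊓ fx V C := inf_le_inf_right _ inf_le_right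
  -- for every `y` there is a `b`
  have hex : ∀ y ∈ fx V D ⊓ fx V B, y ∉ fx V C → ∃ b ∈ B,
      b • (g • y - y) - (g • y - y) - y ∈ fx V D ⊓ fx V B ⊓ fx V C := by
    intro y hy hyC
    apply exists_comm h c hB hC hne _ _ hy
    · exact ⟨(fx V D).sub_mem (Pair.fx_inv (hC.2.1 hg) hy.1) hy.1,
        fun c' hc' => h.quad C hC.1 g hg c' hc' y⟩
    · intro hxB
      apply hyC
      -- `[y, g] ∈ C_V(B)`, so `[y, g] = 0`
      have e := Pair.p3 h c hC hB (Ne.symm hne) hg hxB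
      exact Pair.ti h c hC.1 hg hg1 e
  -- a vector `y₀`
  obtain ⟨y₀, hy₀, hy₀C⟩ : ∃ y ∈ fx V D ⊓ fx V B, y ∉ fx V C := by
    by_contra hcon
    push Not at hcon
    have h5 := card_le (le_inf le_rfl hcon : fx V D ⊓ fx V B ≤ fx V D ⊓ fx V B ⊓ fx V C)
    rw [hHB] at h5
    have h6 := Pair.two_le h hB.1
    have h7 := card_pos (fx V D ⊓ fx V B ⊓ fx V C : AddSubgroup V)
    have h8 : 2 * Nat.card (fx V D ⊓ fx V B ⊓ fx V C : AddSubgroup V) ≤
        Nat.card B * Nat.card (fx V D ⊓ fx V B ⊓ fx V C : AddSubgroup V) := Nat.mul_le_mul_right _ h6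
    omega
  obtain ⟨b, hb, hb0⟩ := hex y₀ hy₀ hy₀C
  have hp0 := point_eq h c hB hC hne hg hb hy₀ hy₀C hb0
  -- `b` works for all `y`
  have key : ∀ y ∈ fx V D ⊓ fx V B, b • (g • y - y) - (g • y - y) - y ∈ fx V D ⊓ fx V B ⊓ fx V C := by
    intro y hy
    by_cases hyC : y ∈ fx V C
    · have e : g • y - y = 0 := by rw [hyC g hg, sub_self]
      rw [e, smul_zero, sub_zero, zero_sub]
      exact AddSubgroup.neg_mem _ ⟨hy, hyC⟩
    · obtain ⟨b', hb', hb1⟩ := hex y hy hyC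
      have hp := point_eq h c hB hC hne hg hb' hy hyC hb1
      rw [← hp0, Min.pp_cj h c hC (hB.2.1 hb), Min.pp_cj h c hC (hB.2.1 hb')] at hp
      have h1 : cj (b⁻¹ * b') (pp D C) = pp D C := by
        rw [← cj_cj, hp, cj_inv_cj]
      have h2 : b⁻¹ * b' ∈ pp D C := Min.mem_pp_of_cj h c hC h1
      have h3 := reg h c hB hC hne (B.mul_mem (B.inv_mem hb) hb') h2
      rw [inv_mul_eq_one] at h3
      rw [h3]; exact hb1
  refine ⟨b, hb, ?_⟩
  intro u hu
  obtain ⟨d, hd, u₀, hu₀B, hu₀C, rfl⟩ := Pair.mem_sup' h c hB hC hne u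
  have hdB : d ∈ fx V B := by
    have e : d = (d + u₀) - u₀ := by abel
    rw [e]; exact (fx V B).sub_mem hu hu₀B
  have h1 := key d ⟨hd, hdB⟩
  have e1 : g • (d + u₀) - (d + u₀) = g • d - d := by
    rw [smul_add, hu₀C g hg]; abel
  rw [e1]
  have e2 : b • (g • d - d) - (g • d - d) - (d + u₀) = (b • (g • d - d) - (g • d - d) - d) - u₀ := by abel
  rw [e2]
  exact AddSubgroup.sub_mem _ (hWU h1) ⟨hu₀B, hu₀C⟩

/-- `[v, b] ∈ U` -/
theorem inj {b : X} (hb : b ∈ B) {v : V} (hv : v ∈ fx V C) (hbv : b • v - v ∈ fx V B ⊓ fx V C) :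
    b = 1 ∨ v ∈ fx V B ⊓ fx V C := by
  by_cases hb1 : b = 1
  · exact Or.inl hb1
  right
  exact ⟨Pair.ti h c hB.1 hb hb1 (Pair.p3 h c hB hC hne hb hbv.2), hv⟩

theorem relIndex_eq : Nat.card (fx V C) = Nat.card B * Nat.card (fx V B ⊓ fx V C : AddSubgroup V) := by
  obtain ⟨e1, -⟩ := card_U h c hB hC hne
  have hVC : Nat.card B * Nat.card (fx V C) = Nat.card V := by
    rw [Pair.card_eq h hB.1 hC.1]; exact Pair.mm_eq h c hC.1
  have hq : 0 < Nat.card B := Nat.card_pos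
  apply Nat.eq_of_mul_eq_mul_left hq
  rw [hVC, e1]; ring

theorem exists_not_mem : ∃ v ∈ fx V C, v ∉ fx V B ⊓ fx V C := by
  by_contra hcon
  push Not at hcon
  have h1 := card_le hcon
  rw [relIndex_eq h c hB hC hne] at h1
  have h6 := Pair.two_le h hB.1
  have h7 := card_pos (fx V B ⊓ fx V C : AddSubgroup V)
  have h8 : 2 * Nat.card (fx V B ⊓ fx V C : AddSubgroup V) ≤
      Nat.card B * Nat.card (fx V B ⊓ fx V C : AddSubgroup V) := Nat.mul_le_mul_right _ h6
  omega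

/-- the spread, on `C_V(C)` -/
theorem spread' {g : X} (hg : g ∈ C) (hg1 : g ≠ 1) : ∃ b ∈ B, ∀ v ∈ fx V C,
    g • (b • v - v) - (b • v - v) - v ∈ fx V B ⊓ fx V C := by
  obtain ⟨b, hb, hs⟩ := spread h c hB hC hne hg hg1
  have hsymm : fx V C ⊓ fx V B = fx V B ⊓ fx V C := inf_comm _ _
  have hb1 : b ≠ 1 := by
    rintro rfl
    obtain ⟨u, hu, hu2⟩ := exists_not_mem h c hC hB (Ne.symm hne)
    apply hu2
    have h1 := hs u hu
    rw [one_smul, sub_self, zero_sub, AddSubgroup.neg_mem_iff] at h1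
    rw [hsymm]; exact h1
  refine ⟨b, hb, fun v hv => ?_⟩
  have hu : b • v - v ∈ fx V B := fun b' hb' => h.quad B hB.1 b hb b' hb' v
  have h1 := hs _ hu
  have hxC : g • (b • v - v) - (b • v - v) ∈ fx V C := fun c' hc' => h.quad C hC.1 g hg c' hc' _
  have h2 : b • (g • (b • v - v) - (b • v - v) - v) - (g • (b • v - v) - (b • v - v) - v) ∈
      fx V B ⊓ fx V C := by
    convert h1 using 1
    generalize g • (b • v - v) - (b • v - v) = x
    rw [smul_sub]; abel
  exact (inj h c hB hC hne hb ((fx V C).sub_mem hxC hv) h2).resolve_left hb1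

/-- an element trivial on `V / U` normalises `B` -/
theorem cj_eq_of {k : X} (hk : ∀ v : V, k • v - v ∈ fx V B ⊓ fx V C) : cj k B = B := by
  symm
  apply Pair.ax h c hB.1 (h.conj B hB.1 k)
  apply eq_of_card_le _ (card_fx_cj k B).le
  intro v hv
  rw [mem_fx_cj]
  have h1 := hk (k⁻¹ • v)
  rw [smul_inv_smul] at h1
  have e : k⁻¹ • v = v - (v - k⁻¹ • v) := by abel
  rw [e]
  exact (fx V B).sub_mem hv h1.1

/-- an element trivial on `V / U` centralises `B` -/
theorem comm_of {k : X} (hk : ∀ v : V, k • v - v ∈ fx V B ⊓ fx V C) : ∀ b ∈ B, k * b = b * k := by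
  intro b hb
  have hcj := cj_eq_of h c hB hC hne hk
  have hz : k * b * k⁻¹ * b⁻¹ ∈ B := by
    apply B.mul_mem _ (B.inv_mem hb)
    have h1 := mem_cj_of (g := k) hb
    rw [hcj] at h1; exact h1
  have hk' : ∀ v : V, k⁻¹ • v - v ∈ fx V B ⊓ fx V C := by
    intro v
    have h1 := hk (k⁻¹ • v)
    rw [smul_inv_smul] at h1
    have h2 := AddSubgroup.neg_mem _ h1
    convert h2 using 1; abel
  have hzU : ∀ v : V, (k * b * k⁻¹ * b⁻¹) • v - v ∈ fx V B ⊓ fx V C := by
    intro v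
    have h1 : b • (k⁻¹ • (b⁻¹ • v)) - v ∈ fx V B ⊓ fx V C := by
      have h2 := hk' (b⁻¹ • v)
      have h3 : b • (k⁻¹ • (b⁻¹ • v) - b⁻¹ • v) = k⁻¹ • (b⁻¹ • v) - b⁻¹ • v := h2.1 b hb
      rw [smul_sub, smul_inv_smul] at h3
      rw [h3]; exact h2
    have h2 := hk (b • (k⁻¹ • (b⁻¹ • v)))
    have h3 := AddSubgroup.add_mem _ h2 h1
    convert h3 using 1
    rw [mul_smul, mul_smul, mul_smul]; abel
  have h1 : k * b * k⁻¹ * b⁻¹ = 1 := by
    apply h.faith
    intro v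
    exact Pair.p3 h c hB hC hne hz (hzU v).2
  have h2 : k * b = (k * b * k⁻¹ * b⁻¹) * (b * k) := by group
  rw [h2, h1, one_mul]

/-- an element of `⟨B, C⟩` trivial on `V / U` is trivial -/
theorem eq_one_of {k : X} (hkL : k ∈ B ⊔ C) (hk : ∀ v : V, k • v - v ∈ fx V B ⊓ fx V C) : k = 1 := by
  have hsymm : fx V C ⊓ fx V B = fx V B ⊓ fx V C := inf_comm _ _
  have hkB := comm_of h c hB hC hne hk
  have hkC := comm_of h c hC hB (Ne.symm hne) (by rw [hsymm]; exact hk)
  have hkU : ∀ u ∈ fx V B ⊓ fx V C, k • u = u := by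
    intro u hu
    have : u ∈ fx V (B ⊔ C) := by rw [fx_sup]; exact hu
    exact this k hkL
  -- `k` fixes `[V, B]` and `[V, C]`
  have key : ∀ F : Subgroup X, (∀ b ∈ F, k * b = b * k) → (∀ v : V, k • v - v ∈ fx V F) →
      ∀ b ∈ F, ∀ v : V, k • (b • v - v) = b • v - v := by
    intro F hF hv b hb v
    have h1 := hv v b hb
    rw [smul_sub, smul_smul, ← hF b hb, mul_smul] at h1
    rw [smul_sub]
    have h2 : k • b • v = k • v - v + b • v := by rw [← h1]; abel
    rw [h2]; abel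
  have keyB := key B hkB fun v => (hk v).1
  have keyC := key C hkC fun v => (hk v).2
  have fixB : ∀ u ∈ fx V B, k • u = u := by
    intro u hu
    obtain ⟨g, hg, hg1⟩ : ∃ g ∈ C, g ≠ 1 := by
      have := h.nb C hC.1
      rw [Ne, Subgroup.eq_bot_iff_forall] at this
      push Not at this
      exact this
    obtain ⟨b, hb, hs⟩ := spread h c hB hC hne hg hg1
    have h1 := hkU _ (hs u hu)
    have h2 := keyB b hb (g • u - u)
    rw [smul_sub, h2] at h1
    exact sub_right_injective h1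
  have fixC : ∀ u ∈ fx V C, k • u = u := by
    intro u hu
    obtain ⟨g, hg, hg1⟩ : ∃ g ∈ B, g ≠ 1 := by
      have := h.nb B hB.1
      rw [Ne, Subgroup.eq_bot_iff_forall] at this
      push Not at this
      exact this
    obtain ⟨b, hb, hs⟩ := spread h c hC hB (Ne.symm hne) hg hg1
    have h1 := hs u hu
    rw [hsymm] at h1
    have h1 := hkU _ h1
    have h2 := keyC b hb (g • u - u)
    rw [smul_sub, h2] at h1
    exact sub_right_injective h1
  apply h.faith
  intro v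
  have hv : v ∈ fx V B ⊔ fx V C := by rw [(card_U h c hB hC hne).2]; trivial
  obtain ⟨a, ha, b, hb, rfl⟩ := mem_sup hv
  rw [smul_add, fixB a ha, fixC b hb]

end Cfsg.Agent.Omega.FF.ToLoc1

end

section


/-!
# THEOREM FF: the output `Loc` of the local theorem
-/

set_option autoImplicit false
set_option linter.unusedSectionVars false
set_option linter.unusedVariables false

namespace Cfsg.Agent.Omega.FF.ToLoc

open Cfsg.Agent.Omega.FF.Basic Cfsg.Agent.Omega.FF.Setup Cfsg.Agent.Omega.FF.Conf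
open Cfsg.Agent.ClassTwoFusion.Quad Cfsg.Agent.ClassTwoFusion.SpreadSL Cfsg.Agent.LieClassical

/-- `X` acts on `Additive V` -/
@[reducible] def addAct (X V : Type*) [Group X] [CommGroup V] [MulDistribMulAction X V] :
    DistribMulAction X (Additive V) where
  smul x v := Additive.ofMul (x • Additive.toMul v)
  one_smul v := congrArg Additive.ofMul (one_smul X (Additive.toMul v))
  mul_smul x y v := congrArg Additive.ofMul (mul_smul x y (Additive.toMul v))
  smul_zero x := congrArg Additive.ofMul (smul_one x)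
  smul_add x v w := congrArg Additive.ofMul (smul_mul' x (Additive.toMul v) (Additive.toMul w))

variable {X V : Type*} [Group X] [CommGroup V] [MulDistribMulAction X V]

attribute [local instance] addAct

theorem ofMul_smul (x : X) (v : V) : Additive.ofMul (x • v) = x • Additive.ofMul v := rfl

theorem mem_fx_iff {A : Subgroup X} {v : V} : Additive.ofMul v ∈ fx (Additive V) A ↔ v ∈ cv V (A : Set X) := Iff.rfl

theorem d_add (hsq : ∀ v : V, v * v = 1) (x : X) (v : V) :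
    Additive.ofMul (d x v) = x • Additive.ofMul v - Additive.ofMul v := by
  have e : d x v = (x • v) / v := by
    rw [d, div_eq_mul_inv, inv_eq_of_mul_eq_one_left (hsq v)]
  rw [e, ofMul_div]; rfl

theorem card_fx (A : Subgroup X) : Nat.card (fx (Additive V) A) = Nat.card (cv V (A : Set X)) :=
  Nat.card_congr ⟨fun v => ⟨Additive.toMul v.1, v.2⟩, fun v => ⟨Additive.ofMul v.1, v.2⟩, fun _ => rfl, fun _ => rfl⟩

theorem card_inf_fx (A B : Subgroup X) : Nat.card (fx (Additive V) A ⊓ fx (Additive V) B : AddSubgroup (Additive V)) =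
    Nat.card (cv V (A : Set X) ⊓ cv V (B : Set X) : Subgroup V) :=
  Nat.card_congr ⟨fun v => ⟨Additive.toMul v.1, v.2⟩, fun v => ⟨Additive.ofMul v.1, v.2⟩, fun _ => rfl, fun _ => rfl⟩

theorem card_add : Nat.card (Additive V) = Nat.card V := rfl

variable [Finite X] [Finite V]

theorem index_mul (A : Subgroup X) : (cv V (A : Set X)).index * Nat.card (fx (Additive V) A) = Nat.card V := by
  rw [card_fx]; exact (cv V (A : Set X)).index_mul_card

theorem index_eq {A : Subgroup X} (e : mm (Additive V) A = Nat.card (Additive V)) :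
    (cv V (A : Set X)).index = Nat.card A := by
  apply Nat.eq_of_mul_eq_mul_right (card_pos (fx (Additive V) A))
  rw [index_mul]; exact e.symm

theorem le_index {A : Subgroup X} (e : mm (Additive V) A ≤ Nat.card (Additive V)) :
    Nat.card A ≤ (cv V (A : Set X)).index := by
  apply Nat.le_of_mul_le_mul_right _ (card_pos (fx (Additive V) A))
  rw [index_mul]; exact e

theorem le_mm {A : Subgroup X} (e : (cv V (A : Set X)).index ≤ Nat.card A) :
    Nat.card (Additive V) ≤ mm (Additive V) A := by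
  rw [card_add, ← index_mul A, mm]
  exact Nat.mul_le_mul_right _ e

section pair

variable {𝒟 : Set (Subgroup X)} {D : Subgroup X} (h : Hyp (Additive V) 𝒟) (c : Cfg 𝒟 D)
  {B C : Subgroup X} (hB : B ∈ AN 𝒟 D) (hC : C ∈ AN 𝒟 D) (hne : pp D C ≠ pp D B)
include h c hB hC hne

omit c hB hC hne in
theorem sq (v : V) : v * v = 1 := h.h2 (Additive.ofMul v)

theorem spread : Spread B C (cv V (B : Set X) ⊓ cv V (C : Set X)) (cv V (B : Set X)) (cv V (C : Set X)) where
  comm := mul_comm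
  sq := sq h
  inf := rfl
  sup v := by
    have hv : Additive.ofMul v ∈ fx (Additive V) B ⊔ fx (Additive V) C := by
      rw [(ToLoc1.card_U h c hB hC hne).2]; trivial
    obtain ⟨a, ha, b, hb, e⟩ := mem_sup hv
    exact ⟨Additive.toMul a, ha, Additive.toMul b, hb, e⟩
  fix t ht v hv := hv t ht
  fix' t ht v hv := hv t ht
  mem t ht v := by
    intro b hb
    have h1 := h.quad B hB.1 t ht b hb (Additive.ofMul v)
    rw [← d_add (sq h)] at h1
    exact h1
  mem' t ht v := by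
    intro b hb
    have h1 := h.quad C hC.1 t ht b hb (Additive.ofMul v)
    rw [← d_add (sq h)] at h1
    exact h1
  card := by
    have e1 := ToLoc1.relIndex_eq h c hB hC hne
    have e2 := Subgroup.relIndex_mul_relIndex (⊥ : Subgroup V) (cv V (B : Set X) ⊓ cv V (C : Set X))
      (cv V (C : Set X)) bot_le inf_le_right
    rw [Subgroup.relIndex_bot_left, Subgroup.relIndex_bot_left, ← card_fx, ← card_inf_fx, e1] at e2
    apply Nat.eq_of_mul_eq_mul_left (card_pos (fx (Additive V) B ⊓ fx (Additive V) C))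
    rw [e2]; ring
  inj t ht v hv hd := by
    refine ToLoc1.inj h c hB hC hne ht (v := Additive.ofMul v) hv ?_
    rw [← d_add (sq h)]
    exact hd
  inj' t ht v hv hd := by
    rcases ToLoc1.inj h c hC hB (Ne.symm hne) ht (v := Additive.ofMul v) hv (by
      rw [← d_add (sq h)]
      exact ⟨hd.2, hd.1⟩) with h1 | h1
    · exact Or.inl h1
    · exact Or.inr ⟨h1.2, h1.1⟩
  inv t ht ht1 := by
    obtain ⟨s, hs, hS⟩ := ToLoc1.spread h c hC hB (Ne.symm hne) ht ht1
    refine ⟨s, hs, fun v hv => ?_⟩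
    have h1 := hS (Additive.ofMul v) hv
    rw [← d_add (sq h), ← d_add (sq h)] at h1
    have h2 : Additive.ofMul (d s (d t v) * v) ∈ fx (Additive V) C ⊓ fx (Additive V) B := by
      convert h1 using 1
      rw [← ofMul_div, div_eq_mul_inv, inv_eq_of_mul_eq_one_left (sq h v)]
    exact ⟨h2.2, h2.1⟩
  inv' s hs hs1 := by
    obtain ⟨t, ht, hS⟩ := ToLoc1.spread' h c hB hC hne hs hs1
    refine ⟨t, ht, fun v hv => ?_⟩
    have h1 := hS (Additive.ofMul v) hv
    rw [← d_add (sq h), ← d_add (sq h)] at h1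
    have h2 : Additive.ofMul (d s (d t v) * v) ∈ fx (Additive V) B ⊓ fx (Additive V) C := by
      convert h1 using 1
      rw [← ofMul_div, div_eq_mul_inv, inv_eq_of_mul_eq_one_left (sq h v)]
    exact h2
  ne := by
    have := h.nb B hB.1
    rw [Ne, Subgroup.eq_bot_iff_forall] at this
    push Not at this
    exact this
  lt := by
    obtain ⟨v, hv, hv2⟩ := ToLoc1.exists_not_mem h c hB hC hne
    exact ⟨Additive.toMul v, hv, hv2⟩

theorem nat2 : Glob.Nat2 V B C := by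
  obtain ⟨F, hF, hFt, hcard, π, φ, hmul, hs, hU, hBv, hCv, hact, hφs, huB, hlC, hu, hl⟩ :=
    (spread h c hB hC hne).exists_SL
  have hinj : Function.Injective φ := by
    rw [injective_iff_map_eq_one]
    intro x hx
    have hx1 : ∀ v : V, d (x : X) v ∈ cv V (B : Set X) ⊓ cv V (C : Set X) := by
      intro v
      rw [← hU, d, hmul, hact, hx]
      rw [Matrix.SpecialLinearGroup.coe_one, Matrix.one_mulVec, ← hmul, sq h]
      rw [hU]; exact Subgroup.one_mem _
    have h1 : (x : X) = 1 := by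
      apply ToLoc1.eq_one_of h c hB hC hne x.2
      intro v
      have h2 := hx1 (Additive.toMul v)
      have h3 : Additive.ofMul (d (x : X) (Additive.toMul v)) ∈ fx (Additive V) B ⊓ fx (Additive V) C := h2
      rw [d_add (sq h)] at h3
      exact h3
    exact Subtype.ext h1
  refine ⟨F, hF, hFt, π, φ, ?_⟩
  refine ⟨hmul, hs, ?_, ?_, ?_, hact, ⟨hinj, hφs⟩, ?_, ?_⟩
  · intro v
    rw [hU]
    have h1 := fx_sup (V := Additive V) B C
    constructor
    · intro hv x hx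
      have h2 : Additive.ofMul v ∈ fx (Additive V) (B ⊔ C) := by rw [h1]; exact hv
      exact h2 x hx
    · intro hv
      have h2 : Additive.ofMul v ∈ fx (Additive V) (B ⊔ C) := hv
      rw [h1] at h2
      exact h2
  · intro v; exact hBv v
  · intro v; exact hCv v
  · intro x
    constructor
    · exact huB x
    · rintro ⟨a, ha⟩
      obtain ⟨y, hy, hy2⟩ := hu a
      rw [hinj (ha.trans hy2.symm)]; exact hy
  · intro x
    constructor
    · exact hlC x
    · rintro ⟨a, ha⟩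
      obtain ⟨y, hy, hy2⟩ := hl a
      rw [hinj (ha.trans hy2.symm)]; exact hy

end pair

/-- the largest proper overgroup -/
theorem pt_eq {𝒟 : Set (Subgroup X)} (h : Hyp (Additive V) 𝒟) {T : Sylow 2 X} {M : Subgroup X}
    (TM : (T : Subgroup X) ≤ M) (Mne : M ≠ ⊤)
    (max : ∀ K : Subgroup X, (T : Subgroup X) ≤ K → K ≤ M ∨ K = ⊤) : pt (T : Subgroup X) = M :=
  le_antisymm ((max _ (h.le_pt T)).resolve_right (h.pt_ne_top T)) (Hyp.le_pt_of TM Mne)

theorem loc_of {𝒟 : Set (Subgroup X)} {D : Subgroup X} (h : Hyp (Additive V) 𝒟) (c : Cfg 𝒟 D)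
    {T : Sylow 2 X} {M : Subgroup X} (TM : (T : Subgroup X) ≤ M) (Mne : M ≠ ⊤)
    (max : ∀ K : Subgroup X, (T : Subgroup X) ≤ K → K ≤ M ∨ K = ⊤) :
    ∃ q, Glob.Loc V T M 𝒟 q D := by
  have hM := pt_eq h TM Mne max
  obtain ⟨A₀, hA₀⟩ := h.ne
  have hpt : ∀ g : X, Glob.cj g M = pt ((g • T : Sylow 2 X) : Subgroup X) := by
    intro g
    rw [coe_smul, h.pt_cj, hM]; rfl
  have hTh : ∀ A, Glob.Th 𝒟 D A ↔ A ∈ AN 𝒟 D := fun A =>
    ⟨fun hA => ⟨hA.mem, hA.norm, hA.nle⟩, fun hA => ⟨hA.1, hA.2.1, hA.2.2⟩⟩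
  have hOpp : ∀ A B, A ∈ AN 𝒟 D → B ∈ AN 𝒟 D → (Glob.Opp M D A B ↔ pp D B ≠ pp D A) := by
    intro A B hA hB
    constructor
    · intro ho e
      obtain ⟨T', hT'⟩ := Min.exists_syl h c hA
      obtain ⟨g, hg⟩ := MulAction.exists_smul_eq X T T'
      have h1 : pp D A = Glob.cj g M := by rw [hpt, hg, Min.pp_eq h c hA hT']
      have h2 := Min.le_pp h c hA
      have h3 := Min.le_pp h c hB
      rw [e] at h3
      rw [h1] at h2 h3
      exact ho g (le_sup_right.trans h2) (le_sup_right.trans h3) (le_sup_left.trans h2)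
    · intro hne g hAg hBg hDg
      rw [hpt] at hAg hBg hDg
      apply hne
      rw [← Min.pt_eq_pp h c hA (sup_le hDg hAg), ← Min.pt_eq_pp h c hB (sup_le hDg hBg)]
  refine ⟨Nat.card A₀, ?_⟩
  exact
  { comm := mul_comm
    sq := sq h
    faith := fun x hx => h.faith x fun v => hx (Additive.toMul v)
    core := h.o2
    TM := TM
    Mne := Mne
    max := max
    nfix := by
      obtain ⟨v, hv, hv2⟩ := h.vec T
      refine ⟨Additive.toMul v, hv, ?_⟩
      by_contra hcon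
      push Not at hcon
      exact hv2 fun x _ => hcon x
    two_le := Pair.two_le h hA₀
    Dcj := h.conj
    card := fun A hA => Pair.card_eq h hA hA₀
    idx := fun A hA => by
      rw [index_eq (Pair.mm_eq h c hA)]; exact Pair.card_eq h hA hA₀
    sqA := fun A hA => h.ea A hA
    ti := fun A hA a ha ha1 v hv => Pair.ti h c hA ha ha1 (v := Additive.ofMul v) hv
    quad := by
      intro A hA a ha a' ha' v
      have h1 := h.quad A hA a ha a' ha' (Additive.ofMul v)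
      rw [← d_add (sq h)] at h1
      exact h1
    noover := fun E hE => le_index (Pair.no h c E hE)
    comm4 := fun A hA B hB P hP hAP hBP => Comm4.comm' h c hA hB hP hAP hBP
    Qgen := by
      intro K hK
      rw [← c.gen]
      exact sSup_le fun A hA => hK A hA.1 hA.2
    Q2 := c.p
    uniq := by
      intro A hA g g' hg hDg hg' hDg'
      rw [hpt] at hg hDg ⊢
      rw [hpt] at hg' hDg' ⊢
      rw [Min.pt_eq_pp h c ((hTh A).1 hA) (sup_le hDg hg), Min.pt_eq_pp h c ((hTh A).1 hA) (sup_le hDg' hg')]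
    two := by
      obtain ⟨B, hB, C, hC, hne⟩ := Min.exists_two h c
      exact ⟨B, C, (hTh B).2 hB, (hTh C).2 hC, (hOpp B C hB hC).2 hne⟩
    pair := by
      intro A B hA hB ho
      rw [hTh] at hA hB
      have hne := (hOpp A B hA hB).1 ho
      refine ⟨nat2 h c hA hB hne, ?_⟩
      intro a ha x hx
      have hP : IsPGroup 2 (D ⊔ A : Subgroup X) := isPGroup_sup c.p (h.ea A hA.1).isPGroup hA.2.1
      let Z : Subgroup X := Subgroup.centralizer {a}
      have hZ : D ≤ Z := by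
        rw [← c.gen]
        apply sSup_le
        rintro E ⟨hE, hED⟩
        intro e he
        rw [Subgroup.mem_centralizer_singleton_iff]
        exact (Comm4.comm' h c hA.1 hE hP le_sup_right (hED.trans le_sup_left) a ha e he).symm
      exact (Subgroup.mem_centralizer_singleton_iff.1 (hZ hx)).symm }

end Cfsg.Agent.Omega.FF.ToLoc

end
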