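import Cfsg.Agent.Mrg.Omega.FF.GlobComm
import Cfsg.Agent.Mrg.Omega.FFBr.Glue
import Cfsg.Agent.Mrg.Omega.FFBr.Main


/-!
# THEOREM FF (K-free): `FFThm.Stmt` and `FFThm.StmtM`

The last input `Out0.off` (offenders, `q ≥ 4`) is plugged into `FFBr.Glue.stmt_of_off`.
-/

set_option autoImplicit false
set_option linter.unusedSectionVars false

namespace Cfsg.Agent.Omega.FF.Glob

open Subgroup Cfsg.Agent.Omega.FFBr

universe u

/-- the statement on offenders for `q ≥ 4` -/
theorem offStmt : Glue.OffStmt.{u} := by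
  intro X V _ _ _ _ _ T k A B o E hE hO
  exact o.off hE hO.comm hO.sq hO.le

/-- the abstract FF theorem -/
theorem aStmt : AStmt.{u} := Glue.aStmt_of offStmt

/-- **THEOREM FF**, group form -/
theorem ffthm : FFThm.Stmt.{u} := stmt_of aStmt

/-- **THEOREM FF**, module form -/
theorem ffthmM : FFThm.StmtM.{u} := stmtM_of aStmt

end Cfsg.Agent.Omega.FF.Glob
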