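import Mathlib
import Cfsg.Agent.ClassTwoFusion.Quad
import Cfsg.Agent.LieClassical.SLTwoUnipotent
import Cfsg.Agent.ZN.Facts
import Cfsg.Agent.PLocal.ElemAbSup

section


/-!
# The FF-theorem for minimal parabolics, `q > 2`: interface between the local and the global part

`H` acts faithfully on the elementary abelian 2-group `V` (written multiplicatively), `T` is a Sylow 2-subgroup of `H`,
`M` the unique maximal subgroup over `T`.

* `Nat2 V A B`: `⟨A, B⟩ ≅ SL₂(F)`, `A` and `B` the upper and lower unipotent subgroups, `V / C_V(⟨A, B⟩)` the natural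
  module;
* `Loc V T M D q Q`: what the local theorem delivers (`D` a conjugation closed set of best offenders, `Q` generated
  by members of `D`, such that two members of `D` in `N_H(Q)`, not in `Q`, without a common point, generate `SL₂(q)`).
-/

set_option autoImplicit false

namespace Cfsg.Agent.Omega.FF.Glob

open Subgroup Cfsg.Agent.ClassTwoFusion.Quad Cfsg.Agent.LieClassical

variable {H : Type*} [Group H]

/-- `g A g⁻¹` -/
def cj (g : H) (A : Subgroup H) : Subgroup H := A.comap (MulAut.conj g⁻¹).toMonoidHom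

theorem mem_cj {g : H} {A : Subgroup H} {x : H} : x ∈ cj g A ↔ g⁻¹ * x * g ∈ A := by
  show MulAut.conj g⁻¹ x ∈ A ↔ _
  rw [MulAut.conj_apply, inv_inv]

/-- `A` and `B` are the upper and lower unipotent subgroups of `⟨A, B⟩ ≅ SL₂(F)`, and `V / C_V(⟨A, B⟩)` is the natural
module. -/
structure NatAt {V : Type*} [Group V] [MulDistribMulAction H V] (A B : Subgroup H) {F : Type} [Field F]
    (π : V → (Fin 2 → F)) (φ : ↥(A ⊔ B) →* Matrix.SpecialLinearGroup (Fin 2) F) : Prop where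
  mul : ∀ v w, π (v * w) = π v + π w
  surj : Function.Surjective π
  ker : ∀ v, π v = 0 ↔ ∀ x ∈ A ⊔ B, x • v = v
  kerA : ∀ v, π v 1 = 0 ↔ ∀ a ∈ A, a • v = v
  kerB : ∀ v, π v 0 = 0 ↔ ∀ b ∈ B, b • v = v
  act : ∀ (x : ↥(A ⊔ B)) (v : V), π ((x : H) • v) = (φ x).1.mulVec (π v)
  bij : Function.Bijective φ
  memA : ∀ x : ↥(A ⊔ B), (x : H) ∈ A ↔ ∃ c : F, φ x = SLTwoUnipotent.u c
  memB : ∀ x : ↥(A ⊔ B), (x : H) ∈ B ↔ ∃ c : F, φ x = SLTwoUnipotent.l c

/-- `⟨A, B⟩ ≅ SL₂(F)`, natural module, `A` upper, `B` lower unipotent. -/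
def Nat2 (V : Type*) [Group V] [MulDistribMulAction H V] (A B : Subgroup H) : Prop :=
  ∃ (F : Type) (_ : Field F) (_ : Fintype F) (π : V → (Fin 2 → F))
    (φ : ↥(A ⊔ B) →* Matrix.SpecialLinearGroup (Fin 2) F), NatAt A B π φ

/-- `A` is a candidate: in `D`, normalising `Q`, not in `Q`. -/
structure Th (D : Set (Subgroup H)) (Q A : Subgroup H) : Prop where
  mem : A ∈ D
  norm : A ≤ normalizer (Q : Set H)
  nle : ¬ A ≤ Q

/-- no conjugate of `M` contains `A`, `B` and `Q` -/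
def Opp (M Q A B : Subgroup H) : Prop := ∀ g : H, A ≤ cj g M → B ≤ cj g M → ¬ Q ≤ cj g M

/-- The output of the local theorem. -/
structure Loc (V : Type*) [Group V] [MulDistribMulAction H V] (T : Sylow 2 H) (M : Subgroup H)
    (D : Set (Subgroup H)) (q : ℕ) (Q : Subgroup H) : Prop where
  comm : ∀ v w : V, v * w = w * v
  sq : ∀ v : V, v * v = 1
  faith : ∀ x : H, (∀ v : V, x • v = v) → x = 1
  core : ∀ N : Subgroup H, N.Normal → IsPGroup 2 N → N = ⊥
  TM : (T : Subgroup H) ≤ M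
  Mne : M ≠ ⊤
  max : ∀ X : Subgroup H, (T : Subgroup H) ≤ X → X ≤ M ∨ X = ⊤
  nfix : ∃ v : V, (∀ t ∈ T, t • v = v) ∧ ∃ x : H, x • v ≠ v
  two_le : 2 ≤ q
  Dcj : ∀ A ∈ D, ∀ g : H, cj g A ∈ D
  card : ∀ A ∈ D, Nat.card A = q
  idx : ∀ A ∈ D, (cv V (A : Set H)).index = q
  sqA : ∀ A ∈ D, ∀ a ∈ A, a * a = 1
  ti : ∀ A ∈ D, ∀ a ∈ A, a ≠ 1 → ∀ v : V, a • v = v → ∀ a' ∈ A, a' • v = v
  quad : ∀ A ∈ D, ∀ a ∈ A, ∀ a' ∈ A, ∀ v : V, a' • d a v = d a v
  noover : ∀ E : Subgroup H, (∀ x ∈ E, x * x = 1) → Nat.card E ≤ (cv V (E : Set H)).index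
  comm4 : ∀ A ∈ D, ∀ B ∈ D, ∀ P : Subgroup H, IsPGroup 2 P → A ≤ P → B ≤ P → ∀ a ∈ A, ∀ b ∈ B, a * b = b * a
  Qgen : ∀ K : Subgroup H, (∀ A ∈ D, A ≤ Q → A ≤ K) → Q ≤ K
  Q2 : IsPGroup 2 Q
  uniq : ∀ A, Th D Q A → ∀ g h : H, A ≤ cj g M → Q ≤ cj g M → A ≤ cj h M → Q ≤ cj h M → cj g M = cj h M
  two : ∃ A B, Th D Q A ∧ Th D Q B ∧ Opp M Q A B
  pair : ∀ A B, Th D Q A → Th D Q B → Opp M Q A B → Nat2 V A B ∧ ∀ a ∈ A, ∀ x ∈ Q, a * x = x * a

end Cfsg.Agent.Omega.FF.Glob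

end

section


/-!
# The FF-theorem, global part: conjugation, and the basic properties of `Nat2`
-/

set_option autoImplicit false
set_option linter.unusedSectionVars false

namespace Cfsg.Agent.Omega.FF.Glob

open Subgroup Cfsg.Agent.ClassTwoFusion.Quad Cfsg.Agent.LieClassical Matrix

section Cj

variable {H : Type*} [Group H]

theorem conj_mem_cj {g : H} {A : Subgroup H} {x : H} (hx : x ∈ A) : g * x * g⁻¹ ∈ cj g A := by
  rw [mem_cj]
  have : g⁻¹ * (g * x * g⁻¹) * g = x := by group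
  rwa [this]

theorem cj_mono {g : H} {A B : Subgroup H} (h : A ≤ B) : cj g A ≤ cj g B := fun _ hx =>
  mem_cj.2 (h (mem_cj.1 hx))

theorem cj_one (A : Subgroup H) : cj 1 A = A := by
  ext x
  rw [mem_cj, inv_one, one_mul, mul_one]

theorem cj_cj (g h : H) (A : Subgroup H) : cj g (cj h A) = cj (g * h) A := by
  ext x
  rw [mem_cj, mem_cj, mem_cj]
  have : h⁻¹ * (g⁻¹ * x * g) * h = (g * h)⁻¹ * x * (g * h) := by group
  rw [this]

theorem cj_inv_cj (g : H) (A : Subgroup H) : cj g⁻¹ (cj g A) = A := by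
  rw [cj_cj, inv_mul_cancel, cj_one]

theorem cj_cj_inv (g : H) (A : Subgroup H) : cj g (cj g⁻¹ A) = A := by
  rw [cj_cj, mul_inv_cancel, cj_one]

theorem cj_le_iff {g : H} {A B : Subgroup H} : cj g A ≤ B ↔ A ≤ cj g⁻¹ B := by
  constructor
  · intro h
    have := cj_mono (g := g⁻¹) h
    rwa [cj_inv_cj] at this
  · intro h
    have := cj_mono (g := g) h
    rwa [cj_cj_inv] at this

theorem le_cj_iff {g : H} {A B : Subgroup H} : A ≤ cj g B ↔ cj g⁻¹ A ≤ B := by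
  rw [cj_le_iff, inv_inv]

theorem cj_le_cj_iff {g : H} {A B : Subgroup H} : cj g A ≤ cj g B ↔ A ≤ B := by
  rw [cj_le_iff, cj_inv_cj]

theorem cj_inj {g : H} {A B : Subgroup H} (h : cj g A = cj g B) : A = B := by
  rw [← cj_inv_cj g A, h, cj_inv_cj]

theorem cj_sup (g : H) (A B : Subgroup H) : cj g (A ⊔ B) = cj g A ⊔ cj g B := by
  apply le_antisymm
  · rw [cj_le_iff]
    apply sup_le
    · rw [← cj_le_iff]; exact le_sup_left
    · rw [← cj_le_iff]; exact le_sup_right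
  · exact sup_le (cj_mono le_sup_left) (cj_mono le_sup_right)

/-- conjugation as an isomorphism -/
def cjEquiv (g : H) (A : Subgroup H) : cj g A ≃* A where
  toFun x := ⟨g⁻¹ * x * g, mem_cj.1 x.2⟩
  invFun x := ⟨g * x * g⁻¹, conj_mem_cj x.2⟩
  left_inv x := Subtype.ext (by show g * (g⁻¹ * (x : H) * g) * g⁻¹ = x; group)
  right_inv x := Subtype.ext (by show g⁻¹ * (g * (x : H) * g⁻¹) * g = x; group)
  map_mul' x y := Subtype.ext (by
    show g⁻¹ * ((x : H) * y) * g = g⁻¹ * x * g * (g⁻¹ * y * g); group)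

theorem card_cj (g : H) (A : Subgroup H) : Nat.card (cj g A) = Nat.card A :=
  Nat.card_congr (cjEquiv g A).toEquiv

theorem cj_eq_iff {g : H} {A : Subgroup H} : cj g A = A ↔ g ∈ normalizer (A : Set H) := by
  rw [← inv_mem_iff, mem_normalizer_iff, SetLike.ext_iff]
  constructor
  · intro h x
    rw [← h x, mem_cj, inv_inv]
  · intro h x
    rw [h x, mem_cj, inv_inv]

theorem cj_eq_of_mem {g : H} {A : Subgroup H} (hg : g ∈ A) : cj g A = A :=
  cj_eq_iff.2 (le_normalizer hg)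

theorem cj_of_comm {g : H} {A : Subgroup H} (h : ∀ a ∈ A, g * a = a * g) : cj g A = A := by
  rw [cj_eq_iff, mem_normalizer_iff]
  intro x
  constructor
  · intro hx
    rw [h x hx, mul_inv_cancel_right]; exact hx
  · intro hx
    have h1 := h _ hx
    have h2 : g * x * g⁻¹ = x := by
      have h3 : g * (g * x * g⁻¹) * g⁻¹ = g * x * g⁻¹ := by rw [h1]; group
      calc g * x * g⁻¹ = g⁻¹ * (g * (g * x * g⁻¹) * g⁻¹) * g := by group
        _ = g⁻¹ * (g * x * g⁻¹) * g := by rw [h3]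
        _ = x := by group
    rwa [h2] at hx

theorem normalizer_cj (g : H) (A : Subgroup H) : normalizer (cj g A : Set H) = cj g (normalizer (A : Set H)) := by
  ext x
  rw [mem_cj, ← cj_eq_iff, ← cj_eq_iff, cj_cj]
  constructor
  · intro h
    rw [← cj_cj, ← cj_cj, cj_cj x g, h, cj_inv_cj]
  · intro h
    have h1 := congrArg (cj g) h
    rw [cj_cj] at h1
    have e : g * (g⁻¹ * x * g) = x * g := by group
    rwa [e] at h1

theorem isPGroup_cj {p : ℕ} {g : H} {A : Subgroup H} (h : IsPGroup p A) : IsPGroup p (cj g A) :=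
  h.of_equiv (cjEquiv g A).symm

end Cj

section Mat

variable {F : Type} [Field F]

theorem exists_mulVec_one_zero (w : Fin 2 → F) : ∃ g : SpecialLinearGroup (Fin 2) F, (g.1.mulVec w) 1 = 0 := by
  by_cases h : w 1 = 0
  · exact ⟨1, by simpa using h⟩
  · refine ⟨⟨!![0, -(w 1)⁻¹; w 1, -(w 0)], ?_⟩, ?_⟩
    · rw [det_fin_two_of]; field_simp; ring
    · show (Matrix.mulVec !![0, -(w 1)⁻¹; w 1, -(w 0)] w) 1 = 0
      simp [Matrix.mulVec, dotProduct, Fin.sum_univ_two]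
      ring

theorem exists_mulVec_e0 {w : Fin 2 → F} (hw : w ≠ 0) :
    ∃ g : SpecialLinearGroup (Fin 2) F, g.1.mulVec ![1, 0] = w := by
  by_cases h : w 0 = 0
  · have h1 : w 1 ≠ 0 := by
      intro h1; apply hw; ext i; fin_cases i
      · exact h
      · exact h1
    refine ⟨⟨!![w 0, -(w 1)⁻¹; w 1, 0], ?_⟩, ?_⟩
    · rw [det_fin_two_of]; field_simp; ring
    · ext i; fin_cases i <;> simp [Matrix.mulVec, dotProduct, Fin.sum_univ_two]
  · refine ⟨⟨!![w 0, 0; w 1, (w 0)⁻¹], ?_⟩, ?_⟩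
    · rw [det_fin_two_of]; field_simp; ring
    · ext i; fin_cases i <;> simp [Matrix.mulVec, dotProduct, Fin.sum_univ_two]

theorem exists_mulVec_eq {w w' : Fin 2 → F} (hw : w ≠ 0) (hw' : w' ≠ 0) :
    ∃ g : SpecialLinearGroup (Fin 2) F, g.1.mulVec w = w' := by
  obtain ⟨g, hg⟩ := exists_mulVec_e0 hw
  obtain ⟨g', hg'⟩ := exists_mulVec_e0 hw'
  refine ⟨g' * g⁻¹, ?_⟩
  have h2 : (g⁻¹).1 * g.1 = 1 := congrArg Subtype.val (inv_mul_cancel g)
  show (g'.1 * (g⁻¹).1).mulVec w = w'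
  rw [← hg', ← Matrix.mulVec_mulVec]
  congr 1
  rw [← hg, Matrix.mulVec_mulVec, h2, Matrix.one_mulVec]

theorem u_mulVec (c : F) (w : Fin 2 → F) : (SLTwoUnipotent.u c).1.mulVec w = ![w 0 + c * w 1, w 1] := by
  ext i
  show (Matrix.mulVec !![1, c; 0, 1] w) i = _
  fin_cases i <;> simp [Matrix.mulVec, dotProduct, Fin.sum_univ_two]

theorem l_mulVec (c : F) (w : Fin 2 → F) : (SLTwoUnipotent.l c).1.mulVec w = ![w 0, c * w 0 + w 1] := by
  ext i
  show (Matrix.mulVec !![1, 0; c, 1] w) i = _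
  fin_cases i <;> simp [Matrix.mulVec, dotProduct, Fin.sum_univ_two]

end Mat

section Nat

variable {H V : Type*} [Group H] [Group V] [MulDistribMulAction H V]

theorem mem_cv' {A : Subgroup H} {v : V} : v ∈ cv V (A : Set H) ↔ ∀ a ∈ A, a • v = v := Iff.rfl

namespace NatAt

variable {A B : Subgroup H} {F : Type} [Field F] {π : V → (Fin 2 → F)}
  {φ : ↥(A ⊔ B) →* Matrix.SpecialLinearGroup (Fin 2) F} (h : NatAt A B π φ)
include h

theorem pi_one : π 1 = 0 := by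
  have h1 := h.mul 1 1
  rw [mul_one] at h1
  exact left_eq_add.1 h1

theorem pi_inv (v : V) : π v⁻¹ = - π v := by
  have h1 := h.mul v⁻¹ v
  rw [inv_mul_cancel, h.pi_one] at h1
  exact eq_neg_of_add_eq_zero_left h1.symm

/-- `π` as a homomorphism -/
def hom : V →* Multiplicative (Fin 2 → F) where
  toFun v := Multiplicative.ofAdd (π v)
  map_one' := by rw [h.pi_one]; rfl
  map_mul' v w := by rw [h.mul]; rfl

theorem two (sq : ∀ v : V, v * v = 1) (w : Fin 2 → F) : w + w = 0 := by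
  obtain ⟨v, rfl⟩ := h.surj w
  rw [← h.mul, sq, h.pi_one]

theorem char2 (sq : ∀ v : V, v * v = 1) (c : F) : c + c = 0 := congrFun (h.two sq ![c, 0]) 0

theorem cover (v : V) : ∃ l ∈ A ⊔ B, ∀ a ∈ A, a • (l • v) = l • v := by
  obtain ⟨g, hg⟩ := exists_mulVec_one_zero (π v)
  obtain ⟨x, hx⟩ := h.bij.2 g
  refine ⟨x, x.2, (h.kerA _).1 ?_⟩
  rw [h.act, hx, hg]

/-- irreducibility -/
theorem irr {U : Subgroup V} (hU : ∀ x ∈ A ⊔ B, ∀ v ∈ U, x • v ∈ U)
    (hk : ∀ v, (∀ x ∈ A ⊔ B, x • v = v) → v ∈ U) {v : V} (hv : v ∈ U) (hv0 : ∃ x ∈ A ⊔ B, x • v ≠ v) : U = ⊤ := by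
  rw [eq_top_iff]
  intro w _
  by_cases hw : π w = 0
  · exact hk _ ((h.ker w).1 hw)
  have hv1 : π v ≠ 0 := by
    intro h1
    obtain ⟨x, hx, hxv⟩ := hv0
    exact hxv ((h.ker v).1 h1 x hx)
  obtain ⟨g, hg⟩ := exists_mulVec_eq hv1 hw
  obtain ⟨x, hx⟩ := h.bij.2 g
  have h1 : π ((x : H) • v) = π w := by rw [h.act, hx, hg]
  have h2 : π (w * ((x : H) • v)⁻¹) = 0 := by rw [h.mul, h.pi_inv, h1, add_neg_cancel]
  have h3 := mul_mem (hk _ ((h.ker _).1 h2)) (hU x x.2 v hv)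
  rwa [inv_mul_cancel_right] at h3

theorem u_act {a : H} (ha : a ∈ A) : ∃ c : F, (a = 1 ↔ c = 0) ∧ ∀ v, π (a • v) = ![π v 0 + c * π v 1, π v 1] := by
  obtain ⟨c, hc⟩ := (h.memA ⟨a, mem_sup_left ha⟩).1 ha
  refine ⟨c, ?_, ?_⟩
  · constructor
    · rintro rfl
      have h1 : φ (⟨1, mem_sup_left ha⟩ : ↥(A ⊔ B)) = 1 := map_one φ
      rw [h1, ← SLTwoUnipotent.u_zero] at hc
      have h2 := congrArg (fun M : SpecialLinearGroup (Fin 2) F => M.1 0 1) hc
      simpa [SLTwoUnipotent.u] using h2.symm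
    · rintro rfl
      rw [SLTwoUnipotent.u_zero, ← map_one φ] at hc
      exact congrArg Subtype.val (h.bij.1 hc)
  · intro v
    have h1 := h.act ⟨a, mem_sup_left ha⟩ v
    rw [hc, u_mulVec] at h1
    exact h1

theorem exists_u (c : F) : ∃ a ∈ A, (a = 1 ↔ c = 0) ∧ ∀ v, π (a • v) = ![π v 0 + c * π v 1, π v 1] := by
  obtain ⟨x, hx⟩ := h.bij.2 (SLTwoUnipotent.u c)
  have hxA : (x : H) ∈ A := (h.memA x).2 ⟨c, hx⟩
  refine ⟨x, hxA, ?_, fun v => by rw [h.act, hx, u_mulVec]⟩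
  constructor
  · intro h1
    have h2 : x = 1 := Subtype.ext h1
    rw [h2, map_one, ← SLTwoUnipotent.u_zero] at hx
    have h3 := congrArg (fun M : SpecialLinearGroup (Fin 2) F => M.1 0 1) hx
    simpa [SLTwoUnipotent.u] using h3.symm
  · rintro rfl
    rw [SLTwoUnipotent.u_zero, ← map_one φ] at hx
    exact congrArg Subtype.val (h.bij.1 hx)

/-- `[v, a]` is not fixed by `⟨A, B⟩` if it is not trivial -/
theorem d_not_ker (sq : ∀ v : V, v * v = 1) {a : H} (ha : a ∈ A) {v : V} (hv : a • v ≠ v) :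
    π (d a v) ≠ 0 := by
  obtain ⟨c, hc, hact⟩ := h.u_act ha
  have ha1 : a ≠ 1 := by
    rintro rfl
    exact hv (one_smul H v)
  have hc0 : c ≠ 0 := fun h1 => ha1 (hc.2 h1)
  have hv1 : π v 1 ≠ 0 := by
    intro h1
    exact hv ((h.kerA v).1 h1 a ha)
  intro h1
  rw [d, h.mul, hact] at h1
  have h2 := congrFun h1 0
  simp only [Pi.add_apply, cons_val_zero, Pi.zero_apply] at h2
  have h3 : π v 0 + c * π v 1 + π v 0 = c * π v 1 := by
    have := h.char2 sq (π v 0)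
    calc π v 0 + c * π v 1 + π v 0 = (π v 0 + π v 0) + c * π v 1 := by ring
      _ = c * π v 1 := by rw [this, zero_add]
  rw [h3] at h2
  exact (mul_ne_zero hc0 hv1) h2

end NatAt

end Nat

end Cfsg.Agent.Omega.FF.Glob

end

section


/-!
# The FF-theorem, global part (A)-(C): at every point there is exactly one member of `Θ`
-/

set_option autoImplicit false
set_option linter.unusedSectionVars false

namespace Cfsg.Agent.Omega.FF.Glob

open Subgroup Cfsg.Agent.ClassTwoFusion.Quad Cfsg.Agent.LieClassical Matrix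

variable {H V : Type*} [Group H] [Group V] [MulDistribMulAction H V]

namespace NatAt

variable {A B : Subgroup H} {F : Type} [Field F] {π : V → (Fin 2 → F)}
  {φ : ↥(A ⊔ B) →* Matrix.SpecialLinearGroup (Fin 2) F} (h : NatAt A B π φ)
include h

theorem memA_iff (x : ↥(A ⊔ B)) : (x : H) ∈ A ↔ (φ x).1.mulVec ![1, 0] = ![1, 0] := by
  rw [h.memA]
  constructor
  · rintro ⟨c, hc⟩
    rw [hc, u_mulVec]
    ext i; fin_cases i <;> simp
  · intro h1
    have h2 := congrFun h1 0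
    have h3 := congrFun h1 1
    simp only [Matrix.mulVec, dotProduct, Fin.sum_univ_two, cons_val_zero, cons_val_one, mul_one, mul_zero,
      add_zero] at h2 h3
    have h4 : (φ x).1.det = 1 := (φ x).2
    rw [det_fin_two, h2, h3] at h4
    refine ⟨(φ x).1 0 1, ?_⟩
    apply Subtype.ext
    show (φ x).1 = !![1, (φ x).1 0 1; 0, 1]
    ext i j
    fin_cases i <;> fin_cases j
    · exact h2
    · rfl
    · exact h3
    · show (φ x).1 1 1 = 1
      linear_combination h4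

theorem memB_iff (x : ↥(A ⊔ B)) : (x : H) ∈ B ↔ (φ x).1.mulVec ![0, 1] = ![0, 1] := by
  rw [h.memB]
  constructor
  · rintro ⟨c, hc⟩
    rw [hc, l_mulVec]
    ext i; fin_cases i <;> simp
  · intro h1
    have h2 := congrFun h1 0
    have h3 := congrFun h1 1
    simp only [Matrix.mulVec, dotProduct, Fin.sum_univ_two, cons_val_zero, cons_val_one, mul_one, mul_zero,
      zero_add] at h2 h3
    have h4 : (φ x).1.det = 1 := (φ x).2
    rw [det_fin_two, h2, h3] at h4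
    refine ⟨(φ x).1 1 0, ?_⟩
    apply Subtype.ext
    show (φ x).1 = !![1, 0; (φ x).1 1 0, 1]
    ext i j
    fin_cases i <;> fin_cases j
    · show (φ x).1 0 0 = 1
      linear_combination h4
    · exact h2
    · rfl
    · exact h3

theorem cj_mem {l x : H} (hl : l ∈ A ⊔ B) (hx : x ∈ A ⊔ B) :
    x ∈ cj l A ↔ (φ ⟨x, hx⟩).1.mulVec ((φ ⟨l, hl⟩).1.mulVec ![1, 0]) = (φ ⟨l, hl⟩).1.mulVec ![1, 0] := by
  rw [mem_cj]
  have h1 := h.memA_iff ((⟨l, hl⟩ : ↥(A ⊔ B))⁻¹ * ⟨x, hx⟩ * ⟨l, hl⟩)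
  have h2 : (((⟨l, hl⟩ : ↥(A ⊔ B))⁻¹ * ⟨x, hx⟩ * ⟨l, hl⟩ : ↥(A ⊔ B)) : H) = l⁻¹ * x * l := rfl
  rw [h2] at h1
  rw [h1, map_mul, map_mul, map_inv]
  have e1 : ((φ ⟨l, hl⟩)⁻¹).1 * (φ ⟨l, hl⟩).1 = 1 := congrArg Subtype.val (inv_mul_cancel (φ ⟨l, hl⟩))
  have e2 : (φ ⟨l, hl⟩).1 * ((φ ⟨l, hl⟩)⁻¹).1 = 1 := congrArg Subtype.val (mul_inv_cancel (φ ⟨l, hl⟩))
  show (((φ ⟨l, hl⟩)⁻¹).1 * (φ ⟨x, hx⟩).1 * (φ ⟨l, hl⟩).1).mulVec ![1, 0] = _ ↔ _
  constructor
  · intro h3
    have h4 := congrArg ((φ ⟨l, hl⟩).1.mulVec) h3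
    rw [Matrix.mulVec_mulVec, ← mul_assoc, ← mul_assoc, e2, one_mul, ← Matrix.mulVec_mulVec] at h4
    exact h4
  · intro h3
    rw [mul_assoc, ← Matrix.mulVec_mulVec, ← Matrix.mulVec_mulVec, h3, Matrix.mulVec_mulVec, e1,
      Matrix.one_mulVec]

theorem cj_mem' {l x : H} (hl : l ∈ A ⊔ B) (hx : x ∈ A ⊔ B) :
    x ∈ cj l B ↔ (φ ⟨x, hx⟩).1.mulVec ((φ ⟨l, hl⟩).1.mulVec ![0, 1]) = (φ ⟨l, hl⟩).1.mulVec ![0, 1] := by
  rw [mem_cj]
  have h1 := h.memB_iff ((⟨l, hl⟩ : ↥(A ⊔ B))⁻¹ * ⟨x, hx⟩ * ⟨l, hl⟩)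
  have h2 : (((⟨l, hl⟩ : ↥(A ⊔ B))⁻¹ * ⟨x, hx⟩ * ⟨l, hl⟩ : ↥(A ⊔ B)) : H) = l⁻¹ * x * l := rfl
  rw [h2] at h1
  rw [h1, map_mul, map_mul, map_inv]
  have e1 : ((φ ⟨l, hl⟩)⁻¹).1 * (φ ⟨l, hl⟩).1 = 1 := congrArg Subtype.val (inv_mul_cancel (φ ⟨l, hl⟩))
  have e2 : (φ ⟨l, hl⟩).1 * ((φ ⟨l, hl⟩)⁻¹).1 = 1 := congrArg Subtype.val (mul_inv_cancel (φ ⟨l, hl⟩))
  show (((φ ⟨l, hl⟩)⁻¹).1 * (φ ⟨x, hx⟩).1 * (φ ⟨l, hl⟩).1).mulVec ![0, 1] = _ ↔ _
  constructor
  · intro h3
    have h4 := congrArg ((φ ⟨l, hl⟩).1.mulVec) h3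
    rw [Matrix.mulVec_mulVec, ← mul_assoc, ← mul_assoc, e2, one_mul, ← Matrix.mulVec_mulVec] at h4
    exact h4
  · intro h3
    rw [mul_assoc, ← Matrix.mulVec_mulVec, ← Matrix.mulVec_mulVec, h3, Matrix.mulVec_mulVec, e1,
      Matrix.one_mulVec]

/-- the conjugates of `A` in `⟨A, B⟩` -/
theorem cj_A {l : H} (hl : l ∈ A ⊔ B) : cj l A = A ∨ ∃ a ∈ A, cj l A = cj a B := by
  have hcl : cj l A ≤ A ⊔ B := by
    intro x hx
    rw [mem_cj] at hx
    have h1 := mul_mem (mul_mem hl (mem_sup_left hx : l⁻¹ * x * l ∈ A ⊔ B)) (inv_mem hl)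
    have e : l * (l⁻¹ * x * l) * l⁻¹ = x := by group
    rwa [e] at h1
  have hscal : ∀ (N : SpecialLinearGroup (Fin 2) F) (c : F) (w : Fin 2 → F), c ≠ 0 →
      (N.1.mulVec (c • w) = c • w ↔ N.1.mulVec w = w) := by
    intro N c w hc
    rw [Matrix.mulVec_smul]
    exact (smul_right_injective _ hc).eq_iff
  by_cases h0 : ((φ ⟨l, hl⟩).1.mulVec ![1, 0]) 1 = 0
  · left
    set w := (φ ⟨l, hl⟩).1.mulVec ![1, 0] with hw
    have hw0 : w 0 ≠ 0 := by
      intro h1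
      have h2 : w = 0 := by ext i; fin_cases i <;> assumption
      have e1 : ((φ ⟨l, hl⟩)⁻¹).1 * (φ ⟨l, hl⟩).1 = 1 := congrArg Subtype.val (inv_mul_cancel (φ ⟨l, hl⟩))
      have h3 := congrArg (((φ ⟨l, hl⟩)⁻¹).1.mulVec) (hw.symm.trans h2)
      rw [Matrix.mulVec_mulVec, e1, Matrix.one_mulVec, Matrix.mulVec_zero] at h3
      exact one_ne_zero (congrFun h3 0)
    have hww : w = w 0 • ![1, 0] := by ext i; fin_cases i <;> simp [h0]
    ext x
    constructor
    · intro hx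
      rw [h.cj_mem hl (hcl hx), ← hw, hww, hscal _ _ _ hw0] at hx
      exact (h.memA_iff ⟨x, _⟩).2 hx
    · intro hx
      rw [h.cj_mem hl (mem_sup_left hx), ← hw, hww, hscal _ _ _ hw0]
      exact (h.memA_iff ⟨x, mem_sup_left hx⟩).1 hx
  · right
    set w := (φ ⟨l, hl⟩).1.mulVec ![1, 0] with hw
    obtain ⟨y, hy⟩ := h.bij.2 (SLTwoUnipotent.u (w 0 * (w 1)⁻¹))
    have hyA : (y : H) ∈ A := (h.memA y).2 ⟨_, hy⟩
    refine ⟨y, hyA, ?_⟩
    have hww : w = w 1 • (φ y).1.mulVec ![0, 1] := by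
      rw [hy, u_mulVec]
      ext i; fin_cases i
      · simp; field_simp
      · simp
    have hcy : cj (y : H) B ≤ A ⊔ B := by
      intro x hx
      rw [mem_cj] at hx
      have h1 := mul_mem (mul_mem y.2 (mem_sup_right hx : (y : H)⁻¹ * x * y ∈ A ⊔ B)) (inv_mem y.2)
      have e : (y : H) * ((y : H)⁻¹ * x * y) * (y : H)⁻¹ = x := by group
      rwa [e] at h1
    ext x
    constructor
    · intro hx
      have hx' := hcl hx
      rw [h.cj_mem hl (hcl hx), ← hw, hww, hscal _ _ _ h0] at hx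
      exact (h.cj_mem' y.2 hx').2 hx
    · intro hx
      rw [h.cj_mem hl (hcy hx), ← hw, hww, hscal _ _ _ h0]
      exact (h.cj_mem' y.2 (hcy hx)).1 hx

/-- `A` acts semiregularly on the conjugates of `A` different from `A` -/
theorem cj_B_ne {a : H} (ha : a ∈ A) (ha1 : a ≠ 1) : cj a B ≠ B := by
  intro h1
  obtain ⟨c, hc⟩ := (h.memA ⟨a, mem_sup_left ha⟩).1 ha
  have hc0 : c ≠ 0 := by
    rintro rfl
    rw [SLTwoUnipotent.u_zero, ← map_one φ] at hc
    exact ha1 (congrArg Subtype.val (h.bij.1 hc))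
  obtain ⟨y, hy⟩ := h.bij.2 (SLTwoUnipotent.l 1)
  have hyB : (y : H) ∈ B := (h.memB y).2 ⟨1, hy⟩
  have h2 : (y : H) ∈ cj a B := h1.symm ▸ hyB
  have h3 := (h.cj_mem' (mem_sup_left ha) y.2).1 h2
  rw [hc, u_mulVec] at h3
  have h4 := congrFun h3 1
  have h5 : (φ ⟨(y : H), y.2⟩) = SLTwoUnipotent.l 1 := hy
  rw [h5, l_mulVec] at h4
  simp at h4
  exact hc0 h4

end NatAt

end Cfsg.Agent.Omega.FF.Glob

end

section


/-!
# The FF-theorem, global part (A)-(C): at every point there is exactly one member of `Θ`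
-/

set_option autoImplicit false
set_option linter.unusedSectionVars false

namespace Cfsg.Agent.Omega.FF.Glob

open Subgroup Cfsg.Agent.ClassTwoFusion.Quad Cfsg.Agent.LieClassical Matrix
open scoped Pointwise
open Cfsg.Agent.PLocal.ElemAbSup (coe_sup_of_le_centralizer)

variable {H V : Type*} [Group H] [Group V] [MulDistribMulAction H V]

section Opp

variable {M Q A B : Subgroup H}

theorem Opp.symm (h : Opp M Q A B) : Opp M Q B A := fun g h1 h2 => h g h2 h1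

theorem cj_cj_le {g n : H} {A M : Subgroup H} : cj n A ≤ cj g M ↔ A ≤ cj (n⁻¹ * g) M := by
  rw [cj_le_iff, cj_cj]

theorem Opp.cj (h : Opp M Q A B) {n : H} (hn : n ∈ normalizer (Q : Set H)) :
    Opp M Q (cj n A) (Glob.cj n B) := by
  intro g h1 h2 h3
  rw [cj_cj_le] at h1 h2
  apply h _ h1 h2
  rw [← cj_cj_le, cj_eq_iff.2 hn]
  exact h3

theorem Th.cj {D : Set (Subgroup H)} (hD : ∀ A ∈ D, ∀ g : H, Glob.cj g A ∈ D) (h : Th D Q A) {n : H}
    (hn : n ∈ normalizer (Q : Set H)) : Th D Q (Glob.cj n A) where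
  mem := hD A h.mem n
  norm := by
    rw [cj_le_iff, ← normalizer_cj, cj_eq_iff.2 (inv_mem hn)]
    exact h.norm
  nle := by
    rw [cj_le_iff, cj_eq_iff.2 (inv_mem hn)]
    exact h.nle

end Opp

namespace Loc

variable {T : Sylow 2 H} {M : Subgroup H} {D : Set (Subgroup H)} {q : ℕ} {Q : Subgroup H} (h : Loc V T M D q Q)
include h

/-! ### the module -/

theorem inv_eq (v : V) : v⁻¹ = v := inv_eq_of_mul_eq_one_left (h.sq v)

theorem smul_eq (x : H) (v : V) : x • v = d x v * v := by rw [d, mul_assoc, h.sq, mul_one]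

theorem d_eq_one (x : H) (v : V) : d x v = 1 ↔ x • v = v := by
  rw [d, mul_eq_one_iff_eq_inv, h.inv_eq]

theorem mmc (a b c e : V) : a * b * (c * e) = a * c * (b * e) := by
  rw [mul_assoc, mul_assoc, ← mul_assoc b, h.comm b c, mul_assoc]

theorem d_mul (x : H) (v w : V) : d x (v * w) = d x v * d x w := by
  rw [d, smul_mul']
  exact h.mmc _ _ _ _

theorem exists_mv {x : H} (hx : x ≠ 1) : ∃ v : V, x • v ≠ v := by
  by_contra hc
  push Not at hc
  exact hx (h.faith x hc)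

theorem exists_ne {A : Subgroup H} (hA : A ∈ D) : ∃ a ∈ A, a ≠ 1 := by
  by_contra hc
  push Not at hc
  have h1 : A = ⊥ := by rw [eq_bot_iff]; exact fun a ha => mem_bot.2 (hc a ha)
  have h2 := h.card A hA
  rw [h1, card_bot] at h2
  have := h.two_le
  omega

/-! ### points -/

theorem same_trans {A B C : Subgroup H} (hB : Th D Q B) (h1 : ¬ Opp M Q A B) (h2 : ¬ Opp M Q B C) :
    ¬ Opp M Q A C := by
  unfold Opp at h1 h2 ⊢
  push Not at h1 h2 ⊢
  obtain ⟨g, ha, hb, hq⟩ := h1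
  obtain ⟨k, hb', hc, hq'⟩ := h2
  have h3 := h.uniq B hB g k hb hq hb' hq'
  exact ⟨g, ha, h3 ▸ hc, hq⟩

theorem exists_opp {A : Subgroup H} (hA : Th D Q A) : ∃ B, Th D Q B ∧ Opp M Q A B := by
  obtain ⟨B, C, hB, hC, hBC⟩ := h.two
  by_contra hc
  push Not at hc
  exact h.same_trans hA (fun h1 => hc B hB h1.symm) (hc C hC) hBC

theorem comm_Q {A : Subgroup H} (hA : Th D Q A) : ∀ a ∈ A, ∀ x ∈ Q, a * x = x * a := by
  obtain ⟨B, hB, hAB⟩ := h.exists_opp hA
  exact (h.pair A B hA hB hAB).2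

theorem isPGroup_A {A : Subgroup H} (hA : A ∈ D) : IsPGroup 2 A := by
  intro x
  refine ⟨1, Subtype.ext ?_⟩
  rw [pow_one, pow_two]
  exact h.sqA A hA x x.2

theorem isPGroup_AQ {A : Subgroup H} (hA : Th D Q A) : IsPGroup 2 (A ⊔ Q : Subgroup H) :=
  (h.isPGroup_A hA.mem).to_sup_of_normal_right' h.Q2 hA.norm

theorem same_refl [Finite H] {A : Subgroup H} (hA : Th D Q A) : ¬ Opp M Q A A := by
  have : Fact (Nat.Prime 2) := ⟨Nat.prime_two⟩
  obtain ⟨S, hS⟩ := (h.isPGroup_AQ hA).exists_le_sylow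
  obtain ⟨g, hg⟩ := MulAction.exists_smul_eq H T S
  have h1 : (S : Subgroup H) = cj g T := by
    rw [← hg]
    ext x
    rw [mem_cj, Sylow.coe_subgroup_smul, Subgroup.mem_pointwise_smul_iff_inv_smul_mem, ← map_inv, MulAut.smul_def,
      MulAut.conj_apply, inv_inv]
  intro h2
  have h3 : A ⊔ Q ≤ cj g M := (hS.trans h1.le).trans (cj_mono h.TM)
  exact h2 g (le_sup_left.trans h3) (le_sup_left.trans h3) (le_sup_right.trans h3)

theorem nat2 {A B : Subgroup H} (hA : Th D Q A) (hB : Th D Q B) (hAB : Opp M Q A B) : Nat2 V A B :=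
  (h.pair A B hA hB hAB).1

/-- `[v, a]` is not fixed by `B` -/
theorem star {A B : Subgroup H} (hA : Th D Q A) (hB : Th D Q B) (hAB : Opp M Q A B) {a : H} (ha : a ∈ A) {v : V}
    (hv : a • v ≠ v) : ¬ ∀ b ∈ B, b • d a v = d a v := by
  obtain ⟨F, _, _, π, φ, hn⟩ := h.nat2 hA hB hAB
  intro h1
  apply hn.d_not_ker h.sq ha hv
  have e0 : π (d a v) 0 = 0 := (hn.kerB _).2 h1
  have e1 : π (d a v) 1 = 0 := (hn.kerA _).2 fun a' ha' => h.quad A hA.mem a ha a' ha' v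
  ext i
  fin_cases i
  · exact e0
  · exact e1

theorem sup_le_norm {A B : Subgroup H} (hA : Th D Q A) (hB : Th D Q B) : A ⊔ B ≤ normalizer (Q : Set H) :=
  sup_le hA.norm hB.norm

theorem fix_cj {A : Subgroup H} {l : H} {v : V} (hv : ∀ a ∈ A, a • (l • v) = l • v) :
    ∀ x ∈ cj l⁻¹ A, x • v = v := by
  intro x hx
  rw [mem_cj, inv_inv] at hx
  have h1 := hv _ hx
  have h2 := congrArg (fun w => l⁻¹ • w) h1
  simp only [← mul_smul] at h2
  have e : l⁻¹ * (l * x * l⁻¹ * l) = x := by group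
  rw [e, inv_mul_cancel, one_smul] at h2
  exact h2

theorem cover {A B : Subgroup H} (hA : Th D Q A) (hB : Th D Q B) (hAB : Opp M Q A B) (v : V) :
    ∃ l ∈ A ⊔ B, ∀ x ∈ cj l A, x • v = v := by
  obtain ⟨F, _, _, π, φ, hn⟩ := h.nat2 hA hB hAB
  obtain ⟨l, hl, hlv⟩ := hn.cover v
  exact ⟨l⁻¹, inv_mem hl, h.fix_cj hlv⟩

theorem cj_A {A B : Subgroup H} (hA : Th D Q A) (hB : Th D Q B) (hAB : Opp M Q A B) {l : H} (hl : l ∈ A ⊔ B) :
    cj l A = A ∨ ∃ a ∈ A, cj l A = cj a B := by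
  obtain ⟨F, _, _, π, φ, hn⟩ := h.nat2 hA hB hAB
  exact hn.cj_A hl

/-- (B) the points -/
theorem point {A B E : Subgroup H} (hA : Th D Q A) (hB : Th D Q B) (hAB : Opp M Q A B) (hE : Th D Q E) :
    ¬ Opp M Q E A ∨ ∃ a ∈ A, ¬ Opp M Q E (cj a B) := by
  obtain ⟨e, he, he1⟩ := h.exists_ne hE.mem
  obtain ⟨v, hv⟩ := h.exists_mv he1
  obtain ⟨l, hl, hlw⟩ := h.cover hA hB hAB (d e v)
  have hl' : Th D Q (cj l A) := hA.cj h.Dcj (h.sup_le_norm hA hB hl)
  have h1 : ¬ Opp M Q E (cj l A) := fun h2 => h.star hE hl' h2 he hv hlw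
  rcases h.cj_A hA hB hAB hl with h2 | ⟨a, ha, h2⟩
  · left; rwa [h2] at h1
  · right; exact ⟨a, ha, by rwa [h2] at h1⟩

/-- (C1) `[V, A] ≤ C_V(A')` if `A`, `A'` have the same point -/
theorem d_fix [Finite H] {A A' : Subgroup H} (hA : Th D Q A) (hA' : Th D Q A') (hs : ¬ Opp M Q A A') {a : H}
    (ha : a ∈ A) (v : V) : ∀ a' ∈ A', a' • d a v = d a v := by
  by_cases hv : a • v = v
  · intro a' _
    rw [(h.d_eq_one a v).2 hv, smul_one]
  obtain ⟨B, hB, hAB⟩ := h.exists_opp hA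
  have hA'B : Opp M Q A' B := by
    by_contra h1
    exact h.same_trans hA' hs h1 hAB
  obtain ⟨l, hl, hlw⟩ := h.cover hA' hB hA'B (d a v)
  rcases h.cj_A hA' hB hA'B hl with h2 | ⟨a', ha', h2⟩
  · rwa [h2] at hlw
  · exfalso
    rw [h2] at hlw
    have hn : a' ∈ normalizer (Q : Set H) := hA'.norm ha'
    have hB' : Th D Q (cj a' B) := hB.cj h.Dcj hn
    have h3 : Opp M Q A (cj a' B) := by
      by_contra h4
      have h5 := h.same_trans hA (fun h6 => hs h6.symm) h4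
      have h6 := hA'B.cj hn
      rw [cj_eq_of_mem ha'] at h6
      exact h5 h6
    exact h.star hA hB' h3 ha hv hlw

theorem comm_same [Finite H] {A A' : Subgroup H} (hA : Th D Q A) (hA' : Th D Q A') (hs : ¬ Opp M Q A A') :
    ∀ a ∈ A, ∀ a' ∈ A', a * a' = a' * a := by
  intro a ha a' ha'
  have h1 : ∀ v : V, (a * a') • v = (a' * a) • v := by
    intro v
    have e1 : a' • d a v = d a v := h.d_fix hA hA' hs ha v a' ha'
    have e2 : a • d a' v = d a' v := h.d_fix hA' hA (fun h6 => hs h6.symm) ha' v a ha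
    rw [mul_smul, mul_smul, h.smul_eq a' v, h.smul_eq a v, smul_mul', smul_mul', e1, e2, h.smul_eq a' v,
      h.smul_eq a v, ← mul_assoc, ← mul_assoc, h.comm (d a v)]
  have h2 : (a' * a)⁻¹ * (a * a') = 1 := by
    apply h.faith
    intro v
    rw [mul_smul, h1, ← mul_smul, inv_mul_cancel, one_smul]
  exact (inv_mul_eq_one.1 h2).symm

/-- members with the same fixed points, and commuting, are equal -/
theorem eq_of_fix [Finite H] [Finite V] {A A' : Subgroup H} (hA : A ∈ D) (hA' : A' ∈ D)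
    (hc : ∀ a ∈ A, ∀ a' ∈ A', a * a' = a' * a) (hf : ∀ v : V, (∀ a ∈ A, a • v = v) → ∀ a' ∈ A', a' • v = v) :
    A = A' := by
  -- the product is elementary abelian
  have hE : ∀ x ∈ A ⊔ A', x * x = 1 := by
    intro x hx
    have hle : A' ≤ centralizer (A : Set H) := fun b hb => mem_centralizer_iff.2 fun a ha => hc a ha b hb
    have h1 : x ∈ (A : Set H) * (A' : Set H) := by
      rw [← coe_sup_of_le_centralizer hle]; exact hx
    obtain ⟨a, ha, b, hb, rfl⟩ := Set.mem_mul.1 h1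
    have e : a * b * (a * b) = a * a * (b * b) := by
      rw [mul_assoc, ← mul_assoc b, ← hc a ha b hb]
      simp only [mul_assoc]
    rw [e, h.sqA A hA a ha, h.sqA A' hA' b hb, one_mul]
  have h1 := h.noover _ hE
  have h2 : cv V ((A ⊔ A' : Subgroup H) : Set H) = cv V (A : Set H) := by
    apply le_antisymm
    · exact cv_anti (V := V) (le_sup_left (a := A) (b := A'))
    · intro v hv
      have h3 : A ⊔ A' ≤ MulAction.stabilizer H v := sup_le (fun a ha => hv a ha) (fun b hb => hf v hv b hb)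
      exact fun x hx => h3 hx
  rw [h2, h.idx A hA] at h1
  have h3 : A = A ⊔ A' := Subgroup.eq_of_le_of_card_ge le_sup_left (by rw [h.card A hA]; exact h1)
  have h4 : A' = A ⊔ A' := Subgroup.eq_of_le_of_card_ge le_sup_right (by rw [h.card A' hA']; exact h1)
  exact h3.trans h4.symm

end Loc

end Cfsg.Agent.Omega.FF.Glob

end

section


/-!
# The FF-theorem, global part (C): at every point there is exactly one member of `Θ`
-/

set_option autoImplicit false
set_option linter.unusedSectionVars false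

namespace Cfsg.Agent.Omega.FF.Glob

open Subgroup Cfsg.Agent.ClassTwoFusion.Quad Cfsg.Agent.LieClassical Matrix
open scoped Pointwise
open Cfsg.Agent.PLocal.ElemAbSup (coe_sup_of_le_centralizer)
open Cfsg.Agent.ZN (o2 le_o2 isPGroup_o2 normalizer_le_normalizer_o2)

variable {H V : Type*} [Group H] [Group V] [MulDistribMulAction H V]

theorem NatAt.card_F {A B : Subgroup H} {F : Type} [Field F] {π : V → (Fin 2 → F)}
    {φ : ↥(A ⊔ B) →* Matrix.SpecialLinearGroup (Fin 2) F} (h : NatAt A B π φ) : Nat.card F = Nat.card A := by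
  have hex : ∀ c : F, ∃ a : A, φ ⟨a, mem_sup_left a.2⟩ = SLTwoUnipotent.u c := by
    intro c
    obtain ⟨x, hx⟩ := h.bij.2 (SLTwoUnipotent.u c)
    exact ⟨⟨x, (h.memA x).2 ⟨c, hx⟩⟩, hx⟩
  choose f hf using hex
  refine Nat.card_congr (Equiv.ofBijective f ⟨?_, ?_⟩)
  · intro c c' hcc
    have h1 := hf c
    rw [hcc, hf c'] at h1
    have h2 := congrArg (fun M : SpecialLinearGroup (Fin 2) F => M.1 0 1) h1
    simpa [SLTwoUnipotent.u] using h2.symm
  · intro a
    obtain ⟨c, hc⟩ := (h.memA ⟨a, mem_sup_left a.2⟩).1 a.2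
    refine ⟨c, Subtype.ext ?_⟩
    have h1 := h.bij.1 ((hf c).trans hc.symm)
    exact congrArg (fun z : ↥(A ⊔ B) => (z : H)) h1

/-- the product of two subgroups -/
def pr (hc : ∀ v w : V, v * w = w * v) (X Y : Subgroup V) : Subgroup V where
  carrier := {v | ∃ a ∈ X, ∃ b ∈ Y, v = a * b}
  one_mem' := ⟨1, one_mem _, 1, one_mem _, (mul_one 1).symm⟩
  mul_mem' := by
    rintro _ _ ⟨a, ha, b, hb, rfl⟩ ⟨a', ha', b', hb', rfl⟩
    refine ⟨a * a', mul_mem ha ha', b * b', mul_mem hb hb', ?_⟩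
    rw [mul_assoc, mul_assoc, ← mul_assoc b, hc b a', mul_assoc]
  inv_mem' := by
    rintro _ ⟨a, ha, b, hb, rfl⟩
    exact ⟨a⁻¹, inv_mem ha, b⁻¹, inv_mem hb, by rw [_root_.mul_inv_rev, hc]⟩

theorem mem_pr {hc : ∀ v w : V, v * w = w * v} {X Y : Subgroup V} {v : V} :
    v ∈ pr hc X Y ↔ ∃ a ∈ X, ∃ b ∈ Y, v = a * b := Iff.rfl

namespace Loc

variable {T : Sylow 2 H} {M : Subgroup H} {D : Set (Subgroup H)} {q : ℕ} {Q : Subgroup H} (h : Loc V T M D q Q)

/-- the kernel on the points -/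
def KK [Finite H] (h : Loc V T M D q Q) : Subgroup H where
  carrier := {n | n ∈ normalizer (Q : Set H) ∧ ∀ E, Th D Q E → ¬ Opp M Q E (cj n E)}
  one_mem' := ⟨one_mem _, fun E hE => by rw [cj_one]; exact h.same_refl hE⟩
  mul_mem' := by
    rintro n m ⟨hn, hn'⟩ ⟨hm, hm'⟩
    refine ⟨mul_mem hn hm, fun E hE => ?_⟩
    rw [← cj_cj]
    exact h.same_trans (hE.cj h.Dcj hm) (hm' E hE) (hn' _ (hE.cj h.Dcj hm))
  inv_mem' := by
    rintro n ⟨hn, hn'⟩
    refine ⟨inv_mem hn, fun E hE => ?_⟩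
    have h1 := hn' _ (hE.cj h.Dcj (inv_mem hn))
    rw [cj_cj_inv] at h1
    exact fun h2 => h1 h2.symm

theorem mem_KK [Finite H] {n : H} : n ∈ h.KK ↔ n ∈ normalizer (Q : Set H) ∧
    ∀ E, Th D Q E → ¬ Opp M Q E (cj n E) := Iff.rfl

theorem KK_le [Finite H] : h.KK ≤ normalizer (Q : Set H) := fun _ hx => hx.1

theorem normalizer_KK [Finite H] : normalizer (Q : Set H) ≤ normalizer (h.KK : Set H) := by
  have key : ∀ n ∈ normalizer (Q : Set H), h.KK ≤ cj n h.KK := by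
    intro n hn x hx
    rw [mem_cj, h.mem_KK]
    refine ⟨mul_mem (mul_mem (inv_mem hn) hx.1) hn, fun E hE h1 => ?_⟩
    have h2 := h1.cj hn
    rw [cj_cj] at h2
    have e : n * (n⁻¹ * x * n) = x * n := by group
    rw [e, ← cj_cj] at h2
    exact hx.2 _ (hE.cj h.Dcj hn) h2
  intro n hn
  rw [← cj_eq_iff]
  apply le_antisymm
  · rw [cj_le_iff]; exact key _ (inv_mem hn)
  · exact key _ hn

/-- the group generated by the members at the point of `A` -/
def EE (M Q : Subgroup H) (D : Set (Subgroup H)) (A : Subgroup H) : Subgroup H :=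
  sSup {A' | Th D Q A' ∧ ¬ Opp M Q A A'}

theorem le_EE {A A' : Subgroup H} (hA' : Th D Q A') (hs : ¬ Opp M Q A A') : A' ≤ EE M Q D A :=
  le_sSup (show A' ∈ {A' | Th D Q A' ∧ ¬ Opp M Q A A'} from ⟨hA', hs⟩)

include h

theorem EE_comm [Finite H] {A : Subgroup H} (hA : Th D Q A) : ∀ x ∈ EE M Q D A, ∀ y ∈ EE M Q D A, x * y = y * x := by
  have h1 : ∀ A' ∈ {A' | Th D Q A' ∧ ¬ Opp M Q A A'}, EE M Q D A ≤ centralizer (A' : Set H) := by
    rintro A' ⟨hA', hs⟩
    apply sSup_le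
    rintro A'' ⟨hA'', hs'⟩
    intro x hx
    rw [mem_centralizer_iff]
    intro a ha
    exact h.comm_same hA' hA'' (h.same_trans hA (fun h6 => hs h6.symm) hs') a ha x hx
  have h2 : EE M Q D A ≤ centralizer (EE M Q D A : Set H) := by
    apply sSup_le
    intro A' hA' a ha
    rw [mem_centralizer_iff]
    intro x hx
    exact (mem_centralizer_iff.1 (h1 A' hA' hx) a ha).symm
  intro x hx y hy
  exact (mem_centralizer_iff.1 (h2 hx) y hy).symm

theorem EE_sq [Finite H] {A : Subgroup H} (hA : Th D Q A) : ∀ x ∈ EE M Q D A, x * x = 1 := by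
  let K : Subgroup H :=
    { carrier := {x | x ∈ EE M Q D A ∧ x * x = 1}
      one_mem' := ⟨one_mem _, one_mul 1⟩
      mul_mem' := by
        rintro x y ⟨hx, hx'⟩ ⟨hy, hy'⟩
        refine ⟨mul_mem hx hy, ?_⟩
        rw [mul_assoc, ← mul_assoc y, h.EE_comm hA y hy x hx, mul_assoc x, hy', mul_one, hx']
      inv_mem' := by
        rintro x ⟨hx, hx'⟩
        refine ⟨inv_mem hx, ?_⟩
        rw [← _root_.mul_inv_rev, hx', inv_one] }
  have h1 : EE M Q D A ≤ K := by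
    apply sSup_le
    rintro A' ⟨hA', hs⟩ x hx
    exact ⟨le_EE hA' hs hx, h.sqA A' hA'.mem x hx⟩
  exact fun x hx => (h1 hx).2

theorem cj_EE [Finite H] {A : Subgroup H} {k : H} (hk : k ∈ h.KK) : cj k (EE M Q D A) ≤ EE M Q D A := by
  rw [cj_le_iff]
  apply sSup_le
  rintro A' ⟨hA', hs⟩
  rw [← cj_le_iff]
  exact le_EE (hA'.cj h.Dcj hk.1) (h.same_trans hA' hs (hk.2 A' hA'))

theorem le_o2_KK [Finite H] {A : Subgroup H} (hA : Th D Q A) : EE M Q D A ⊓ h.KK ≤ o2 h.KK := by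
  apply le_o2 inf_le_right
  · intro x
    refine ⟨1, Subtype.ext ?_⟩
    rw [pow_one, pow_two]
    exact h.EE_sq hA x x.2.1
  · intro k hk
    rw [← cj_eq_iff]
    have key : ∀ k ∈ h.KK, cj k (EE M Q D A ⊓ h.KK) ≤ EE M Q D A ⊓ h.KK := by
      intro k hk
      apply le_inf
      · exact (cj_mono inf_le_left).trans (h.cj_EE hk)
      · calc cj k (EE M Q D A ⊓ h.KK) ≤ cj k h.KK := cj_mono inf_le_right
          _ = h.KK := cj_eq_of_mem hk
    apply le_antisymm (key k hk)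
    have h1 := key _ (inv_mem hk)
    rw [cj_le_iff, inv_inv] at h1
    exact h1

/-- (C3) -/
theorem exists_KK [Finite H] [Finite V] {A A' : Subgroup H} (hA : Th D Q A) (hA' : Th D Q A')
    (hs : ¬ Opp M Q A A') (hne : A ≠ A') : ∃ a ∈ A, ∃ a' ∈ A', a' * a ∈ h.KK ∧ a' * a ≠ 1 := by
  obtain ⟨B, hB, hAB⟩ := h.exists_opp hA
  obtain ⟨a, ha, ha1⟩ := h.exists_ne hA.mem
  have hna : a ∈ normalizer (Q : Set H) := hA.norm ha
  have hB2 : Th D Q (cj a B) := hB.cj h.Dcj hna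
  have hs' : ¬ Opp M Q A' A := fun h1 => hs h1.symm
  have h1 : Opp M Q A (cj a B) := by
    have := hAB.cj hna
    rwa [cj_eq_of_mem ha] at this
  have h2 : Opp M Q A' (cj a B) := by
    by_contra h3
    exact h.same_trans hA' hs h3 h1
  have h3 : Opp M Q A' B := by
    by_contra h3
    exact h.same_trans hA' hs h3 hAB
  rcases h.point hA' hB2 h2 hB with h4 | ⟨a', ha', h4⟩
  · exact absurd h3.symm h4
  have hna' : a' ∈ normalizer (Q : Set H) := hA'.norm ha'
  rw [cj_cj] at h4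
  refine ⟨a, ha, a', ha', ?_, ?_⟩
  · rw [h.mem_KK]
    refine ⟨mul_mem hna' hna, fun E hE => ?_⟩
    have hx : a' * a ∈ normalizer (Q : Set H) := mul_mem hna' hna
    have hcA : ∀ a₁ ∈ A, a' * a * a₁ = a₁ * (a' * a) := by
      intro a₁ ha₁
      have e1 : a * a₁ = a₁ * a := h.comm4 A hA.mem A hA.mem A (h.isPGroup_A hA.mem) le_rfl le_rfl a ha a₁ ha₁
      have e2 : a₁ * a' = a' * a₁ := h.comm_same hA hA' hs a₁ ha₁ a' ha'
      rw [mul_assoc, e1, ← mul_assoc, ← e2, mul_assoc]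
    rcases h.point hA hB hAB hE with h5 | ⟨a₁, ha₁, h5⟩
    · have h6 : cj (a' * a) A = A := cj_of_comm hcA
      have h7 : ¬ Opp M Q A (cj (a' * a) E) := by
        intro h8
        have h9 := h8.cj (inv_mem hx)
        rw [cj_inv_cj] at h9
        rw [← h6, cj_inv_cj] at h9
        exact h5 h9.symm
      exact h.same_trans hA h5 h7
    · have hC : Th D Q (cj a₁ B) := hB.cj h.Dcj (hA.norm ha₁)
      have h6 : ¬ Opp M Q (cj (a' * a) E) (cj a₁ B) := by
        intro h7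
        -- conjugate by the inverse
        have h8 := h7.cj (inv_mem hx)
        rw [cj_inv_cj, cj_cj] at h8
        have e1 : (a' * a)⁻¹ * a₁ = a₁ * (a' * a)⁻¹ := by
          rw [inv_mul_eq_iff_eq_mul, ← mul_assoc, hcA a₁ ha₁, mul_assoc, mul_inv_cancel, mul_one]
        rw [e1, ← cj_cj] at h8
        -- `cj (a'a)⁻¹ B ~ B`
        have h9 : ¬ Opp M Q (cj a₁ B) (cj a₁ (cj (a' * a)⁻¹ B)) := by
          intro h10
          have h11 := h10.cj (inv_mem (hA.norm ha₁))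
          rw [cj_inv_cj, cj_inv_cj] at h11
          have h12 := h11.cj hx
          rw [cj_cj_inv] at h12
          exact h4 h12.symm
        exact h.same_trans hC h5 h9 h8
      exact h.same_trans hC h5 fun h7 => h6 h7.symm
  · intro h5
    apply hne
    have h6 : a' = a⁻¹ := eq_inv_of_mul_eq_one_left h5
    have h7 : a' ∈ A := h6 ▸ inv_mem ha
    have h8 : a' ≠ 1 := by
      rintro rfl
      exact ha1 (by rw [one_mul] at h5; exact h5)
    apply h.eq_of_fix hA.mem hA'.mem (h.comm_same hA hA' hs)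
    intro v hv
    exact h.ti A' hA'.mem a' ha' h8 v (hv a' h7)

end Loc

end Cfsg.Agent.Omega.FF.Glob

end

section


/-!
# The FF-theorem, global part (C): members of `Θ` with the same point are equal
-/

set_option autoImplicit false
set_option linter.unusedSectionVars false

namespace Cfsg.Agent.Omega.FF.Glob

open Subgroup Cfsg.Agent.ClassTwoFusion.Quad Cfsg.Agent.LieClassical Matrix
open scoped Pointwise
open Cfsg.Agent.ZN (o2 le_o2 isPGroup_o2 normalizer_le_normalizer_o2)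

variable {H V : Type*} [Group H] [Group V] [MulDistribMulAction H V]

/-- `v ↦ [v, x]` -/
def dH (hc : ∀ v w : V, v * w = w * v) (x : H) : V →* V :=
  MonoidHom.mk' (fun v => d x v) (fun v w => by
    show (x • (v * w)) * (v * w) = (x • v) * v * ((x • w) * w)
    rw [smul_mul', mul_assoc, mul_assoc, ← mul_assoc (x • w), hc (x • w) v, mul_assoc])

namespace Loc

variable {T : Sylow 2 H} {M : Subgroup H} {D : Set (Subgroup H)} {q : ℕ} {Q : Subgroup H} (h : Loc V T M D q Q)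
include h

theorem exists_sylow_cj [Finite H] {P : Subgroup H} (hP : IsPGroup 2 P) : ∃ g, P ≤ cj g (T : Subgroup H) := by
  have : Fact (Nat.Prime 2) := ⟨Nat.prime_two⟩
  obtain ⟨S, hS⟩ := hP.exists_le_sylow
  obtain ⟨g, hg⟩ := MulAction.exists_smul_eq H T S
  refine ⟨g, hS.trans (le_of_eq ?_)⟩
  rw [← hg]
  ext x
  rw [mem_cj, Sylow.coe_subgroup_smul, Subgroup.mem_pointwise_smul_iff_inv_smul_mem, ← map_inv, MulAut.smul_def,
    MulAut.conj_apply, inv_inv]

/-- a 2-group normalised by `A`, `B` and `Q` has a fixed point in `V` which is moved by `⟨A, B⟩` -/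
theorem exists_fix [Finite H] {A B P : Subgroup H} (hA : Th D Q A) (hAB : Opp M Q A B)
    (hP : IsPGroup 2 P) (hPn : normalizer (Q : Set H) ≤ normalizer (P : Set H)) :
    ∃ v : V, (∀ x ∈ P, x • v = v) ∧ ∃ l ∈ A ⊔ B, l • v ≠ v := by
  have h1 : A ⊔ Q ≤ normalizer (P : Set H) := sup_le (hA.norm.trans hPn) (le_normalizer.trans hPn)
  have h2 : IsPGroup 2 ((A ⊔ Q) ⊔ P : Subgroup H) := (h.isPGroup_AQ hA).to_sup_of_normal_right' hP h1
  obtain ⟨g, hg⟩ := h.exists_sylow_cj h2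
  obtain ⟨v₀, hv₀, x₀, hx₀⟩ := h.nfix
  have hfix : ∀ x ∈ cj g (T : Subgroup H), x • (g • v₀) = g • v₀ := by
    intro x hx
    rw [mem_cj] at hx
    have h3 := hv₀ _ hx
    have h4 := congrArg (fun w => g • w) h3
    simp only [← mul_smul] at h4
    have e : g * (g⁻¹ * x * g) = x * g := by group
    rw [e, mul_smul] at h4
    exact h4
  refine ⟨g • v₀, fun x hx => hfix x (hg (mem_sup_right hx)), ?_⟩
  by_contra hc
  push Not at hc
  have h3 : A ⊔ B ≤ MulAction.stabilizer H (g • v₀) := fun l hl => hc l hl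
  have h4 : cj g (T : Subgroup H) ≤ MulAction.stabilizer H (g • v₀) := fun l hl => hfix l hl
  rcases h.max (cj g⁻¹ (MulAction.stabilizer H (g • v₀))) (by rw [← cj_le_iff]; exact h4) with h5 | h5
  · rw [cj_le_iff, inv_inv] at h5
    exact hAB g (le_sup_left.trans (h3.trans h5)) (le_sup_right.trans (h3.trans h5))
      ((le_sup_right.trans (le_sup_left.trans hg)).trans (h4.trans h5))
  · have h6 : MulAction.stabilizer H (g • v₀) = ⊤ := by
      rw [eq_top_iff]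
      intro x _
      have h7 : g⁻¹ * x * g ∈ cj g⁻¹ (MulAction.stabilizer H (g • v₀)) := by rw [h5]; trivial
      rw [mem_cj, inv_inv] at h7
      have e : g * (g⁻¹ * x * g) * g⁻¹ = x := by group
      rwa [e] at h7
    apply hx₀
    have h7 : g * x₀ * g⁻¹ ∈ MulAction.stabilizer H (g • v₀) := by rw [h6]; trivial
    have h8 : (g * x₀ * g⁻¹) • (g • v₀) = g • v₀ := h7
    rw [← mul_smul, inv_mul_cancel_right, mul_smul] at h8
    exact smul_left_cancel g h8

/-- `V = C_V(P) C_V(⟨A, B⟩)` -/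
theorem decomp {A B P : Subgroup H} (hA : Th D Q A) (hB : Th D Q B) (hAB : Opp M Q A B)
    (hPn : A ⊔ B ≤ normalizer (P : Set H)) {v₀ : V} (h0 : ∀ x ∈ P, x • v₀ = v₀) (h0' : ∃ l ∈ A ⊔ B, l • v₀ ≠ v₀)
    (v : V) : ∃ a : V, (∀ x ∈ P, x • a = a) ∧ ∃ b : V, (∀ l ∈ A ⊔ B, l • b = b) ∧ v = a * b := by
  obtain ⟨F, _, _, π, φ, hn⟩ := h.nat2 hA hB hAB
  have h1 : pr h.comm (cv V (P : Set H)) (cv V ((A ⊔ B : Subgroup H) : Set H)) = ⊤ := by
    apply hn.irr (v := v₀)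
    · rintro l hl _ ⟨a, ha, b, hb, rfl⟩
      refine ⟨l • a, ?_, l • b, ?_, smul_mul' _ _ _⟩
      · intro x hx
        have h2 : l⁻¹ * x * l ∈ P := by
          have := (mem_normalizer_iff.1 (hPn (inv_mem hl)) x).1 hx
          rwa [inv_inv] at this
        have h3 := ha _ h2
        have h4 := congrArg (fun w => l • w) h3
        simp only [← mul_smul] at h4
        have e : l * (l⁻¹ * x * l) = x * l := by group
        rw [e, mul_smul] at h4
        exact h4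
      · rw [hb l hl]; exact hb
    · intro v hv
      exact ⟨1, one_mem _, v, hv, (one_mul v).symm⟩
    · exact ⟨v₀, h0, 1, one_mem _, (mul_one v₀).symm⟩
    · exact h0'
  have h2 : v ∈ pr h.comm (cv V (P : Set H)) (cv V ((A ⊔ B : Subgroup H) : Set H)) := by rw [h1]; trivial
  obtain ⟨a, ha, b, hb, e⟩ := h2
  exact ⟨a, ha, b, hb, e⟩

theorem same_eq [Finite H] [Finite V] {A A' : Subgroup H} (hA : Th D Q A) (hA' : Th D Q A')
    (hs : ¬ Opp M Q A A') : A = A' := by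
  by_contra hne
  obtain ⟨a, ha, a', ha', hx, hx1⟩ := h.exists_KK hA hA' hs hne
  obtain ⟨B, hB, hAB⟩ := h.exists_opp hA
  have hA'B : Opp M Q A' B := by
    by_contra h1
    exact h.same_trans hA' hs h1 hAB
  set x := a' * a with hxdef
  have haE : a ∈ EE M Q D A := le_EE hA (h.same_refl hA) ha
  have haE' : a' ∈ EE M Q D A := le_EE hA' hs ha'
  have hxE : x ∈ EE M Q D A := mul_mem haE' haE
  have hxx : x * x = 1 := h.EE_sq hA x hxE
  have hxP : x ∈ o2 h.KK := h.le_o2_KK hA ⟨hxE, hx⟩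
  have hPn : normalizer (Q : Set H) ≤ normalizer (o2 h.KK : Set H) :=
    h.normalizer_KK.trans (normalizer_le_normalizer_o2 _)
  have hLn : A ⊔ B ≤ normalizer (o2 h.KK : Set H) := (h.sup_le_norm hA hB).trans hPn
  obtain ⟨v₀, hv₀, hv₀'⟩ := h.exists_fix (B := B) hA hAB (isPGroup_o2 h.KK) hPn
  have hdec := h.decomp hA hB hAB hLn hv₀ hv₀'
  -- `[v, x] ∈ [V, a']`
  have hdx : ∀ v : V, ∃ w : V, (∀ l ∈ A ⊔ B, l • w = w) ∧ d x v = d x w ∧ d x w = d a' w := by
    intro v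
    obtain ⟨v₁, hv₁, w, hw, rfl⟩ := hdec v
    refine ⟨w, hw, ?_, ?_⟩
    · rw [h.d_mul, (h.d_eq_one x v₁).2 (hv₁ x hxP), one_mul]
    · rw [d, d, hxdef, mul_smul, hw a (mem_sup_left ha)]
  -- `|V : C_V(x)| ≤ q`
  have hidx : (dH h.comm x).ker.index ≤ q := by
    rw [Subgroup.index_ker]
    have h1 : (dH h.comm x).range ≤ (dH h.comm a').range := by
      rintro _ ⟨v, rfl⟩
      obtain ⟨w, -, e1, e2⟩ := hdx v
      exact ⟨w, (e1.trans e2).symm⟩
    refine (Subgroup.card_le_of_le h1).trans ?_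
    rw [← Subgroup.index_ker]
    have h2 : (dH h.comm a').ker = cv V (A' : Set H) := by
      have ha'1 : a' ≠ 1 := by
        rintro h3
        -- `x = a`, but `[V, x] ≤ [V, 1]`
        obtain ⟨v, hv⟩ := h.exists_mv hx1
        apply hv
        obtain ⟨w, -, e1, e2⟩ := hdx v
        rw [← h.d_eq_one, e1, e2, h3, h.d_eq_one, one_smul]
      ext v
      constructor
      · intro hv
        have h3 : d a' v = 1 := hv
        exact h.ti A' hA'.mem a' ha' ha'1 v ((h.d_eq_one a' v).1 h3)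
      · intro hv
        exact (h.d_eq_one a' v).2 (hv a' ha')
    rw [h2, h.idx A' hA'.mem]
  -- the closure of `x` under `⟨A, B⟩`
  set κ : Subgroup H := closure {y | ∃ l ∈ A ⊔ B, y = l * x * l⁻¹} with hκ
  have hgen : ∀ l ∈ A ⊔ B, l * x * l⁻¹ ∈ κ := fun l hl => subset_closure ⟨l, hl, rfl⟩
  have hfixall : ∀ k ∈ κ, ∀ v : V, x • v = v → k • v = v := by
    intro k hk v hv
    have h1 : κ ≤ MulAction.stabilizer H v := by
      rw [hκ, closure_le]
      rintro _ ⟨l, hl, rfl⟩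
      show (l * x * l⁻¹) • v = v
      have hyP : l * x * l⁻¹ ∈ o2 h.KK := (mem_normalizer_iff.1 (hLn hl) x).1 hxP
      obtain ⟨v₁, hv₁, w, hw, rfl⟩ := hdec v
      rw [smul_mul', hv₁ _ hyP]
      rw [smul_mul', hv₁ x hxP] at hv
      have h2 : x • w = w := mul_left_cancel hv
      rw [mul_smul, mul_smul, hw _ (inv_mem hl), h2, hw l hl]
    exact h1 hk
  have hκn : ∀ l ∈ A ⊔ B, ∀ k ∈ κ, l * k * l⁻¹ ∈ κ := by
    intro l hl
    have h1 : κ ≤ cj l⁻¹ κ := by
      rw [hκ, closure_le]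
      rintro _ ⟨m, hm, rfl⟩
      show _ ∈ cj l⁻¹ κ
      rw [mem_cj, inv_inv]
      have e : l * (m * x * m⁻¹) * l⁻¹ = (l * m) * x * (l * m)⁻¹ := by group
      rw [e]
      exact hgen _ (mul_mem hl hm)
    intro k hk
    have h2 := h1 hk
    rwa [mem_cj, inv_inv] at h2
  have hquad : ∀ k ∈ κ, ∀ v : V, x • d k v = d k v := by
    intro k hk
    rw [hκ] at hk
    refine closure_induction (p := fun k _ => ∀ v : V, x • d k v = d k v) ?_ ?_ ?_ ?_ hk
    · rintro _ ⟨l, hl, rfl⟩ v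
      have e1 : d (l * x * l⁻¹) v = l • d x (l⁻¹ • v) := by
        rw [d, d, smul_mul', ← mul_smul, ← mul_smul, ← mul_smul, mul_inv_cancel, one_smul]
      have e2 : x • d x (l⁻¹ • v) = d x (l⁻¹ • v) := by
        rw [d, smul_mul', ← mul_smul x x, hxx, one_smul, h.comm]
      rw [e1]
      have h3 := hfixall _ (by simpa using hgen _ (inv_mem hl) : l⁻¹ * x * l ∈ κ) _ e2
      have h4 := congrArg (fun w => l • w) h3
      simp only [← mul_smul] at h4
      have e : l * (l⁻¹ * x * l) = x * l := by group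
      rw [e, mul_smul] at h4
      exact h4
    · intro v
      rw [(h.d_eq_one 1 v).2 (one_smul _ _), smul_one]
    · intro k k' hk hk' hp hp' v
      have e1 : d (k * k') v = d k' v * d k v := by
        rw [d, mul_smul, h.smul_eq k' v, smul_mul', hfixall k hk _ (hp' v), h.smul_eq k v, mul_assoc, mul_assoc,
          h.sq, mul_one]
      rw [e1, smul_mul', hp, hp']
    · intro k hk hp v
      have e0 : k • d k⁻¹ v = d k v := by
        rw [d, smul_mul', ← mul_smul, mul_inv_cancel, one_smul, h.comm]; rfl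
      have e1 : d k⁻¹ v = d k v := by
        have h5 := hfixall k⁻¹ (inv_mem hk) _ (hp v)
        rw [← h5, ← e0, ← mul_smul, inv_mul_cancel, one_smul]
      rw [e1, hp]
  have hmul : ∀ k ∈ κ, ∀ k' ∈ κ, ∀ v : V, d (k * k') v = d k' v * d k v := by
    intro k hk k' hk' v
    rw [d, mul_smul, h.smul_eq k' v, smul_mul', hfixall k hk _ (hquad k' hk' v), h.smul_eq k v, mul_assoc,
      mul_assoc, h.sq, mul_one]
  have hκsq : ∀ k ∈ κ, k * k = 1 := by
    intro k hk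
    apply h.faith
    intro v
    rw [← h.d_eq_one, hmul k hk k hk, h.sq]
  have hxκ : x ∈ κ := by
    have := hgen 1 (one_mem _)
    rwa [one_mul, inv_one, mul_one] at this
  have hcard : Nat.card κ ≤ q := by
    refine (h.noover κ hκsq).trans ?_
    refine le_trans (le_of_eq ?_) hidx
    congr 1
    ext v
    constructor
    · intro hv
      exact (h.d_eq_one x v).2 (hv x hxκ)
    · intro hv
      have h3 : d x v = 1 := hv
      exact fun k hk => hfixall k hk v ((h.d_eq_one x v).1 h3)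
  -- lower bound
  obtain ⟨F, _, _, π, φ, hn⟩ := h.nat2 hA hB hAB
  obtain ⟨v, hv⟩ := h.exists_mv hx1
  obtain ⟨w, hw, e1, e2⟩ := hdx v
  have hxw : x • w ≠ w := by
    intro h1
    apply hv
    rw [← h.d_eq_one, e1, h.d_eq_one]
    exact h1
  let U : Subgroup V :=
    { carrier := {u | ∃ k ∈ κ, π u = π (d k w)}
      one_mem' := ⟨1, one_mem _, by rw [(h.d_eq_one 1 w).2 (one_smul _ _)]⟩
      mul_mem' := by
        rintro u u' ⟨k, hk, hu⟩ ⟨k', hk', hu'⟩
        exact ⟨k' * k, mul_mem hk' hk, by rw [hmul k' hk' k hk, hn.mul, hn.mul, hu, hu']⟩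
      inv_mem' := by
        rintro u ⟨k, hk, hu⟩
        refine ⟨k, hk, ?_⟩
        rw [h.inv_eq]
        exact hu }
  have hU : U = ⊤ := by
    apply hn.irr (v := d x w)
    · rintro l hl u ⟨k, hk, hu⟩
      refine ⟨l * k * l⁻¹, hκn l hl k hk, ?_⟩
      have e3 : d (l * k * l⁻¹) w = l • d k w := by
        rw [d, d, smul_mul', mul_smul, mul_smul, hw _ (inv_mem hl), hw l hl]
      rw [e3, hn.act ⟨l, hl⟩ u, hn.act ⟨l, hl⟩ (d k w), hu]
    · intro u hu
      exact ⟨1, one_mem _, by rw [(h.d_eq_one 1 w).2 (one_smul _ _), hn.pi_one]; exact (hn.ker u).2 hu⟩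
    · exact ⟨x, hxκ, rfl⟩
    · have h3 : a' • w ≠ w := by
        intro h4
        apply hxw
        rw [← h.d_eq_one, e2, h.d_eq_one]
        exact h4
      have h5 := h.star hA' hB hA'B ha' h3
      push Not at h5
      obtain ⟨b, hb, hbw⟩ := h5
      exact ⟨b, mem_sup_right hb, by rw [e2]; exact hbw⟩
  have hsurj : Function.Surjective (fun k : κ => π (d (k : H) w)) := by
    intro z
    obtain ⟨u, rfl⟩ := hn.surj z
    have h3 : u ∈ U := by rw [hU]; trivial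
    obtain ⟨k, hk, hu⟩ := h3
    exact ⟨⟨k, hk⟩, hu.symm⟩
  have h3 : Nat.card (Fin 2 → F) ≤ Nat.card κ := Nat.card_le_card_of_surjective _ hsurj
  have h4 : Nat.card (Fin 2 → F) = q ^ 2 := by
    rw [Nat.card_fun, hn.card_F, h.card A hA.mem, Nat.card_eq_fintype_card, Fintype.card_fin]
  have := h.two_le
  nlinarith

end Loc

end Cfsg.Agent.Omega.FF.Glob

end
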