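import Mathlib
import Cfsg.Agent.Lib.Cores
import Cfsg.Agent.Lib.SylowNormalInf
import Cfsg.Agent.Lib.PGroupFixedVector
import Cfsg.Agent.ClassTwoFusion.SL2Field

section


/-!
# The transvection half of the FF-theorem for minimal parabolics: transvections over `𝔽₂`

helper670, OMEGA / FF, paper text bb #11436.
Elementary calculus of transvections over `𝔽₂` in a group `H` acting by `ρ` on a module `V`.
-/

namespace Cfsg.Agent.Omega.Tv

variable {H : Type*} [Group H] {V : Type*} [AddCommGroup V] [Module (ZMod 2) V]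
  {ρ : H →* (V ≃ₗ[ZMod 2] V)}

theorem z2 (a : ZMod 2) : a = 0 ∨ a = 1 := by revert a; decide

theorem z2_ne_zero {a : ZMod 2} (h : a ≠ 0) : a = 1 := (z2 a).resolve_left h

theorem z2_ne_one {a : ZMod 2} (h : a ≠ 1) : a = 0 := (z2 a).resolve_right h

theorem z2_add_self (a : ZMod 2) : a + a = 0 := by revert a; decide

theorem v_add_self (v : V) : v + v = 0 := ZModModule.add_self v

theorem v_eq_of_add {v w : V} (h : v + w = 0) : v = w := by
  have := congrArg (· + w) h
  simpa [add_assoc, v_add_self] using this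

theorem rmul (ρ : H →* (V ≃ₗ[ZMod 2] V)) (g h : H) (v : V) : ρ (g * h) v = ρ g (ρ h v) := by
  rw [map_mul]; rfl

theorem rone (ρ : H →* (V ≃ₗ[ZMod 2] V)) (v : V) : ρ 1 v = v := by
  rw [map_one]; rfl

theorem rinv (ρ : H →* (V ≃ₗ[ZMod 2] V)) (g : H) (v : V) : ρ g⁻¹ (ρ g v) = v := by
  rw [← rmul, inv_mul_cancel, rone]

theorem rinv' (ρ : H →* (V ≃ₗ[ZMod 2] V)) (g : H) (v : V) : ρ g (ρ g⁻¹ v) = v := by
  rw [← rmul, mul_inv_cancel, rone]

/-- The stabiliser of a vector. -/
def stv (ρ : H →* (V ≃ₗ[ZMod 2] V)) (v : V) : Subgroup H where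
  carrier := {g | ρ g v = v}
  one_mem' := rone ρ v
  mul_mem' := by
    intro a b ha hb
    show ρ (a * b) v = v
    rw [rmul, show ρ b v = v from hb]; exact ha
  inv_mem' := by
    intro a ha
    show ρ a⁻¹ v = v
    conv_lhs => rw [← show ρ a v = v from ha]
    exact rinv ρ a v

/-- The stabiliser of a functional. -/
def stf (ρ : H →* (V ≃ₗ[ZMod 2] V)) (s : V → ZMod 2) : Subgroup H where
  carrier := {g | ∀ v, s (ρ g v) = s v}
  one_mem' := fun v => by rw [rone]
  mul_mem' := by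
    intro a b ha hb v
    rw [rmul, ha, hb]
  inv_mem' := by
    intro a ha v
    rw [← ha (ρ a⁻¹ v), rinv']

/-- `g` acts as the transvection `v ↦ v + f v • c`. -/
structure IsTr (ρ : H →* (V ≃ₗ[ZMod 2] V)) (g : H) (c : V) (f : V →ₗ[ZMod 2] ZMod 2) :
    Prop where
  fc : f c = 0
  c_ne : c ≠ 0
  f_ne : f ≠ 0
  act : ∀ v, ρ g v = v + f v • c

namespace IsTr

variable {g : H} {c c' : V} {f f' : V →ₗ[ZMod 2] ZMod 2}

theorem exists_one (h : IsTr ρ g c f) : ∃ v, f v = 1 := by
  by_contra hcon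
  push Not at hcon
  exact h.f_ne (LinearMap.ext fun v => by simpa using z2_ne_one (hcon v))

theorem c_unique (h : IsTr ρ g c f) (h' : IsTr ρ g c' f') : c = c' := by
  obtain ⟨v, hv⟩ := h.exists_one
  have h1 := h.act v
  rw [h'.act v, hv, one_smul] at h1
  have h2 : f' v • c' = c := add_left_cancel h1
  rcases z2 (f' v) with h3 | h3
  · rw [h3, zero_smul] at h2
    exact absurd h2.symm h.c_ne
  · rw [h3, one_smul] at h2
    exact h2.symm

theorem f_unique (h : IsTr ρ g c f) (h' : IsTr ρ g c' f') : f = f' := by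
  have hc := h.c_unique h'
  subst hc
  refine LinearMap.ext fun v => ?_
  have h1 := h.act v
  rw [h'.act v] at h1
  have h2 : f' v • c = f v • c := add_left_cancel h1
  rcases z2 (f' v) with h3 | h3 <;> rcases z2 (f v) with h4 | h4
  · rw [h3, h4]
  · rw [h3, h4, zero_smul, one_smul] at h2
    exact absurd h2.symm h.c_ne
  · rw [h3, h4, zero_smul, one_smul] at h2
    exact absurd h2 h.c_ne
  · rw [h3, h4]

theorem conj (h : IsTr ρ g c f) (y : H) :
    IsTr ρ (y * g * y⁻¹) (ρ y c) (f.comp (ρ y⁻¹ : V →ₗ[ZMod 2] V)) where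
  fc := by
    show f (ρ y⁻¹ (ρ y c)) = 0
    rw [rinv, h.fc]
  c_ne := by
    intro h0
    apply h.c_ne
    rw [← rinv ρ y c, h0, map_zero]
  f_ne := by
    intro h0
    obtain ⟨v, hv⟩ := h.exists_one
    have h1 : f (ρ y⁻¹ (ρ y v)) = 0 := by
      have := congrArg (fun F : V →ₗ[ZMod 2] ZMod 2 => F (ρ y v)) h0
      exact this
    rw [rinv, hv] at h1
    exact one_ne_zero h1
  act := by
    intro v
    rw [rmul, rmul, h.act, map_add, rinv', map_smul]
    rfl

end IsTr

/-- An `H`-class `E` of transvections `x : v ↦ v + f x v • c x` of a faithful `𝔽₂H`-module. -/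
structure Sys (ρ : H →* (V ≃ₗ[ZMod 2] V)) (E : Set H) (c : H → V)
    (f : H → V →ₗ[ZMod 2] ZMod 2) : Prop where
  tr : ∀ x ∈ E, IsTr ρ x (c x) (f x)
  conj : ∀ x ∈ E, ∀ g : H, g * x * g⁻¹ ∈ E
  tra : ∀ x ∈ E, ∀ y ∈ E, ∃ g, y = g * x * g⁻¹
  ne : E.Nonempty
  inj : Function.Injective ρ

namespace Sys

variable {E : Set H} {c : H → V} {f : H → V →ₗ[ZMod 2] ZMod 2} (S : Sys ρ E c f)

include S

theorem act {x : H} (hx : x ∈ E) (v : V) : ρ x v = v + f x v • c x := (S.tr x hx).act v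

theorem pself {x : H} (hx : x ∈ E) : f x (c x) = 0 := (S.tr x hx).fc

theorem c_conj {x : H} (hx : x ∈ E) (g : H) : c (g * x * g⁻¹) = ρ g (c x) :=
  (S.tr _ (S.conj x hx g)).c_unique ((S.tr x hx).conj g)

theorem f_conj {x : H} (hx : x ∈ E) (g : H) (v : V) :
    f (g * x * g⁻¹) v = f x (ρ g⁻¹ v) := by
  rw [(S.tr _ (S.conj x hx g)).f_unique ((S.tr x hx).conj g)]
  rfl

theorem p_conj {x y : H} (hx : x ∈ E) (hy : y ∈ E) (g : H) :
    f (g * x * g⁻¹) (c (g * y * g⁻¹)) = f x (c y) := by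
  rw [S.f_conj hx, S.c_conj hy, rinv]

theorem eq_of_act {x y : H} (h : ∀ v, ρ x v = ρ y v) : x = y :=
  S.inj (LinearEquiv.ext h)

theorem eq_one_of_act {x : H} (h : ∀ v, ρ x v = v) : x = 1 :=
  S.eq_of_act fun v => by rw [h, rone]

theorem sq {x : H} (hx : x ∈ E) : x * x = 1 := by
  apply S.eq_one_of_act
  intro v
  rw [rmul, S.act hx, S.act hx, map_add, map_smul, S.pself hx, smul_zero, add_zero, add_assoc,
    v_add_self, add_zero]

theorem inv {x : H} (hx : x ∈ E) : x⁻¹ = x := inv_eq_of_mul_eq_one_left (S.sq hx)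

theorem ne_one {x : H} (hx : x ∈ E) : x ≠ 1 := by
  rintro rfl
  obtain ⟨v, hv⟩ := (S.tr 1 hx).exists_one
  have := S.act hx v
  rw [rone, hv, one_smul] at this
  exact (S.tr 1 hx).c_ne (by simpa using this.symm)

theorem c_conj' {x y : H} (hx : x ∈ E) (hy : y ∈ E) :
    c (y * x * y⁻¹) = c x + f y (c x) • c y := by
  rw [S.c_conj hx, S.act hy]

theorem f_conj' {x y : H} (hx : x ∈ E) (hy : y ∈ E) (v : V) :
    f (y * x * y⁻¹) v = f x v + f y v * f x (c y) := by
  rw [S.f_conj hx, S.inv hy, S.act hy, map_add, map_smul, smul_eq_mul]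

theorem ext' {x y : H} (hx : x ∈ E) (hy : y ∈ E) (hc : c x = c y) (hf : ∀ v, f x v = f y v) :
    x = y :=
  S.eq_of_act fun v => by rw [S.act hx, S.act hy, hc, hf]

theorem comm_of {x y : H} (hx : x ∈ E) (hy : y ∈ E) (h1 : f x (c y) = 0) (h2 : f y (c x) = 0) :
    y * x = x * y := by
  have : y * x * y⁻¹ = x := by
    apply S.ext' (S.conj x hx y) hx
    · rw [S.c_conj' hx hy, h2, zero_smul, add_zero]
    · intro v
      rw [S.f_conj' hx hy, h1, mul_zero, add_zero]
  rw [mul_inv_eq_iff_eq_mul] at this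
  exact this

theorem braid_of {x y : H} (hx : x ∈ E) (hy : y ∈ E) (h1 : f x (c y) = 1) (h2 : f y (c x) = 1) :
    y * x * y⁻¹ = x * y * x⁻¹ := by
  apply S.ext' (S.conj x hx y) (S.conj y hy x)
  · rw [S.c_conj' hx hy, S.c_conj' hy hx, h1, h2, one_smul, one_smul, add_comm]
  · intro v
    rw [S.f_conj' hx hy, S.f_conj' hy hx, h1, h2, mul_one, mul_one, add_comm]

/-- A commuting pair has zero pairings. -/
theorem p_of_comm {x y : H} (hx : x ∈ E) (hy : y ∈ E) (h : y * x = x * y) :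
    f y (c x) = 0 := by
  have h1 : y * x * y⁻¹ = x := by rw [h, mul_inv_cancel_right]
  have h2 := S.c_conj' hx hy
  rw [h1] at h2
  rcases z2 (f y (c x)) with h3 | h3
  · exact h3
  · rw [h3, one_smul] at h2
    exact absurd (by simpa using h2.symm) (S.tr y hy).c_ne

end Sys

end Cfsg.Agent.Omega.Tv

end

section


/-!
# The transvection half of the FF-theorem for minimal parabolics: the core

helper670, OMEGA / FF, paper text bb #11436.

`H` finite, `T` a Sylow `2`-subgroup, `M` the unique maximal subgroup over `T`, `O_2(H) = 1`, `V` a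
faithful `𝔽₂H`-module with `C_V(H) = 0`, `E` a conjugacy class of transvections,
`Δ = E ∖ M`.  Then two members of `Δ` are equal, commute or generate `S_3`; "equal or not
commuting" is an equivalence relation on `Δ`; `T` is transitive on `Δ`; `⟨Δ⟩ = ⟨E⟩`.
-/

namespace Cfsg.Agent.Omega.Tv

open Subgroup Cfsg

variable {H : Type*} [Group H] {V : Type*} [AddCommGroup V] [Module (ZMod 2) V]
  {ρ : H →* (V ≃ₗ[ZMod 2] V)}

/-! ### Group-theoretic preliminaries -/

theorem mem_normalizer_of_conj [Finite H] {K : Subgroup H} {g : H}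
    (h : ∀ k ∈ K, g * k * g⁻¹ ∈ K) : g ∈ normalizer (K : Set H) := by
  have h1 : K.map (MulAut.conj g).toMonoidHom ≤ K := by
    rintro _ ⟨k, hk, rfl⟩
    simpa using h k hk
  have h2 : K.map (MulAut.conj g).toMonoidHom = K := by
    apply Subgroup.eq_of_le_of_card_ge h1
    exact (Nat.card_congr
      (K.equivMapOfInjective _ (MulAut.conj g).injective).toEquiv).le
  rw [mem_normalizer_iff]
  intro k
  constructor
  · exact h k
  · intro hk
    rw [← h2] at hk
    obtain ⟨k', hk', he⟩ := hk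
    have : g * k' * g⁻¹ = g * k * g⁻¹ := by simpa using he
    have h3 : k' = k := by simpa using this
    rwa [← h3]

theorem conj_closure {A : Set H} {g : H} (h : ∀ a ∈ A, g * a * g⁻¹ ∈ closure A) :
    ∀ k ∈ closure A, g * k * g⁻¹ ∈ closure A := by
  intro k hk
  induction hk using closure_induction with
  | mem x hx => exact h x hx
  | one => simp
  | mul x y _ _ hx hy =>
    have : g * (x * y) * g⁻¹ = (g * x * g⁻¹) * (g * y * g⁻¹) := by group
    rw [this]; exact mul_mem hx hy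
  | inv x _ hx =>
    have : g * x⁻¹ * g⁻¹ = (g * x * g⁻¹)⁻¹ := by group
    rw [this]; exact inv_mem hx

theorem conj_notM {M : Subgroup H} {a m : H} (haM : a ∉ M) (hm : m ∈ M) : m * a * m⁻¹ ∉ M := by
  intro hn
  apply haM
  have : m⁻¹ * (m * a * m⁻¹) * m = a := by group
  rw [← this]
  exact mul_mem (mul_mem (inv_mem hm) hn) hm

theorem invT {T : Sylow 2 H} {t : H} (ht : t ∈ T) : t⁻¹ ∈ T :=
  (T : Subgroup H).inv_mem ht

theorem conjT {T : Sylow 2 H} {t e : H} (ht : t ∈ T) (he : e ∈ T) : t * e * t⁻¹ ∈ T :=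
  (T : Subgroup H).mul_mem ((T : Subgroup H).mul_mem ht he) ((T : Subgroup H).inv_mem ht)

theorem syl_conj [Finite H] (T : Sylow 2 H) {P : Subgroup H} (hP : IsPGroup 2 P) :
    ∃ g : H, ∀ x ∈ P, g * x * g⁻¹ ∈ T := by
  obtain ⟨Q, hQ⟩ := hP.exists_le_sylow
  obtain ⟨g, hg⟩ := MulAction.exists_smul_eq H Q T
  refine ⟨g, fun x hx => ?_⟩
  have h1 : g * x * g⁻¹ ∈ (g • Q : Sylow 2 H) := by
    have := Subgroup.smul_mem_pointwise_smul x (MulAut.conj g) (Q : Subgroup H) (hQ hx)
    rw [← Sylow.coe_subgroup_smul] at this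
    have h2 : g * x * g⁻¹ ∈ ((g • Q : Sylow 2 H) : Subgroup H) := by simpa using this
    exact h2
  rwa [hg] at h1

theorem syl_conj_in [Finite H] (T : Sylow 2 H) {M P : Subgroup H} (hTM : (T : Subgroup H) ≤ M)
    (hPM : P ≤ M) (hP : IsPGroup 2 P) : ∃ g ∈ M, ∀ x ∈ P, g * x * g⁻¹ ∈ T := by
  have hP' : IsPGroup 2 (P.subgroupOf M) := hP.comap_of_injective _ M.subtype_injective
  obtain ⟨g, hg⟩ := syl_conj (T.subtype hTM) hP'
  refine ⟨g, g.2, fun x hx => ?_⟩
  have h1 := hg ⟨x, hPM hx⟩ (by rw [mem_subgroupOf]; exact hx)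
  exact h1

theorem zpowers_two {x : H} (hx : x * x = 1) : IsPGroup 2 (zpowers x) := by
  rintro ⟨y, hy⟩
  obtain ⟨k, rfl⟩ := mem_zpowers_iff.mp hy
  refine ⟨1, Subtype.ext ?_⟩
  show (x ^ k) ^ (2 ^ 1) = 1
  rw [pow_one, ← zpow_natCast, ← zpow_mul, mul_comm, zpow_mul]
  have : x ^ ((2 : ℕ) : ℤ) = 1 := by rw [zpow_natCast, pow_two, hx]
  rw [this, one_zpow]

theorem bot_of_sub {N Q : Subgroup H} (hN : N.Normal) (hQN : Q ≤ N)
    (hQn : ∀ n ∈ N, ∀ q ∈ Q, n * q * n⁻¹ ∈ Q) (hQ : IsPGroup 2 Q) (ho : pCore 2 H = ⊥) :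
    Q = ⊥ := by
  have h1 : (Q.subgroupOf N).Normal := ⟨fun q hq n => by
    rw [mem_subgroupOf] at hq ⊢
    exact hQn n n.2 q hq⟩
  have h2 : Q.subgroupOf N ≤ pCore 2 N :=
    Lib.Cores.le_pCore h1 (hQ.comap_of_injective _ N.subtype_injective)
  have h3 := Subgroup.map_mono (f := N.subtype) h2
  rw [Lib.Cores.map_subtype_pCore 2 hN, ho, inf_bot_eq, subgroupOf_map_subtype,
    inf_of_le_left hQN] at h3
  exact le_bot_iff.mp h3

theorem exists_fixed (ρ : H →* (V ≃ₗ[ZMod 2] V)) {T : Subgroup H} [Finite T]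
    (hT : IsPGroup 2 T) (U : AddSubgroup V) (hU : ∀ t ∈ T, ∀ u ∈ U, ρ t u ∈ U) {v : V}
    (hv : v ∈ U) (hv0 : v ≠ 0) : ∃ w ∈ U, w ≠ 0 ∧ ∀ t ∈ T, ρ t w = w := by
  let _ : DistribMulAction T V :=
    { smul := fun t v => ρ t v
      one_smul := fun v => rone ρ v
      mul_smul := fun s t v => rmul ρ s t v
      smul_zero := fun t => map_zero (ρ t)
      smul_add := fun t v w => map_add (ρ t) v w }
  obtain ⟨w, hw, hw0, h⟩ := Lib.PGroupFixedVector.exists_mem_ne_zero_fixed (p := 2) hT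
    (fun a => by rw [two_nsmul, v_add_self]) U (fun g b hb => hU g g.2 b hb) hv hv0
  exact ⟨w, hw, hw0, fun t ht => h ⟨t, ht⟩⟩

namespace Sys

variable {E : Set H} {c : H → V} {f : H → V →ₗ[ZMod 2] ZMod 2} (S : Sys ρ E c f)

include S

/-- Two transvections with the same centre inside a normal subgroup `N` fixing the difference of
their axes are equal. -/
theorem eq_of_c (ho : pCore 2 H = ⊥) {N : Subgroup H} (hN : N.Normal) {x y : H} (hx : x ∈ E)
    (hy : y ∈ E) (hxN : x ∈ N) (hyN : y ∈ N) (hc : c x = c y)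
    (hs : ∀ n ∈ N, ∀ v, f x (ρ n v) + f y (ρ n v) = f x v + f y v) : x = y := by
  set s : V →ₗ[ZMod 2] ZMod 2 := f x + f y with hsdef
  have hsn : ∀ n ∈ N, ∀ v, s (ρ n v) = s v := fun n hn v => hs n hn v
  let Q : Subgroup H :=
    { carrier := {g | g ∈ N ∧ ∃ w, s w = 0 ∧ ∀ v, ρ g v = v + s v • w}
      one_mem' := ⟨one_mem _, 0, map_zero _, fun v => by rw [rone, smul_zero, add_zero]⟩
      mul_mem' := by
        rintro a b ⟨ha, w, hw, haw⟩ ⟨hb, w', hw', hbw⟩
        refine ⟨mul_mem ha hb, w + w', by rw [map_add, hw, hw', add_zero], fun v => ?_⟩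
        rw [rmul, hbw, haw, map_add, map_smul, hw', smul_zero, add_zero, smul_add]
        abel
      inv_mem' := by
        rintro a ⟨ha, w, hw, haw⟩
        have : a * a = 1 := by
          apply S.eq_one_of_act
          intro v
          rw [rmul, haw, haw, map_add, map_smul, hw, smul_zero, add_zero, add_assoc, v_add_self,
            add_zero]
        rw [inv_eq_of_mul_eq_one_left this]
        exact ⟨ha, w, hw, haw⟩ }
  have hQN : Q ≤ N := fun g hg => hg.1
  have hQn : ∀ n ∈ N, ∀ q ∈ Q, n * q * n⁻¹ ∈ Q := by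
    rintro n hn q ⟨hq, w, hw, hqw⟩
    refine ⟨mul_mem (mul_mem hn hq) (inv_mem hn), ρ n w, by rw [hsn n hn, hw], fun v => ?_⟩
    rw [rmul, rmul, hqw, map_add, rinv', map_smul, hsn _ (inv_mem hn)]
  have hQ2 : IsPGroup 2 Q := by
    rintro ⟨a, ha, w, hw, haw⟩
    refine ⟨1, Subtype.ext ?_⟩
    show a ^ (2 ^ 1) = 1
    rw [pow_one, pow_two]
    apply S.eq_one_of_act
    intro v
    rw [rmul, haw, haw, map_add, map_smul, hw, smul_zero, add_zero, add_assoc, v_add_self,
      add_zero]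
  have hQb := bot_of_sub hN hQN hQn hQ2 ho
  have hxy : x * y ∈ Q := by
    refine ⟨mul_mem hxN hyN, c x, ?_, fun v => ?_⟩
    · show f x (c x) + f y (c x) = 0
      rw [S.pself hx, hc, S.pself hy, add_zero]
    · rw [rmul, S.act hy, S.act hx, map_add, map_smul, ← hc, S.pself hx, smul_zero, add_zero]
      show _ = v + (f x v + f y v) • c x
      rw [add_smul]
      abel
  rw [hQb, mem_bot] at hxy
  rw [eq_inv_of_mul_eq_one_left hxy, S.inv hy]

end Sys

/-- The general hypothesis: `M` is the unique maximal subgroup over `T`, `O_2(H) = 1`, and `E` is a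
class of transvections of the faithful module `V`. -/
structure Pre (ρ : H →* (V ≃ₗ[ZMod 2] V)) (E : Set H) (c : H → V)
    (f : H → V →ₗ[ZMod 2] ZMod 2) (T : Sylow 2 H) (M : Subgroup H) : Prop extends
    Sys ρ E c f where
  TM : (T : Subgroup H) ≤ M
  M_ne : M ≠ ⊤
  uniq : ∀ K : Subgroup H, (T : Subgroup H) ≤ K → K ≠ ⊤ → K ≤ M
  o2 : pCore 2 H = ⊥

namespace Pre

variable {E : Set H} {c : H → V} {f : H → V →ₗ[ZMod 2] ZMod 2} {T : Sylow 2 H}
  {M : Subgroup H} (h : Pre ρ E c f T M)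

include h

theorem eq_top {K : Subgroup H} (hT : (T : Subgroup H) ≤ K) {g : H} (hg : g ∈ K)
    (hgM : g ∉ M) : K = ⊤ := by
  by_contra hne
  exact hgM (h.uniq K hT hne hg)

theorem exists_mem_T [Finite H] : ∃ e ∈ E, e ∈ T := by
  obtain ⟨x, hx⟩ := h.ne
  obtain ⟨g, hg⟩ := syl_conj T (zpowers_two (h.sq hx))
  exact ⟨g * x * g⁻¹, h.conj x hx g, hg x (mem_zpowers x)⟩

theorem exists_not_mem [Finite H] : ∃ a ∈ E, a ∉ M := by
  by_contra hcon
  push Not at hcon
  have hNM : closure E ≤ M := (closure_le _).mpr hcon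
  have hN : (closure E).Normal := ⟨fun k hk g =>
    conj_closure (fun a ha => subset_closure (h.conj a ha g)) k hk⟩
  have h1 := Lib.SylowNormalInf.normalizer_inf_sup_eq_top T (closure E)
  have h2 : (T : Subgroup H) ≤ normalizer (((T : Subgroup H) ⊓ closure E : Subgroup H) : Set H) := by
    intro t ht
    apply mem_normalizer_of_conj
    rintro k ⟨hk1, hk2⟩
    exact ⟨conjT ht hk1, hN.conj_mem k hk2 t⟩
  by_cases htop : normalizer (((T : Subgroup H) ⊓ closure E : Subgroup H) : Set H) = ⊤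
  · have h3 : ((T : Subgroup H) ⊓ closure E).Normal := normalizer_eq_top_iff.mp htop
    have h4 := Lib.Cores.le_pCore h3 (T.isPGroup'.to_le inf_le_left)
    rw [h.o2, le_bot_iff] at h4
    obtain ⟨e, he, heT⟩ := h.exists_mem_T
    have h5 : e ∈ (T : Subgroup H) ⊓ closure E := ⟨heT, subset_closure he⟩
    rw [h4, mem_bot] at h5
    exact h.ne_one he h5
  · have h3 := h.uniq _ h2 htop
    apply h.M_ne
    rw [← top_le_iff, ← h1]
    exact sup_le h3 hNM

/-- `⟨Δ⟩` is normal. -/
theorem normalD [Finite H] : (closure (E \ (M : Set H))).Normal := by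
  rw [← normalizer_eq_top_iff]
  obtain ⟨a, ha, haM⟩ := h.exists_not_mem
  refine h.eq_top (g := a) ?_ ?_ haM
  · intro t ht
    apply mem_normalizer_of_conj
    apply conj_closure
    rintro x ⟨hx, hxM⟩
    exact subset_closure ⟨h.conj x hx t, conj_notM hxM (h.TM ht)⟩
  · exact le_normalizer (subset_closure ⟨ha, haM⟩)

theorem mem_closureD [Finite H] {x : H} (hx : x ∈ E) : x ∈ closure (E \ (M : Set H)) := by
  obtain ⟨a, ha, haM⟩ := h.exists_not_mem
  obtain ⟨g, rfl⟩ := h.tra a ha x hx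
  exact h.normalD.conj_mem a (subset_closure ⟨ha, haM⟩) g

theorem closureD [Finite H] : closure (E \ (M : Set H)) = closure E :=
  le_antisymm (closure_mono Set.sdiff_subset) ((closure_le _).mpr fun _ hx => h.mem_closureD hx)

theorem sup_T [Finite H] : closure (E \ (M : Set H)) ⊔ T = ⊤ := by
  obtain ⟨a, ha, haM⟩ := h.exists_not_mem
  exact h.eq_top (g := a) le_sup_right (le_sup_left (a := closure (E \ (M : Set H)))
    (subset_closure ⟨ha, haM⟩)) haM

end Pre

/-- The hypothesis of the core. -/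
structure Hyp (ρ : H →* (V ≃ₗ[ZMod 2] V)) (E : Set H) (c : H → V)
    (f : H → V →ₗ[ZMod 2] ZMod 2) (T : Sylow 2 H) (M : Subgroup H) (v0 : V)
    (f0 : V →ₗ[ZMod 2] ZMod 2) : Prop extends Pre ρ E c f T M where
  fix : ∀ v, (∀ g, ρ g v = v) → v = 0
  v0_ne : v0 ≠ 0
  v0_fix : ∀ t ∈ T, ρ t v0 = v0
  f0_T : ∀ t ∈ T, ∀ v, f0 (ρ t v) = f0 v
  f0_not : ∃ g v, f0 (ρ g v) ≠ f0 v

namespace Hyp

variable [Finite H] {E : Set H} {c : H → V} {f : H → V →ₗ[ZMod 2] ZMod 2} {T : Sylow 2 H}
  {M : Subgroup H} {v0 : V} {f0 : V →ₗ[ZMod 2] ZMod 2} (h : Hyp ρ E c f T M v0 f0)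

include h

omit [Finite H] in
theorem mem_of_fix {g : H} (hg : ρ g v0 = v0) : g ∈ M := by
  refine h.uniq (stv ρ v0) (fun t ht => h.v0_fix t ht) ?_ hg
  intro htop
  apply h.v0_ne
  apply h.fix
  intro g
  have : g ∈ stv ρ v0 := by rw [htop]; exact mem_top g
  exact this

omit [Finite H] in
theorem mem_of_f0 {g : H} (hg : ∀ v, f0 (ρ g v) = f0 v) : g ∈ M := by
  refine h.uniq (stf ρ f0) (fun t ht => h.f0_T t ht) ?_ hg
  intro htop
  obtain ⟨g, v, hgv⟩ := h.f0_not
  have : g ∈ stf ρ f0 := by rw [htop]; exact mem_top g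
  exact hgv (this v)

omit [Finite H] in
theorem fv0 {d : H} (hd : d ∈ E) (hdM : d ∉ M) : f d v0 = 1 := by
  apply z2_ne_zero
  intro h0
  apply hdM
  apply h.mem_of_fix
  rw [h.act hd, h0, zero_smul, add_zero]

omit [Finite H] in
theorem f0c {d : H} (hd : d ∈ E) (hdM : d ∉ M) : f0 (c d) = 1 := by
  apply z2_ne_zero
  intro h0
  apply hdM
  apply h.mem_of_f0
  intro v
  rw [h.act hd, map_add, map_smul, h0, smul_zero, add_zero]

omit [Finite H] in
/-- (2) -/
theorem symD {a b : H} (ha : a ∈ E) (haM : a ∉ M) (hb : b ∈ E) (hbM : b ∉ M) :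
    f a (c b) = f b (c a) := by
  -- it is enough to exclude `f a (c b) = 1`, `f b (c a) = 0`
  have key : ∀ {a b : H}, a ∈ E → a ∉ M → b ∈ E → b ∉ M → f a (c b) = 1 → f b (c a) = 0 →
      False := by
    intro a b ha haM hb hbM h1 h0
    have hx : a * b * a⁻¹ ∈ E := h.conj b hb a
    have hy : b * a * b⁻¹ ∈ E := h.conj a ha b
    have cx := h.c_conj' hb ha
    have fx := h.f_conj' hb ha
    have cy := h.c_conj' ha hb
    have fy := h.f_conj' ha hb
    rw [h1, one_smul] at cx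
    rw [h0, zero_smul, add_zero] at cy
    simp only [h0, mul_zero, add_zero] at fx
    simp only [h1, mul_one] at fy
    have hxM : a * b * a⁻¹ ∈ M := by
      by_contra hn
      have := h.f0c hx hn
      rw [cx, map_add, h.f0c hb hbM, h.f0c ha haM, z2_add_self] at this
      exact zero_ne_one this
    have hyM : b * a * b⁻¹ ∈ M := by
      by_contra hn
      have := h.fv0 hy hn
      rw [fy, h.fv0 ha haM, h.fv0 hb hbM, z2_add_self] at this
      exact zero_ne_one this
    apply haM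
    have hfin : (a * b * a⁻¹) * (b * a * b⁻¹) * (a * b * a⁻¹)⁻¹ = a := by
      apply h.ext' (h.conj _ hy _) ha
      · rw [h.c_conj' hy hx, cy, fx, h0, zero_smul, add_zero]
      · intro v
        rw [h.f_conj' hy hx, fy, fx, fy, cx, map_add, map_add, h.pself ha, h.pself hb, h1, h0,
          add_zero, zero_add, add_zero, mul_one, add_assoc, z2_add_self, add_zero]
    rw [← hfin]
    exact mul_mem (mul_mem hxM hyM) (inv_mem hxM)
  rcases z2 (f a (c b)) with h1 | h1 <;> rcases z2 (f b (c a)) with h2 | h2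
  · rw [h1, h2]
  · exact (key hb hbM ha haM h2 h1).elim
  · exact (key ha haM hb hbM h1 h2).elim
  · rw [h1, h2]

/-- `C_V(⟨Δ⟩) = 0`. -/
theorem eq_zero {v : V} (hv : ∀ a ∈ E, a ∉ M → f a v = 0) : v = 0 := by
  by_contra hv0
  let N := closure (E \ (M : Set H))
  let U : AddSubgroup V :=
    { carrier := {v | ∀ n ∈ N, ρ n v = v}
      zero_mem' := fun n _ => map_zero _
      add_mem' := by
        intro a b ha hb n hn
        rw [map_add, ha n hn, hb n hn]
      neg_mem' := by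
        intro a ha n hn
        rw [map_neg, ha n hn] }
  have hvU : v ∈ U := by
    intro n hn
    have : N ≤ stv ρ v := (closure_le _).mpr (by
      rintro x ⟨hx, hxM⟩
      show ρ x v = v
      rw [h.act hx, hv x hx hxM, zero_smul, add_zero])
    exact this hn
  have hN : N.Normal := h.normalD
  have hU : ∀ t ∈ (T : Subgroup H), ∀ u ∈ U, ρ t u ∈ U := by
    intro t _ u hu n hn
    have h1 := hu (t⁻¹ * n * t) (by simpa using hN.conj_mem n hn t⁻¹)
    rw [rmul, rmul] at h1
    have h2 := congrArg (ρ t) h1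
    rwa [rinv'] at h2
  obtain ⟨w, hw, hw0, hwT⟩ := exists_fixed ρ T.isPGroup' U hU hvU hv0
  apply hw0
  apply h.fix
  intro g
  have hg : g ∈ N ⊔ (T : Subgroup H) := by rw [h.sup_T]; exact mem_top g
  have hle : N ⊔ (T : Subgroup H) ≤ stv ρ w := sup_le (fun n hn => hw n hn) (fun t ht => hwT t ht)
  exact hle hg

/-- (3) -/
theorem eqDc {a b : H} (ha : a ∈ E) (haM : a ∉ M) (hb : b ∈ E) (hbM : b ∉ M)
    (hc : c a = c b) : a = b := by
  refine h.eq_of_c h.o2 h.normalD ha hb (h.mem_closureD ha) (h.mem_closureD hb) hc ?_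
  have hle : closure (E \ (M : Set H)) ≤ stf ρ (fun v => f a v + f b v) := by
    rw [closure_le]
    rintro x ⟨hx, hxM⟩ v
    show f a (ρ x v) + f b (ρ x v) = f a v + f b v
    rw [h.act hx, map_add, map_add, map_smul, map_smul, h.symD ha haM hx hxM,
      h.symD hb hbM hx hxM, hc]
    have := z2_add_self (f x v • f x (c b))
    calc f a v + f x v • f x (c b) + (f b v + f x v • f x (c b))
        = f a v + f b v + (f x v • f x (c b) + f x v • f x (c b)) := by abel
      _ = f a v + f b v := by rw [this, add_zero]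
  intro n hn v
  exact hle hn v

theorem eqDf {a b : H} (ha : a ∈ E) (haM : a ∉ M) (hb : b ∈ E) (hbM : b ∉ M)
    (hf : ∀ v, f a v = f b v) : a = b := by
  apply h.eqDc ha haM hb hbM
  apply v_eq_of_add
  apply h.eq_zero
  intro x hx hxM
  rw [map_add, h.symD hx hxM ha haM, h.symD hx hxM hb hbM, hf, z2_add_self]

/-- (4), first half. -/
theorem symDE {a e : H} (ha : a ∈ E) (haM : a ∉ M) (he : e ∈ E) : f a (c e) = f e (c a) := by
  by_cases heM : e ∈ M
  · have hy : e * a * e⁻¹ ∈ E := h.conj a ha e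
    have hyM : e * a * e⁻¹ ∉ M := conj_notM haM heM
    have cy := h.c_conj' ha he
    have fy := h.f_conj' ha he
    rcases z2 (f a (c e)) with h1 | h1 <;> rcases z2 (f e (c a)) with h2 | h2
    · rw [h1, h2]
    · exfalso
      simp only [h1, mul_zero, add_zero] at fy
      have := h.eqDf hy hyM ha haM fy
      rw [this, h2, one_smul] at cy
      exact (h.tr e he).c_ne (by simpa using cy.symm)
    · exfalso
      rw [h2, zero_smul, add_zero] at cy
      have := h.eqDc hy hyM ha haM cy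
      rw [this] at fy
      simp only [h1, mul_one] at fy
      obtain ⟨v, hv⟩ := (h.tr e he).exists_one
      have h3 := fy v
      rw [hv] at h3
      have h4 : f a v + 0 = f a v + 1 := by rw [add_zero]; exact h3
      exact zero_ne_one (add_left_cancel h4)
    · rw [h1, h2]
  · exact h.symD ha haM he heM

/-- (4) the pairing on `E` is symmetric. -/
theorem sym {x y : H} (hx : x ∈ E) (hy : y ∈ E) : f x (c y) = f y (c x) := by
  obtain ⟨a, ha, haM⟩ := h.exists_not_mem
  obtain ⟨g, hg⟩ := h.tra x hx a ha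
  rw [← h.p_conj hx hy g, ← h.p_conj hy hx g, ← hg]
  exact h.symDE ha haM (h.conj y hy g)

/-- elements of `E` with the same centre are equal. -/
theorem eq_c {x y : H} (hx : x ∈ E) (hy : y ∈ E) (hc : c x = c y) : x = y := by
  refine h.eq_of_c h.o2 h.normalD hx hy (h.mem_closureD hx) (h.mem_closureD hy) hc ?_
  have hle : closure (E \ (M : Set H)) ≤ stf ρ (fun v => f x v + f y v) := by
    rw [closure_le]
    rintro z ⟨hz, _⟩ v
    show f x (ρ z v) + f y (ρ z v) = f x v + f y v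
    rw [h.act hz, map_add, map_add, map_smul, map_smul, h.sym hx hz, h.sym hy hz, hc]
    have := z2_add_self (f z v • f z (c y))
    calc f x v + f z v • f z (c y) + (f y v + f z v • f z (c y))
        = f x v + f y v + (f z v • f z (c y) + f z v • f z (c y)) := by abel
      _ = f x v + f y v := by rw [this, add_zero]
  intro n hn v
  exact hle hn v

/-- `M` fixes `v0`. -/
theorem M_fix {m : H} (hm : m ∈ M) : ρ m v0 = v0 := by
  apply v_eq_of_add
  apply h.eq_zero
  intro a ha haM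
  have h1 : f (m⁻¹ * a * m⁻¹⁻¹) v0 = 1 :=
    h.fv0 (h.conj a ha m⁻¹) (conj_notM haM (inv_mem hm))
  rw [h.f_conj ha, inv_inv] at h1
  rw [map_add, h1, h.fv0 ha haM, z2_add_self]

theorem mem_M_iff {x : H} : x ∈ M ↔ ρ x v0 = v0 := ⟨h.M_fix, h.mem_of_fix⟩

theorem mem_M_iff' {x : H} (hx : x ∈ E) : x ∈ M ↔ f x v0 = 0 := by
  rw [h.mem_M_iff, h.act hx]
  constructor
  · intro h1
    rcases z2 (f x v0) with h2 | h2
    · exact h2
    · rw [h2, one_smul] at h1
      exact absurd (by simpa using h1) (h.tr x hx).c_ne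
  · intro h1
    rw [h1, zero_smul, add_zero]

/-- Elements of `E` in a common `2`-subgroup have zero pairing. -/
theorem p_of_two {P : Subgroup H} (hP : IsPGroup 2 P) {x y : H} (hx : x ∈ E) (hy : y ∈ E)
    (hxP : x ∈ P) (hyP : y ∈ P) : f x (c y) = 0 := by
  rcases z2 (f x (c y)) with h1 | h1
  · exact h1
  · exfalso
    have h2 : f y (c x) = 1 := by rw [← h.sym hx hy, h1]
    have hb := h.braid_of hx hy h1 h2
    rw [h.inv hy, h.inv hx] at hb
    have h3 : (x * y) ^ 3 = 1 := by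
      have : (x * y) ^ 3 = (x * y * x) * (y * x * y) := by
        simp only [pow_succ, pow_zero, one_mul, mul_assoc]
      rw [this, hb]
      have : x * y * x * (x * y * x) = x * y * (x * x) * y * x := by
        simp only [mul_assoc]
      rw [this, h.sq hx, mul_one, mul_assoc x y y, h.sq hy, mul_one, h.sq hx]
    obtain ⟨k, hk⟩ := hP ⟨x * y, mul_mem hxP hyP⟩
    have hk' : (x * y) ^ 2 ^ k = 1 := congrArg Subtype.val hk
    have hcop : Nat.Coprime 3 (2 ^ k) := Nat.Coprime.pow_right k (by norm_num)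
    have hone : orderOf (x * y) = 1 := by
      have d1 := orderOf_dvd_of_pow_eq_one h3
      have d2 := orderOf_dvd_of_pow_eq_one hk'
      exact Nat.eq_one_of_dvd_coprimes hcop d1 d2
    rw [orderOf_eq_one_iff] at hone
    have hxy : x = y := by rw [eq_inv_of_mul_eq_one_left hone, h.inv hy]
    rw [hxy, h.pself hy] at h1
    exact zero_ne_one h1

theorem p_T {x y : H} (hx : x ∈ E) (hy : y ∈ E) (hxT : x ∈ T) (hyT : y ∈ T) : f x (c y) = 0 :=
  h.p_of_two T.isPGroup' hx hy hxT hyT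

/-- `N_H(⟨O⟩) ≤ M` for a nonempty `T`-invariant `O ⊆ E ∩ T`. -/
theorem normalizer_le {O : Set H} (hO : ∀ e ∈ O, e ∈ E ∧ e ∈ T) (hne : O.Nonempty)
    (hT : ∀ t ∈ T, ∀ e ∈ O, t * e * t⁻¹ ∈ O) : normalizer (closure O : Set H) ≤ M := by
  apply h.uniq
  · intro t ht
    apply mem_normalizer_of_conj
    exact conj_closure fun e he => subset_closure (hT t ht e he)
  · intro htop
    have h1 : (closure O).Normal := normalizer_eq_top_iff.mp htop
    have h2 : closure O ≤ (T : Subgroup H) := (closure_le _).mpr fun e he => (hO e he).2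
    have h3 := Lib.Cores.le_pCore h1 (T.isPGroup'.to_le h2)
    rw [h.o2, le_bot_iff] at h3
    obtain ⟨e, he⟩ := hne
    have h4 : e ∈ closure O := subset_closure he
    rw [h3, mem_bot] at h4
    exact h.ne_one (hO e he).1 h4

theorem exists_adj {O : Set H} (hO : ∀ e ∈ O, e ∈ E ∧ e ∈ T) (hne : O.Nonempty)
    (hT : ∀ t ∈ T, ∀ e ∈ O, t * e * t⁻¹ ∈ O) {b : H} (hb : b ∈ E) (hbM : b ∉ M) :
    ∃ e ∈ O, f b (c e) = 1 := by
  by_contra hcon
  push Not at hcon
  apply hbM
  apply h.normalizer_le hO hne hT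
  apply mem_normalizer_of_conj
  apply conj_closure
  intro e he
  have h0 := z2_ne_one (hcon e he)
  have h1 : b * e = e * b := h.comm_of (hO e he).1 hb (by rw [← h.sym hb (hO e he).1]; exact h0) h0
  rw [h1, mul_inv_cancel_right]
  exact subset_closure he

theorem exists_adj_T {b : H} (hb : b ∈ E) (hbM : b ∉ M) : ∃ e ∈ E, e ∈ T ∧ f b (c e) = 1 := by
  obtain ⟨e0, he0, he0T⟩ := h.exists_mem_T
  obtain ⟨e, he, h1⟩ := h.exists_adj (O := {e | e ∈ E ∧ e ∈ T}) (fun e he => he)
    ⟨e0, he0, he0T⟩ (fun t ht e he => ⟨h.conj e he.1 t,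
      conjT ht he.2⟩) hb hbM
  exact ⟨e, he.1, he.2, h1⟩

/-- An `x ∈ E` commuting with `E ∩ T` lies in `T`. -/
theorem mem_T_of_cent {x : H} (hx : x ∈ E) (h0 : ∀ e ∈ E, e ∈ T → f x (c e) = 0) : x ∈ T := by
  set W : Subgroup H := closure {e | e ∈ E ∧ e ∈ T} with hW
  have hWT : W ≤ (T : Subgroup H) := (closure_le _).mpr fun e he => he.2
  have hTN : (T : Subgroup H) ≤ normalizer (W : Set H) := by
    intro t ht
    apply mem_normalizer_of_conj
    exact conj_closure fun e he => subset_closure ⟨h.conj e he.1 t,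
      conjT ht he.2⟩
  have hxN : x ∈ normalizer (W : Set H) := by
    apply mem_normalizer_of_conj
    apply conj_closure
    rintro e ⟨he, heT⟩
    have h1 : x * e = e * x :=
      h.comm_of he hx (by rw [← h.sym hx he]; exact h0 e he heT) (h0 e he heT)
    rw [h1, mul_inv_cancel_right]
    exact subset_closure ⟨he, heT⟩
  obtain ⟨g, hg, hgx⟩ := syl_conj_in T hTN (zpowers_le.mpr hxN) (zpowers_two (h.sq hx))
  have h1 : g * x * g⁻¹ ∈ W := subset_closure ⟨h.conj x hx g, hgx x (mem_zpowers x)⟩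
  rw [← mem_normalizer_iff.mp hg x] at h1
  exact hWT h1

/-- (7): an element of `Δ` does not commute with exactly one element of `E ∩ T`. -/
theorem uniq_adj {b e e' : H} (hb : b ∈ E) (hbM : b ∉ M) (he : e ∈ E) (heT : e ∈ T)
    (he' : e' ∈ E) (heT' : e' ∈ T) (h1 : f b (c e) = 1) (h1' : f b (c e') = 1) : e = e' := by
  have hee : f e (c e') = 0 := h.p_T he he' heT heT'
  have hee' : f e' (c e) = 0 := h.p_T he' he heT' heT
  have ha : e' * b * e'⁻¹ ∈ E := h.conj b hb e'
  have haM : e' * b * e'⁻¹ ∉ M := conj_notM hbM (h.TM heT')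
  have ca := h.c_conj' hb he'
  have fa := h.f_conj' hb he'
  rw [← h.sym hb he', h1', one_smul] at ca
  simp only [h1', mul_one] at fa
  set a := e' * b * e'⁻¹ with hadef
  have hb2 : e * a * e⁻¹ ∈ E := h.conj a ha e
  have hb2M : e * a * e⁻¹ ∉ M := conj_notM haM (h.TM heT)
  have cb := h.c_conj' ha he
  have fb := h.f_conj' ha he
  rw [ca, map_add, ← h.sym hb he, h1, hee, add_zero, one_smul] at cb
  simp only [fa, h1, hee', add_zero, mul_one] at fb
  set b' := e * a * e⁻¹ with hb'def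
  have hbb' : f b (c b') = 0 := by
    rw [cb, map_add, map_add, h.pself hb, h1, h1', zero_add]
    exact z2_add_self 1
  -- `u = b b'`
  have hu : ∀ v, ρ (b * b') v = v + f b v • c b + f b' v • c b' := by
    intro v
    rw [rmul, h.act hb2, h.act hb, map_add, map_smul, hbb', smul_zero, add_zero]
    abel
  have huN : b * b' ∈ normalizer (closure {e | e ∈ E ∧ e ∈ T} : Set H) := by
    apply mem_normalizer_of_conj
    apply conj_closure
    rintro d ⟨hd, hdT⟩
    apply Subgroup.subset_closure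
    refine ⟨h.conj d hd _, ?_⟩
    apply h.mem_T_of_cent (h.conj d hd _)
    intro z hz hzT
    -- the centre of the conjugate
    have hcz : f z (c (b * b' * d * (b * b')⁻¹)) = 0 := by
      rw [h.c_conj hd, hu, fb, h.p_T he' hd heT' hdT, h.p_T he hd heT hdT, add_zero, add_zero,
        map_add, map_add, map_smul, map_smul, h.p_T hz hd hzT hdT, zero_add, cb, map_add, map_add,
        h.p_T hz he' hzT heT', h.p_T hz he hzT heT, add_zero, add_zero, z2_add_self]
    rw [h.sym (h.conj d hd _) hz]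
    exact hcz
  have huM : b * b' ∈ M := h.normalizer_le (O := {e | e ∈ E ∧ e ∈ T}) (fun e he => he)
    ⟨e, he, heT⟩ (fun t ht e he => ⟨h.conj e he.1 t,
      conjT ht he.2⟩) huN
  have h2 := h.M_fix huM
  rw [hu, h.fv0 hb hbM, h.fv0 hb2 hb2M, one_smul, one_smul, cb] at h2
  have h3 : c e' + c e = 0 := by
    have h4 : v0 + (c e' + c e) = v0 + 0 := by
      rw [add_zero]
      calc v0 + (c e' + c e) = v0 + (c b + c b) + (c e' + c e) := by rw [v_add_self, add_zero]
        _ = v0 + c b + (c b + c e' + c e) := by abel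
        _ = v0 := h2
    exact add_left_cancel h4
  exact (h.eq_c he' he (v_eq_of_add h3)).symm

/-- (8) -/
theorem uniq_adjM {b e e' : H} (hb : b ∈ E) (hbM : b ∉ M) (he : e ∈ E) (heM : e ∈ M)
    (he' : e' ∈ E) (heM' : e' ∈ M) (hee : f e (c e') = 0) (h1 : f b (c e) = 1)
    (h1' : f b (c e') = 1) : e = e' := by
  have hcomm : e' * e = e * e' := h.comm_of he he' hee (by rw [← h.sym he he', hee])
  -- the 2-group generated by e, e'
  let P : Subgroup H := zpowers e ⊔ zpowers e'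
  have hP : IsPGroup 2 P := by
    have hle : zpowers e' ≤ normalizer (zpowers e : Set H) := by
      rw [zpowers_le]
      apply mem_normalizer_of_conj
      intro k hk
      obtain ⟨n, rfl⟩ := mem_zpowers_iff.mp hk
      have : e' * e ^ n * e'⁻¹ = e ^ n := by
        have hc : Commute e' (e ^ n) := (show Commute e' e from hcomm).zpow_right n
        rw [hc.eq, mul_inv_cancel_right]
      rw [this]
      exact zpow_mem (mem_zpowers e) n
    exact IsPGroup.to_sup_of_normal_left' (zpowers_two (h.sq he)) (zpowers_two (h.sq he')) hle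
  have hPM : P ≤ M := sup_le (zpowers_le.mpr heM) (zpowers_le.mpr heM')
  obtain ⟨g, hg, hgP⟩ := syl_conj_in T h.TM hPM hP
  have h2 : g * e * g⁻¹ = g * e' * g⁻¹ := by
    apply h.uniq_adj (h.conj b hb g) (conj_notM hbM hg) (h.conj e he g)
      (hgP e (le_sup_left (a := zpowers e) (mem_zpowers e))) (h.conj e' he' g)
      (hgP e' (le_sup_right (b := zpowers e') (mem_zpowers e')))
    · rw [h.p_conj hb he, h1]
    · rw [h.p_conj hb he', h1']
  have h3 : g⁻¹ * (g * e * g⁻¹) * g = g⁻¹ * (g * e' * g⁻¹) * g := by rw [h2]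
  simpa [mul_assoc] using h3

/-- Non-commuting is transitive on `Δ`. -/
theorem trans {a b d : H} (ha : a ∈ E) (haM : a ∉ M) (hb : b ∈ E) (hbM : b ∉ M)
    (hd : d ∈ E) (hdM : d ∉ M) (h1 : f a (c b) = 1) (h2 : f b (c d) = 1) :
    a = d ∨ f a (c d) = 1 := by
  rcases z2 (f a (c d)) with h0 | h0
  swap
  · exact Or.inr h0
  left
  have ce := h.c_conj' ha hb
  have fe := h.f_conj' ha hb
  have ce' := h.c_conj' hd hb
  have fe' := h.f_conj' hd hb
  rw [← h.sym ha hb, h1, one_smul] at ce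
  simp only [h1, mul_one] at fe
  rw [h2, one_smul] at ce'
  rw [h.sym hb hd] at h2
  simp only [h2, mul_one] at fe'
  have he : b * a * b⁻¹ ∈ E := h.conj a ha b
  have he' : b * d * b⁻¹ ∈ E := h.conj d hd b
  have heM : b * a * b⁻¹ ∈ M := by
    rw [h.mem_M_iff' he, fe, h.fv0 ha haM, h.fv0 hb hbM]
    exact z2_add_self 1
  have heM' : b * d * b⁻¹ ∈ M := by
    rw [h.mem_M_iff' he', fe', h.fv0 hd hdM, h.fv0 hb hbM]
    exact z2_add_self 1
  have h3 := h.uniq_adjM hb hbM he heM he' heM' ?_ ?_ ?_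
  · have h4 : c a + c b = c d + c b := by rw [← ce, ← ce', h3]
    exact h.eq_c ha hd (add_right_cancel h4)
  · rw [fe, ce', map_add, map_add, h0, h1, h.pself hb, ← h.sym hd hb, h2, zero_add, add_zero]
    exact z2_add_self 1
  · rw [ce, map_add, h.pself hb, ← h.sym ha hb, h1, add_zero]
  · rw [ce', map_add, h.pself hb, ← h.sym hd hb, h2, add_zero]

/-- (C5) `T` is transitive on `E ∩ T`. -/
theorem transT {e e' : H} (he : e ∈ E) (heT : e ∈ T) (he' : e' ∈ E) (heT' : e' ∈ T) :
    ∃ t ∈ T, e' = t * e * t⁻¹ := by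
  obtain ⟨b, hb, hbM⟩ := h.exists_not_mem
  have key : ∀ {e : H}, e ∈ E → e ∈ T → ∃ t ∈ T, f b (c (t * e * t⁻¹)) = 1 := by
    intro e he heT
    obtain ⟨d, ⟨t, ht, rfl⟩, h1⟩ := h.exists_adj (O := {d | ∃ t ∈ T, t * e * t⁻¹ = d})
      (by
        rintro d ⟨t, ht, rfl⟩
        exact ⟨h.conj e he t, conjT ht heT⟩)
      ⟨e, 1, one_mem _, by simp⟩
      (by
        rintro s hs d ⟨t, ht, rfl⟩
        exact ⟨s * t, mul_mem hs ht, by group⟩) hb hbM
    exact ⟨t, ht, h1⟩
  obtain ⟨t, ht, h1⟩ := key he heT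
  obtain ⟨t', ht', h1'⟩ := key he' heT'
  have h2 := h.uniq_adj hb hbM (h.conj e he t)
    (conjT ht heT) (h.conj e' he' t')
    (conjT ht' heT') h1 h1'
  refine ⟨t'⁻¹ * t, mul_mem (invT ht') ht, ?_⟩
  have h3 : t'⁻¹ * (t * e * t⁻¹) * t' = e' := by rw [h2]; group
  rw [← h3]
  group

/-- Elements of `Δ` adjacent to the same `e ∈ E ∩ M` are conjugate under `⟨e⟩`. -/
theorem eq_or_conj {b d e : H} (hb : b ∈ E) (hbM : b ∉ M) (hd : d ∈ E) (hdM : d ∉ M)
    (he : e ∈ E) (heM : e ∈ M) (h1 : f b (c e) = 1) (h2 : f d (c e) = 1) :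
    d = b ∨ d = e * b * e⁻¹ := by
  by_contra hcon
  push Not at hcon
  obtain ⟨hne1, hne2⟩ := hcon
  have ha : e * b * e⁻¹ ∈ E := h.conj b hb e
  have haM : e * b * e⁻¹ ∉ M := conj_notM hbM heM
  have ca := h.c_conj' hb he
  rw [← h.sym hb he, h1, one_smul] at ca
  have hba : f b (c (e * b * e⁻¹)) = 1 := by rw [ca, map_add, h.pself hb, h1, zero_add]
  have hda : f d (c (e * b * e⁻¹)) = f d (c b) + 1 := by rw [ca, map_add, h2]
  rcases z2 (f d (c b)) with h3 | h3
  · rw [h3, zero_add] at hda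
    have hab : f (e * b * e⁻¹) (c b) = 1 := by rw [h.sym ha hb, hba]
    rcases h.trans hd hdM ha haM hb hbM hda hab with h4 | h4
    · exact hne1 h4
    · rw [h3] at h4; exact zero_ne_one h4
  · have hda0 : f d (c (e * b * e⁻¹)) = 0 := by rw [hda, h3]; exact z2_add_self 1
    rcases h.trans hd hdM hb hbM ha haM h3 hba with h4 | h4
    · exact hne2 h4
    · rw [hda0] at h4; exact zero_ne_one h4

/-- `T` is transitive on `Δ`. -/
theorem transD {b d : H} (hb : b ∈ E) (hbM : b ∉ M) (hd : d ∈ E) (hdM : d ∉ M) :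
    ∃ t ∈ T, d = t * b * t⁻¹ := by
  obtain ⟨e, he, heT, h1⟩ := h.exists_adj_T hb hbM
  obtain ⟨e', he', heT', h1'⟩ := h.exists_adj_T hd hdM
  obtain ⟨t, ht, rfl⟩ := h.transT he heT he' heT'
  have hb' : t * b * t⁻¹ ∈ E := h.conj b hb t
  have hbM' : t * b * t⁻¹ ∉ M := conj_notM hbM (h.TM ht)
  have h2 : f (t * b * t⁻¹) (c (t * e * t⁻¹)) = 1 := by rw [h.p_conj hb he, h1]
  rcases h.eq_or_conj hb' hbM' hd hdM he' (h.TM heT') h2 h1' with h3 | h3
  · exact ⟨t, ht, h3⟩
  · refine ⟨t * e * t⁻¹ * t, mul_mem heT' ht, ?_⟩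
    rw [h3]; group

end Hyp

end Cfsg.Agent.Omega.Tv

end

section


/-!
# The transvection half of the FF-theorem for minimal parabolics: an arbitrary faithful module

helper670, OMEGA / FF, paper text bb #11436.

`Pre ρ E c f T M` (`V` any faithful module) gives the hypothesis `Hyp` of the core for the section
`[V,N]/C_{[V,N]}(N)`, `N = ⟨E⟩`; since the pairings `f x (c y)` are the same, all combinatorial
conclusions hold for `V` itself: `Out`.
-/

set_option autoImplicit false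
set_option linter.unusedSectionVars false

namespace Cfsg.Agent.Omega.Tv

open Subgroup Cfsg

section Rep

variable {H : Type*} [Group H] {X : Type*} [AddCommGroup X] [Module (ZMod 2) X]

/-- A representation by endomorphisms gives one by automorphisms. -/
def mkRho (A : H →* Module.End (ZMod 2) X) : H →* (X ≃ₗ[ZMod 2] X) where
  toFun g := LinearEquiv.ofLinearMap (A g) (A g⁻¹)
    (by rw [← Module.End.mul_eq_comp, ← map_mul, mul_inv_cancel, map_one]; rfl)
    (by rw [← Module.End.mul_eq_comp, ← map_mul, inv_mul_cancel, map_one]; rfl)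
  map_one' := by ext v; show A 1 v = v; rw [map_one]; rfl
  map_mul' g h := by ext v; show A (g * h) v = A g (A h v); rw [map_mul]; rfl

theorem mkRho_apply (A : H →* Module.End (ZMod 2) X) (g : H) (v : X) : mkRho A g v = A g v := rfl

/-- The dual representation. -/
def dualEnd (ρ : H →* (X ≃ₗ[ZMod 2] X)) : H →* Module.End (ZMod 2) (X →ₗ[ZMod 2] ZMod 2) where
  toFun g :=
    { toFun := fun φ => φ.comp (ρ g⁻¹ : X →ₗ[ZMod 2] X)
      map_add' := fun φ ψ => by ext v; rfl
      map_smul' := fun a φ => by ext v; rfl }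
  map_one' := by
    ext φ v
    show φ (ρ 1⁻¹ v) = φ v
    rw [inv_one, rone]
  map_mul' g h := by
    ext φ v
    show φ (ρ (g * h)⁻¹ v) = φ (ρ h⁻¹ (ρ g⁻¹ v))
    rw [mul_inv_rev, rmul]

theorem dual_apply (ρ : H →* (X ≃ₗ[ZMod 2] X)) (g : H) (φ : X →ₗ[ZMod 2] ZMod 2) (v : X) :
    mkRho (dualEnd ρ) g φ v = φ (ρ g⁻¹ v) := rfl

end Rep

variable {H : Type*} [Group H] {V : Type*} [AddCommGroup V] [Module (ZMod 2) V]
  {ρ : H →* (V ≃ₗ[ZMod 2] V)} {E : Set H} {c : H → V} {f : H → V →ₗ[ZMod 2] ZMod 2}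

/-- `[V,N]` -/
def Wsp (E : Set H) (c : H → V) : Submodule (ZMod 2) V := Submodule.span (ZMod 2) (c '' E)

/-- `C_{[V,N]}(N)` -/
def Zsp (E : Set H) (c : H → V) (f : H → V →ₗ[ZMod 2] ZMod 2) :
    Submodule (ZMod 2) (Wsp E c) where
  carrier := {w | ∀ e ∈ E, f e (w : V) = 0}
  zero_mem' := fun e _ => map_zero _
  add_mem' := fun {a b} ha hb e he => by
    show f e ((a : V) + (b : V)) = 0
    rw [map_add, ha e he, hb e he, add_zero]
  smul_mem' := fun r a ha e he => by
    show f e (r • (a : V)) = 0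
    rw [map_smul, ha e he, smul_zero]

theorem c_mem {x : H} (hx : x ∈ E) : c x ∈ Wsp E c := Submodule.subset_span ⟨x, hx, rfl⟩

open Classical in
/-- `c` as a member of `[V,N]` -/
noncomputable def cW (E : Set H) (c : H → V) (x : H) : Wsp E c :=
  if h : x ∈ E then ⟨c x, c_mem h⟩ else 0

theorem cW_eq {x : H} (hx : x ∈ E) : cW E c x = ⟨c x, c_mem hx⟩ := dif_pos hx

open Classical in
/-- `f` on `[V,N]/C_{[V,N]}(N)` -/
noncomputable def fQ (E : Set H) (c : H → V) (f : H → V →ₗ[ZMod 2] ZMod 2) (x : H) :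
    (Wsp E c ⧸ Zsp E c f) →ₗ[ZMod 2] ZMod 2 :=
  if h : x ∈ E then (Zsp E c f).liftQ ((f x).comp (Wsp E c).subtype) (fun _ hw => hw x h) else 0

theorem fQ_mk {x : H} (hx : x ∈ E) (w : Wsp E c) :
    fQ E c f x ((Zsp E c f).mkQ w) = f x (w : V) := by
  unfold fQ
  rw [dif_pos hx]
  rfl

namespace Sys

variable (S : Sys ρ E c f)

include S

theorem W_inv (g : H) : ∀ w ∈ Wsp E c, (ρ g : V →ₗ[ZMod 2] V) w ∈ Wsp E c := by
  intro w hw
  have : Submodule.map (ρ g : V →ₗ[ZMod 2] V) (Wsp E c) ≤ Wsp E c := by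
    unfold Wsp
    rw [Submodule.map_span_le]
    rintro _ ⟨x, hx, rfl⟩
    show ρ g (c x) ∈ _
    rw [← S.c_conj hx g]
    exact Submodule.subset_span ⟨_, S.conj x hx g, rfl⟩
  exact this ⟨w, hw, rfl⟩

theorem Z_inv (g : H) : Zsp E c f ≤ (Zsp E c f).comap
    ((ρ g : V →ₗ[ZMod 2] V).restrict (S.W_inv g)) := by
  intro w hw e he
  show f e (ρ g (w : V)) = 0
  have h1 := S.f_conj he g⁻¹ (w : V)
  rw [inv_inv] at h1
  rw [← h1]
  have h2 := S.conj e he g⁻¹
  rw [inv_inv] at h2
  exact hw _ h2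

/-- The action on the section. -/
noncomputable def endQ : H →* Module.End (ZMod 2) (Wsp E c ⧸ Zsp E c f) where
  toFun g := (Zsp E c f).mapQ (Zsp E c f) _ (S.Z_inv g)
  map_one' := by
    apply Submodule.linearMap_qext
    ext w
    show (Zsp E c f).mkQ ⟨ρ 1 (w : V), S.W_inv 1 w w.2⟩ = (Zsp E c f).mkQ w
    congr 1
    exact Subtype.ext (rone ρ _)
  map_mul' g h := by
    apply Submodule.linearMap_qext
    ext w
    show (Zsp E c f).mkQ ⟨ρ (g * h) (w : V), S.W_inv (g * h) w w.2⟩ =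
      (Zsp E c f).mkQ ⟨ρ g (ρ h (w : V)), S.W_inv g _ (S.W_inv h w w.2)⟩
    congr 1
    exact Subtype.ext (rmul ρ _ _ _)

/-- The action on the section. -/
noncomputable def rhoQ : H →* ((Wsp E c ⧸ Zsp E c f) ≃ₗ[ZMod 2] (Wsp E c ⧸ Zsp E c f)) :=
  mkRho S.endQ

theorem rhoQ_mk (g : H) (w : Wsp E c) : S.rhoQ g ((Zsp E c f).mkQ w) =
    (Zsp E c f).mkQ ⟨ρ g (w : V), S.W_inv g w w.2⟩ := rfl

/-- `⟨E⟩` is normal. -/
theorem normalE : (closure E).Normal := ⟨fun k hk g =>
    conj_closure (fun a ha => subset_closure (S.conj a ha g)) k hk⟩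

/-- The elements of `E` do not all commute. -/
theorem not_all_zero (ho : pCore 2 H = ⊥) : ∃ x ∈ E, ∃ y ∈ E, f x (c y) ≠ 0 := by
  by_contra hcon
  push Not at hcon
  have hcomm : ∀ x ∈ E, ∀ y ∈ E, y * x = x * y := fun x hx y hy =>
    S.comm_of hx hy (hcon x hx y hy) (hcon y hy x hx)
  have h1 : ∀ k ∈ closure E, ∀ x ∈ E, k * x = x * k := by
    intro k hk x hx
    have : closure E ≤ centralizer {x} := by
      rw [closure_le]
      intro y hy
      rw [SetLike.mem_coe, mem_centralizer_singleton_iff]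
      exact hcomm x hx y hy
    exact mem_centralizer_singleton_iff.mp (this hk)
  have h2 : ∀ k ∈ closure E, ∀ l ∈ closure E, k * l = l * k := by
    intro k hk l hl
    have : closure E ≤ centralizer {k} := by
      rw [closure_le]
      intro y hy
      rw [SetLike.mem_coe, mem_centralizer_singleton_iff]
      exact (h1 k hk y hy).symm
    exact (mem_centralizer_singleton_iff.mp (this hl)).symm
  have h3 : ∀ k ∈ closure E, k * k = 1 := by
    intro k hk
    induction hk using closure_induction with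
    | mem x hx => exact S.sq hx
    | one => simp
    | mul x y hx hy h4 h5 =>
      have : x * y * (x * y) = (x * x) * (y * y) := by
        rw [mul_assoc, ← mul_assoc y x y, h2 y hy x hx]
        simp only [mul_assoc]
      rw [this, h4, h5, one_mul]
    | inv x hx h4 =>
      rw [← mul_inv_rev, h4, inv_one]
  have h4 : IsPGroup 2 (closure E) := by
    rintro ⟨k, hk⟩
    exact ⟨1, Subtype.ext (by
      show k ^ (2 ^ 1) = 1
      rw [pow_one, pow_two, h3 k hk])⟩
  have h5 := Lib.Cores.le_pCore S.normalE h4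
  rw [ho, le_bot_iff] at h5
  obtain ⟨x, hx⟩ := S.ne
  have h6 : x ∈ closure E := subset_closure hx
  rw [h5, mem_bot] at h6
  exact S.ne_one hx h6

theorem exists_f (ho : pCore 2 H = ⊥) {x : H} (hx : x ∈ E) : ∃ y ∈ E, f x (c y) = 1 := by
  obtain ⟨a, ha, b, hb, hab⟩ := S.not_all_zero ho
  obtain ⟨g, rfl⟩ := S.tra a ha x hx
  refine ⟨g * b * g⁻¹, S.conj b hb g, ?_⟩
  rw [S.p_conj ha hb]
  exact z2_ne_zero hab

theorem exists_c (ho : pCore 2 H = ⊥) {x : H} (hx : x ∈ E) : ∃ y ∈ E, f y (c x) = 1 := by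
  obtain ⟨a, ha, b, hb, hab⟩ := S.not_all_zero ho
  obtain ⟨g, rfl⟩ := S.tra b hb x hx
  refine ⟨g * a * g⁻¹, S.conj a ha g, ?_⟩
  rw [S.p_conj ha hb]
  exact z2_ne_zero hab

theorem trQ (ho : pCore 2 H = ⊥) {x : H} (hx : x ∈ E) :
    IsTr S.rhoQ x ((Zsp E c f).mkQ (cW E c x)) (fQ E c f x) where
  fc := by
    rw [fQ_mk hx, cW_eq hx]
    exact S.pself hx
  c_ne := by
    intro h0
    rw [Submodule.mkQ_apply, Submodule.Quotient.mk_eq_zero, cW_eq hx] at h0
    obtain ⟨y, hy, h1⟩ := S.exists_c ho hx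
    have h2 : f y (c x) = 0 := h0 y hy
    rw [h2] at h1
    exact zero_ne_one h1
  f_ne := by
    intro h0
    obtain ⟨y, hy, h1⟩ := S.exists_f ho hx
    have h2 : fQ E c f x ((Zsp E c f).mkQ (cW E c y)) = 0 := by rw [h0]; rfl
    rw [fQ_mk hx, cW_eq hy] at h2
    have h3 : f x (c y) = 0 := h2
    rw [h3] at h1
    exact zero_ne_one h1
  act := by
    intro v
    obtain ⟨w, rfl⟩ := (Zsp E c f).mkQ_surjective v
    rw [S.rhoQ_mk, fQ_mk hx, ← map_smul, ← map_add]
    congr 1
    apply Subtype.ext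
    show ρ x (w : V) = (w : V) + f x (w : V) • ((cW E c x : Wsp E c) : V)
    rw [cW_eq hx, S.act hx]

end Sys

/-- The combinatorial conclusions. -/
structure Out (ρ : H →* (V ≃ₗ[ZMod 2] V)) (E : Set H) (c : H → V)
    (f : H → V →ₗ[ZMod 2] ZMod 2) (T : Sylow 2 H) (M : Subgroup H) : Prop extends
    Pre ρ E c f T M where
  sym : ∀ x ∈ E, ∀ y ∈ E, f x (c y) = f y (c x)
  p_T : ∀ x ∈ E, x ∈ T → ∀ y ∈ E, y ∈ T → f x (c y) = 0
  adj : ∀ b ∈ E, b ∉ M → ∃ e ∈ E, e ∈ T ∧ f b (c e) = 1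
  mem_T : ∀ x ∈ E, (∀ e ∈ E, e ∈ T → f x (c e) = 0) → x ∈ T
  uniq_adj : ∀ b ∈ E, b ∉ M → ∀ e ∈ E, e ∈ T → ∀ e' ∈ E, e' ∈ T → f b (c e) = 1 →
    f b (c e') = 1 → e = e'
  uniq_adjM : ∀ b ∈ E, b ∉ M → ∀ e ∈ E, e ∈ M → ∀ e' ∈ E, e' ∈ M → f e (c e') = 0 →
    f b (c e) = 1 → f b (c e') = 1 → e = e'
  trans : ∀ a ∈ E, a ∉ M → ∀ b ∈ E, b ∉ M → ∀ d ∈ E, d ∉ M → f a (c b) = 1 → f b (c d) = 1 →
    a = d ∨ f a (c d) = 1
  transT : ∀ e ∈ E, e ∈ T → ∀ e' ∈ E, e' ∈ T → ∃ t ∈ T, e' = t * e * t⁻¹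
  eq_or_conj : ∀ b ∈ E, b ∉ M → ∀ d ∈ E, d ∉ M → ∀ e ∈ E, e ∈ M → f b (c e) = 1 →
    f d (c e) = 1 → d = b ∨ d = e * b * e⁻¹
  transD : ∀ b ∈ E, b ∉ M → ∀ d ∈ E, d ∉ M → ∃ t ∈ T, d = t * b * t⁻¹
  third : ∀ a ∈ E, a ∉ M → ∀ b ∈ E, b ∉ M → f a (c b) = 1 → a * b * a⁻¹ ∈ M
  eq_of_p : ∀ x ∈ E, ∀ y ∈ E, (∀ z ∈ E, f z (c x) = f z (c y)) → x = y

theorem Hyp.third [Finite H] {T : Sylow 2 H} {M : Subgroup H} {v0 : V}
    {f0 : V →ₗ[ZMod 2] ZMod 2} (h : Hyp ρ E c f T M v0 f0) {a b : H} (ha : a ∈ E) (haM : a ∉ M)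
    (hb : b ∈ E) (hbM : b ∉ M) (h1 : f a (c b) = 1) : a * b * a⁻¹ ∈ M := by
  rw [h.mem_M_iff' (h.conj b hb a), h.f_conj' hb ha, h.fv0 hb hbM, h.fv0 ha haM,
    ← h.sym ha hb, h1]
  exact z2_add_self 1

namespace Pre

variable [Finite H] {T : Sylow 2 H} {M : Subgroup H} (h : Pre ρ E c f T M)

include h

/-- The section is faithful. -/
theorem injQ : Function.Injective h.rhoQ := by
  rw [injective_iff_map_eq_one]
  have hN := h.normalE
  -- `N` acts trivially on `V/W` and on `Z`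
  have hNW : ∀ n ∈ closure E, ∀ v, ρ n v + v ∈ Wsp E c := by
    intro n hn
    induction hn using closure_induction with
    | mem x hx =>
      intro v
      rw [h.act hx]
      have : v + f x v • c x + v = f x v • c x := by
        rw [add_right_comm, v_add_self, zero_add]
      rw [this]
      exact Submodule.smul_mem _ _ (c_mem hx)
    | one =>
      intro v
      rw [rone, v_add_self]
      exact Submodule.zero_mem _
    | mul x y _ _ hx hy =>
      intro v
      rw [rmul]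
      have : ρ x (ρ y v) + v = (ρ x (ρ y v) + ρ y v) + (ρ y v + v) := by
        rw [add_assoc, ← add_assoc (ρ y v), v_add_self, zero_add]
      rw [this]
      exact Submodule.add_mem _ (hx _) (hy _)
    | inv x _ hx =>
      intro v
      have := hx (ρ x⁻¹ v)
      rwa [rinv', add_comm] at this
  have hNZ : ∀ n ∈ closure E, ∀ w : Wsp E c, w ∈ Zsp E c f → ρ n (w : V) = w := by
    intro n hn w hw
    have hle : closure E ≤ stv ρ (w : V) := (closure_le _).mpr (by
      intro x hx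
      show ρ x (w : V) = w
      rw [h.act hx, hw x hx, zero_smul, add_zero])
    exact hle hn
  -- elements of the kernel inside `N` have exponent 4
  have h4 : ∀ k ∈ closure E, h.rhoQ k = 1 → k ^ 4 = 1 := by
    intro k hk hk1
    have hW : ∀ w : Wsp E c, ∀ hw : ρ k (w : V) + w ∈ Wsp E c,
        (⟨ρ k (w : V) + w, hw⟩ : Wsp E c) ∈ Zsp E c f := by
      intro w hw
      have h1 : h.rhoQ k ((Zsp E c f).mkQ w) = (Zsp E c f).mkQ w := by rw [hk1]; rfl
      rw [h.rhoQ_mk, Submodule.mkQ_apply, Submodule.mkQ_apply, Submodule.Quotient.eq] at h1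
      have h2 : (⟨ρ k (w : V) + w, hw⟩ : Wsp E c) =
          ⟨ρ k (w : V), h.W_inv k w w.2⟩ - w := by
        apply Subtype.ext
        show ρ k (w : V) + w = ρ k (w : V) - w
        rw [sub_eq_add_neg, ZModModule.neg_eq_self]
      rw [h2]
      exact h1
    apply h.eq_one_of_act
    intro v
    -- put `a = k v + v ∈ W`, `b = k a + a ∈ Z`
    have ha := hNW k hk v
    set a := ρ k v + v with hadef
    have hb := hNW k hk a
    have hbZ := hW ⟨a, ha⟩ hb
    set b := ρ k a + a with hbdef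
    have hkb : ρ k b = b := hNZ k hk ⟨b, hb⟩ hbZ
    have e1 : ρ k v = a + v := by rw [hadef, add_assoc, v_add_self, add_zero]
    have e2 : ρ k a = b + a := by rw [hbdef, add_assoc, v_add_self, add_zero]
    have e3 : k ^ 4 = k * (k * (k * k)) := by
      simp only [pow_succ, pow_zero, one_mul, mul_assoc]
    have s2 : ρ k (a + v) = b + v := by
      rw [map_add, e2, e1, add_assoc, ← add_assoc a, v_add_self, zero_add]
    have s3 : ρ k (b + v) = b + (a + v) := by rw [map_add, hkb, e1]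
    have s4 : ρ k (b + (a + v)) = v := by
      rw [map_add, hkb, s2, ← add_assoc, v_add_self, zero_add]
    rw [e3, rmul, rmul, rmul, e1, s2, s3, s4]
  have hpow : ∀ g : H, ∃ s : ℕ, g ^ 2 ^ s ∈ closure E := by
    intro g
    have hg : g ∈ closure E ⊔ (T : Subgroup H) := by
      rw [← h.closureD, h.sup_T]
      exact mem_top g
    obtain ⟨n, hn, t, ht, rfl⟩ := mem_sup_of_normal_left.mp hg
    obtain ⟨s, hs⟩ := T.isPGroup' ⟨t, ht⟩
    have hs' : t ^ 2 ^ s = 1 := congrArg Subtype.val hs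
    refine ⟨s, ?_⟩
    rw [← QuotientGroup.eq_one_iff, QuotientGroup.mk_pow, QuotientGroup.mk_mul,
      (QuotientGroup.eq_one_iff n).mpr hn, one_mul, ← QuotientGroup.mk_pow, hs',
      QuotientGroup.mk_one]
  have hK : IsPGroup 2 h.rhoQ.ker := by
    rintro ⟨k, hk⟩
    obtain ⟨s, hs⟩ := hpow k
    refine ⟨s + 2, Subtype.ext ?_⟩
    show k ^ 2 ^ (s + 2) = 1
    rw [pow_add, pow_mul]
    apply h4 _ hs
    rw [map_pow, MonoidHom.mem_ker.mp hk, one_pow]
  have h5 := Lib.Cores.le_pCore (N := h.rhoQ.ker) inferInstance hK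
  rw [h.o2, le_bot_iff] at h5
  intro k hk
  have h6 : k ∈ h.rhoQ.ker := hk
  rwa [h5, mem_bot] at h6

theorem sysQ : Sys h.rhoQ E (fun x => (Zsp E c f).mkQ (cW E c x)) (fQ E c f) where
  tr := fun _ hx => h.trQ h.o2 hx
  conj := h.conj
  tra := h.tra
  ne := h.ne
  inj := h.injQ

theorem preQ : Pre h.rhoQ E (fun x => (Zsp E c f).mkQ (cW E c x)) (fQ E c f) T M where
  toSys := h.sysQ
  TM := h.TM
  M_ne := h.M_ne
  uniq := h.uniq
  o2 := h.o2

theorem exists_hyp : ∃ v0 f0, Hyp h.rhoQ E (fun x => (Zsp E c f).mkQ (cW E c x)) (fQ E c f)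
    T M v0 f0 := by
  obtain ⟨x, hx⟩ := h.ne
  obtain ⟨v0, -, hv0, hv0T⟩ := exists_fixed h.rhoQ T.isPGroup' ⊤
    (fun _ _ _ _ => AddSubgroup.mem_top _) (v := (Zsp E c f).mkQ (cW E c x))
    (AddSubgroup.mem_top _) (h.trQ h.o2 hx).c_ne
  obtain ⟨f0, -, hf0, hf0T⟩ := exists_fixed (mkRho (dualEnd h.rhoQ)) T.isPGroup' ⊤
    (fun _ _ _ _ => AddSubgroup.mem_top _) (v := fQ E c f x)
    (AddSubgroup.mem_top _) (h.trQ h.o2 hx).f_ne
  refine ⟨v0, f0, ?_⟩
  refine { toPre := h.preQ, fix := ?_, v0_ne := hv0, v0_fix := hv0T, f0_T := ?_, f0_not := ?_ }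
  · intro v hv
    obtain ⟨w, rfl⟩ := (Zsp E c f).mkQ_surjective v
    rw [Submodule.mkQ_apply, Submodule.Quotient.mk_eq_zero]
    intro e he
    have h1 := hv e
    rw [(h.trQ h.o2 he).act, fQ_mk he] at h1
    rcases z2 (f e (w : V)) with h2 | h2
    · exact h2
    · rw [h2, one_smul] at h1
      exact absurd (by simpa using h1) (h.trQ h.o2 he).c_ne
  · intro t ht v
    have h1 := hf0T t⁻¹ (inv_mem ht)
    have h2 : mkRho (dualEnd h.rhoQ) t⁻¹ f0 v = f0 v := by rw [h1]
    rwa [dual_apply, inv_inv] at h2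
  · by_contra hcon
    push Not at hcon
    apply hf0
    apply Submodule.linearMap_qext
    have hz : ∀ e ∈ E, f0 ((Zsp E c f).mkQ (cW E c e)) = 0 := by
      intro e he
      obtain ⟨v, hv⟩ := (h.trQ h.o2 he).exists_one
      have h1 := hcon e v
      rw [(h.trQ h.o2 he).act, hv, one_smul, map_add] at h1
      simpa using h1
    have hle : Wsp E c ≤ (LinearMap.ker (f0.comp (Zsp E c f).mkQ)).map (Wsp E c).subtype := by
      refine Submodule.span_le.mpr ?_
      rintro _ ⟨e, he, rfl⟩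
      refine ⟨cW E c e, ?_, by rw [cW_eq he]; rfl⟩
      exact hz e he
    ext w
    obtain ⟨w', hw', hww⟩ := hle w.2
    have : w' = w := Subtype.ext hww
    rw [← this]
    exact hw'

/-- **Theorem TV, combinatorial part, for an arbitrary faithful module.** -/
theorem out : Out ρ E c f T M := by
  obtain ⟨v0, f0, g⟩ := h.exists_hyp
  have hp : ∀ x ∈ E, ∀ y ∈ E, fQ E c f x ((Zsp E c f).mkQ (cW E c y)) = f x (c y) := by
    intro x hx y hy
    rw [fQ_mk hx, cW_eq hy]
  refine { toPre := h, sym := ?_, p_T := ?_, adj := ?_, mem_T := ?_, uniq_adj := ?_,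
           uniq_adjM := ?_, trans := ?_, transT := ?_, eq_or_conj := ?_, transD := ?_,
           third := ?_, eq_of_p := ?_ }
  · intro x hx y hy
    rw [← hp x hx y hy, ← hp y hy x hx]
    exact g.sym hx hy
  · intro x hx hxT y hy hyT
    rw [← hp x hx y hy]
    exact g.p_T hx hy hxT hyT
  · intro b hb hbM
    obtain ⟨e, he, heT, h1⟩ := g.exists_adj_T hb hbM
    exact ⟨e, he, heT, by rw [← hp b hb e he]; exact h1⟩
  · intro x hx h0
    exact g.mem_T_of_cent hx fun e he heT => (hp x hx e he).trans (h0 e he heT)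
  · intro b hb hbM e he heT e' he' heT' h1 h1'
    exact g.uniq_adj hb hbM he heT he' heT' ((hp b hb e he).trans h1) ((hp b hb e' he').trans h1')
  · intro b hb hbM e he heM e' he' heM' h0 h1 h1'
    exact g.uniq_adjM hb hbM he heM he' heM' ((hp e he e' he').trans h0)
      ((hp b hb e he).trans h1) ((hp b hb e' he').trans h1')
  · intro a ha haM b hb hbM d hd hdM h1 h2
    rw [← hp a ha d hd]
    exact g.trans ha haM hb hbM hd hdM ((hp a ha b hb).trans h1) ((hp b hb d hd).trans h2)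
  · intro e he heT e' he' heT'
    exact g.transT he heT he' heT'
  · intro b hb hbM d hd hdM e he heM h1 h2
    exact g.eq_or_conj hb hbM hd hdM he heM ((hp b hb e he).trans h1) ((hp d hd e he).trans h2)
  · intro b hb hbM d hd hdM
    exact g.transD hb hbM hd hdM
  · intro a ha haM b hb hbM h1
    exact g.third ha haM hb hbM ((hp a ha b hb).trans h1)
  · intro x hx y hy hxy
    apply g.eq_c hx hy
    rw [Submodule.mkQ_apply, Submodule.mkQ_apply, Submodule.Quotient.eq]
    intro z hz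
    show f z (((cW E c x : Wsp E c) : V) - ((cW E c y : Wsp E c) : V)) = 0
    rw [cW_eq hx, cW_eq hy, map_sub, hxy z hz, sub_self]

end Pre

end Cfsg.Agent.Omega.Tv

end

section


/-!
# The transvection half of the FF-theorem for minimal parabolics: offenders

helper670, OMEGA / FF.

`X = E ∩ T`, `J₀ = ⟨X⟩`.  For an abelian subgroup `A` of `T`: `|A| |C_V(A)| ≤ |V|`, and equality only
if `A ≤ J₀` (`Out.off`, `Out.off_eq`).  `Out.mem_J0`: an element of `T` centralising `X` lies in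
`J₀`.
-/

set_option autoImplicit false
set_option linter.unusedSectionVars false

namespace Cfsg.Agent.Omega.Tv

open Subgroup Cfsg

/-- `|X| = |ker f| |im f|` -/
theorem card_hom {X Y : Type*} [AddCommGroup X] [AddCommGroup Y] (f : X →+ Y) :
    Nat.card X = Nat.card f.range * Nat.card f.ker := by
  rw [AddSubgroup.card_eq_card_quotient_mul_card_addSubgroup f.ker,
    Nat.card_congr (QuotientAddGroup.quotientKerEquivRange f).toEquiv]

section Perm

variable {A X : Type*} [Group A] [MulAction A X]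

/-- the invariant functions -/
def inv2 (A X : Type*) [Group A] [MulAction A X] : AddSubgroup (X → ZMod 2) where
  carrier := {r | ∀ (a : A) x, r (a • x) = r x}
  zero_mem' := fun _ _ => rfl
  add_mem' := fun {r s} hr hs a x => by rw [Pi.add_apply, Pi.add_apply, hr, hs]
  neg_mem' := fun {r} hr a x => by rw [Pi.neg_apply, Pi.neg_apply, hr]

/-- An abelian group `A` acting on `X` with kernel `A₀`: `|A/A₀| |(𝔽₂^X)^A| ≤ |𝔽₂^X|`. -/
theorem card_perm [Finite A] [Finite X] (hab : ∀ a b : A, a * b = b * a) :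
    Nat.card A * Nat.card (inv2 A X) ≤
      Nat.card (MulAction.toPermHom A X).ker * Nat.card (X → ZMod 2) := by
  classical
  let rep : X → X := fun x => (Quotient.mk (MulAction.orbitRel A X) x).out
  have hrep : ∀ x, ∃ b : A, x = b • rep x := by
    intro x
    have h1 : (MulAction.orbitRel A X) (rep x) x := Quotient.mk_out (s := MulAction.orbitRel A X) x
    rw [MulAction.orbitRel_apply] at h1
    obtain ⟨b, hb⟩ := h1
    have hb' : b • x = rep x := hb
    exact ⟨b⁻¹, by rw [← hb', inv_smul_smul]⟩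
  have hrs : ∀ (b : A) x, rep (b • x) = rep x := by
    intro b x
    have h1 : Quotient.mk (MulAction.orbitRel A X) (b • x) =
        Quotient.mk (MulAction.orbitRel A X) x := Quotient.sound ⟨b, rfl⟩
    show (Quotient.mk (MulAction.orbitRel A X) (b • x)).out =
      (Quotient.mk (MulAction.orbitRel A X) x).out
    rw [h1]
  have hrr : ∀ x, rep (rep x) = rep x := by
    intro x
    obtain ⟨b, hb⟩ := hrep x
    conv_rhs => rw [hb, hrs]
  let ψ : A → X → ZMod 2 := fun a x => if x = a • rep x ∧ x ≠ rep x then 1 else 0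
  have key : ∀ a a' : A, ψ a + ψ a' ∈ inv2 A X → a⁻¹ * a' ∈ (MulAction.toPermHom A X).ker := by
    intro a a' hg
    have h0 : ∀ (d : A) x, ψ d (rep x) = 0 := by
      intro d x
      show (if rep x = d • rep (rep x) ∧ rep x ≠ rep (rep x) then (1 : ZMod 2) else 0) = 0
      rw [if_neg]
      rintro ⟨-, h1⟩
      exact h1 (hrr x).symm
    have h1 : ∀ x, ψ a x = ψ a' x := by
      intro x
      obtain ⟨b, hb⟩ := hrep x
      have h2 : (ψ a + ψ a') (b • rep x) = (ψ a + ψ a') (rep x) := hg b (rep x)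
      rw [← hb, Pi.add_apply, Pi.add_apply, h0, h0, add_zero] at h2
      rcases z2 (ψ a x) with h3 | h3 <;> rcases z2 (ψ a' x) with h4 | h4
      · rw [h3, h4]
      · rw [h3, h4, zero_add] at h2; exact absurd h2 one_ne_zero
      · rw [h3, h4, add_zero] at h2; exact absurd h2 one_ne_zero
      · rw [h3, h4]
    have h2 : ∀ (d : A) x, d • rep x ≠ rep x → ψ d (d • rep x) = 1 := by
      intro d x hd
      show (if d • rep x = d • rep (d • rep x) ∧ d • rep x ≠ rep (d • rep x) then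
        (1 : ZMod 2) else 0) = 1
      rw [if_pos]
      rw [hrs, hrr]
      exact ⟨rfl, hd⟩
    have h3 : ∀ (d d' : A) x, ψ d (d' • rep x) = 1 → d' • rep x = d • rep x := by
      intro d d' x hd
      by_contra hne
      have : ψ d (d' • rep x) = 0 := by
        show (if d' • rep x = d • rep (d' • rep x) ∧ d' • rep x ≠ rep (d' • rep x) then
          (1 : ZMod 2) else 0) = 0
        rw [if_neg]
        rintro ⟨h4, -⟩
        rw [hrs, hrr] at h4
        exact hne h4
      rw [this] at hd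
      exact zero_ne_one hd
    have h4 : ∀ x, a • rep x = a' • rep x := by
      intro x
      by_cases ha : a • rep x = rep x
      · by_cases ha' : a' • rep x = rep x
        · rw [ha, ha']
        · have h5 := h2 a' x ha'
          rw [← h1] at h5
          exact (h3 a a' x h5).symm
      · have h5 := h2 a x ha
        rw [h1] at h5
        exact h3 a' a x h5
    rw [MonoidHom.mem_ker]
    ext x
    show (a⁻¹ * a') • x = x
    obtain ⟨b, hb⟩ := hrep x
    rw [mul_smul, inv_smul_eq_iff]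
    rw [hb, ← mul_smul, ← mul_smul, hab a' b, hab a b, mul_smul, mul_smul, h4]
  let F : (A ⧸ (MulAction.toPermHom A X).ker) × inv2 A X → (X → ZMod 2) :=
    fun p => ψ p.1.out + p.2
  have hF : Function.Injective F := by
    rintro ⟨q, g⟩ ⟨q', g'⟩ hqg
    have h1 : ψ q.out + (g : X → ZMod 2) = ψ q'.out + (g' : X → ZMod 2) := hqg
    have h2 : ψ q.out + ψ q'.out = (g : X → ZMod 2) + g' := by
      ext x
      have h3 := congrFun h1 x
      simp only [Pi.add_apply] at h3 ⊢
      generalize ψ q.out x = u at h3 ⊢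
      generalize ψ q'.out x = v at h3 ⊢
      generalize (g : X → ZMod 2) x = y at h3 ⊢
      generalize (g' : X → ZMod 2) x = z at h3 ⊢
      revert u v y z
      decide
    have h3 : ψ q.out + ψ q'.out ∈ inv2 A X := by
      rw [h2]; exact AddSubgroup.add_mem _ g.2 g'.2
    have h4 := key _ _ h3
    have h5 : q = q' := by
      rw [← QuotientGroup.out_eq' q, ← QuotientGroup.out_eq' q']
      exact QuotientGroup.eq.mpr h4
    subst h5
    have h6 : (g : X → ZMod 2) = g' := add_left_cancel h1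
    rw [Subtype.ext h6]
  have h1 := Nat.card_le_card_of_injective F hF
  rw [Nat.card_prod] at h1
  rw [Subgroup.card_eq_card_quotient_mul_card_subgroup (MulAction.toPermHom A X).ker]
  calc _ = Nat.card (MulAction.toPermHom A X).ker *
        (Nat.card (A ⧸ (MulAction.toPermHom A X).ker) * Nat.card (inv2 A X)) := by ring
    _ ≤ _ := Nat.mul_le_mul_left _ h1

end Perm

variable {H : Type*} [Group H] {V : Type*} [AddCommGroup V] [Module (ZMod 2) V]
  {ρ : H →* (V ≃ₗ[ZMod 2] V)} {E : Set H} {c : H → V} {f : H → V →ₗ[ZMod 2] ZMod 2}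
  {T : Sylow 2 H} {M : Subgroup H}

/-- `E ∩ T` -/
abbrev XT (E : Set H) (T : Sylow 2 H) : Type _ := {e : H // e ∈ E ∧ e ∈ T}

/-- `(r_e) ↦ ∑ r_e c_e` -/
noncomputable def del (E : Set H) (T : Sylow 2 H) (c : H → V) [Fintype (XT E T)] :
    (XT E T → ZMod 2) →+ V where
  toFun r := ∑ e, r e • c e
  map_zero' := by simp
  map_add' r s := by
    rw [← Finset.sum_add_distrib]
    exact Finset.sum_congr rfl fun e _ => by rw [Pi.add_apply, add_smul]

/-- `v ↦ (f_e(v))` -/
def Phi (E : Set H) (T : Sylow 2 H) (f : H → V →ₗ[ZMod 2] ZMod 2) :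
    V →+ (XT E T → ZMod 2) where
  toFun v := fun e => f e v
  map_zero' := by ext e; exact map_zero _
  map_add' v w := by ext e; exact map_add _ _ _

namespace Out

variable [Finite H] (h : Out ρ E c f T M)

include h

theorem exists_b (e : XT E T) : ∃ b ∈ E, b ∉ M ∧ f b (c e) = 1 := by
  obtain ⟨b, hb, hbM⟩ := h.exists_not_mem
  obtain ⟨e0, he0, he0T, h1⟩ := h.adj b hb hbM
  obtain ⟨t, ht, h2⟩ := h.transT e0 he0 he0T e e.2.1 e.2.2
  refine ⟨t * b * t⁻¹, h.conj b hb t, conj_notM hbM (h.TM ht), ?_⟩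
  rw [h2, h.p_conj hb he0, h1]

/-- a member of `Δ` adjacent to `e` -/
noncomputable def bb (e : XT E T) : H := (h.exists_b e).choose

theorem bbE (e : XT E T) : h.bb e ∈ E := (h.exists_b e).choose_spec.1

theorem bbM (e : XT E T) : h.bb e ∉ M := (h.exists_b e).choose_spec.2.1

theorem bb1 (e : XT E T) : f (h.bb e) (c e) = 1 := (h.exists_b e).choose_spec.2.2

theorem bb0 (e e' : XT E T) (hne : e' ≠ e) : f (h.bb e) (c e') = 0 := by
  rcases z2 (f (h.bb e) (c e')) with h1 | h1
  · exact h1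
  · exact absurd (Subtype.ext (h.uniq_adj _ (h.bbE e) (h.bbM e) e' e'.2.1 e'.2.2 e e.2.1 e.2.2 h1
      (h.bb1 e))) hne

open Classical in
theorem bb_eq (e e' : XT E T) : f (h.bb e) (c e') = if e' = e then 1 else 0 := by
  by_cases he : e' = e
  · subst he; rw [if_pos rfl]; exact h.bb1 e'
  · rw [if_neg he]; exact h.bb0 e e' he

open Classical in
theorem bb_eq' (e e' : XT E T) : f (e' : H) (c (h.bb e)) = if e' = e then 1 else 0 := by
  rw [h.sym e' e'.2.1 _ (h.bbE e)]
  exact h.bb_eq e e'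

omit [Finite H] in
theorem cj_mem {t : H} (ht : t ∈ T) (e : XT E T) : t * e * t⁻¹ ∈ E ∧ t * e * t⁻¹ ∈ T :=
  ⟨h.conj e e.2.1 t, conjT ht e.2.2⟩

/-- `T` acts on `E ∩ T` -/
def cj {t : H} (ht : t ∈ T) (e : XT E T) : XT E T := ⟨t * e * t⁻¹, h.cj_mem ht e⟩

theorem f_bb_del [Fintype (XT E T)] (r : XT E T → ZMod 2) (e : XT E T) :
    f (h.bb e) (del E T c r) = r e := by
  classical
  show f (h.bb e) (∑ e, r e • c e) = r e
  rw [map_sum, Finset.sum_eq_single e]
  · rw [map_smul, h.bb1, smul_eq_mul, mul_one]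
  · intro e' _ hne
    rw [map_smul, h.bb0 e e' hne, smul_zero]
  · intro hn
    exact absurd (Finset.mem_univ e) hn

theorem del_inj [Fintype (XT E T)] : Function.Injective (del E T c) := by
  intro r s hrs
  ext e
  rw [← h.f_bb_del r e, hrs, h.f_bb_del]

theorem del_ker [Fintype (XT E T)] (r : XT E T → ZMod 2) : Phi E T f (del E T c r) = 0 := by
  ext e
  show f e (∑ e, r e • c e) = 0
  rw [map_sum]
  refine Finset.sum_eq_zero fun e' _ => ?_
  rw [map_smul, h.p_T e e.2.1 e.2.2 e' e'.2.1 e'.2.2, smul_zero]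

theorem Phi_surj : Function.Surjective (Phi E T f) := by
  classical
  have : Fintype (XT E T) := Fintype.ofFinite _
  intro r
  refine ⟨∑ e, r e • c (h.bb e), ?_⟩
  ext e
  show f e (∑ e, r e • c (h.bb e)) = r e
  rw [map_sum, Finset.sum_eq_single e]
  · rw [map_smul, h.bb_eq', if_pos rfl, smul_eq_mul, mul_one]
  · intro e' _ hne
    rw [map_smul, h.bb_eq', if_neg (Ne.symm hne), smul_zero]
  · intro hn
    exact absurd (Finset.mem_univ e) hn

/-! ### Elements of `T` centralising `X` -/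

/-- For `a ∈ T` centralising `e`, and `b ∈ Δ` adjacent to `e`: `a b a⁻¹ = b` or `e b e⁻¹`. -/
theorem a_bb {a b : H} {e : XT E T} (ha : a ∈ T) (hae : a * e * a⁻¹ = e) (hb : b ∈ E)
    (hbM : b ∉ M) (h1 : f b (c e) = 1) : a * b * a⁻¹ = b ∨ a * b * a⁻¹ = e * b * (e : H)⁻¹ := by
  apply h.eq_or_conj b hb hbM _ (h.conj b hb a) (conj_notM hbM (h.TM ha)) e e.2.1
    (h.TM e.2.2) h1
  have h2 : f (a * b * a⁻¹) (c (a * e * a⁻¹)) = 1 := by rw [h.p_conj hb e.2.1, h1]
  rwa [hae] at h2

/-- `σ_e(a)` -/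
noncomputable def sg (a : H) : XT E T → ZMod 2 := fun e => f (h.bb e) (ρ a (c (h.bb e)))

/-- `ρ a c_b = c_b + σ_e(a) c_e` for all `b ∈ Δ` adjacent to `e`. -/
theorem act_b {a b : H} {e : XT E T} (ha : a ∈ T) (hae : a * e * a⁻¹ = e) (hb : b ∈ E)
    (hbM : b ∉ M) (h1 : f b (c e) = 1) : ρ a (c b) = c b + h.sg a e • c e := by
  have hce : ρ a (c e) = c e := by
    rw [← h.c_conj e.2.1 a, hae]
  -- first for `b = bb e`
  have key : ρ a (c (h.bb e)) = c (h.bb e) + h.sg a e • c e := by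
    rcases h.a_bb ha hae (h.bbE e) (h.bbM e) (h.bb1 e) with h2 | h2
    · have h3 : ρ a (c (h.bb e)) = c (h.bb e) := by rw [← h.c_conj (h.bbE e) a, h2]
      have h4 : h.sg a e = 0 := by
        show f (h.bb e) (ρ a (c (h.bb e))) = 0
        rw [h3, h.pself (h.bbE e)]
      rw [h3, h4, zero_smul, add_zero]
    · have h3 : ρ a (c (h.bb e)) = c (h.bb e) + c e := by
        rw [← h.c_conj (h.bbE e) a, h2, h.c_conj' (h.bbE e) e.2.1,
          h.sym e e.2.1 _ (h.bbE e), h.bb1, one_smul]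
      have h4 : h.sg a e = 1 := by
        show f (h.bb e) (ρ a (c (h.bb e))) = 1
        rw [h3, map_add, h.pself (h.bbE e), h.bb1, zero_add]
      rw [h3, h4, one_smul]
  rcases h.eq_or_conj _ (h.bbE e) (h.bbM e) b hb hbM e e.2.1 (h.TM e.2.2) (h.bb1 e) h1 with
    h2 | h2
  · rw [h2]; exact key
  · rw [h2, h.c_conj' (h.bbE e) e.2.1, map_add, key, map_smul, hce]
    abel

theorem sg_mul {a a' : H} (ha : a ∈ T) (ha' : a' ∈ T) (hX : ∀ e : XT E T, a * e * a⁻¹ = e)
    (hX' : ∀ e : XT E T, a' * e * a'⁻¹ = e) : h.sg (a * a') = h.sg a + h.sg a' := by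
  ext e
  show f (h.bb e) (ρ (a * a') (c (h.bb e))) = h.sg a e + h.sg a' e
  rw [rmul, h.act_b ha' (hX' e) (h.bbE e) (h.bbM e) (h.bb1 e), map_add, map_smul,
    h.act_b ha (hX e) (h.bbE e) (h.bbM e) (h.bb1 e)]
  have : ρ a (c e) = c e := by rw [← h.c_conj e.2.1 a, hX e]
  rw [this, map_add, map_add, map_smul, map_smul, h.pself (h.bbE e), h.bb1, zero_add, smul_eq_mul,
    smul_eq_mul, mul_one, mul_one]

/-- The centraliser of `⟨Δ⟩` is trivial. -/
theorem eq_one_of_commD {a : H} (ha : ∀ b ∈ E, b ∉ M → a * b = b * a) : a = 1 := by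
  set N := closure (E \ (M : Set H)) with hN
  have hNn : N.Normal := h.normalD
  have hC : (centralizer (N : Set H)).Normal := by
    constructor
    intro x hx g
    rw [mem_centralizer_iff] at hx ⊢
    intro n hn
    have h1 := hx (g⁻¹ * n * g) (by simpa using hNn.conj_mem n hn g⁻¹)
    calc n * (g * x * g⁻¹) = g * ((g⁻¹ * n * g) * x) * g⁻¹ := by group
      _ = g * (x * (g⁻¹ * n * g)) * g⁻¹ := by rw [h1]
      _ = g * x * g⁻¹ * n := by group
  have haC : a ∈ centralizer (N : Set H) := by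
    have : N ≤ centralizer {a} := by
      rw [hN, closure_le]
      rintro b ⟨hb, hbM⟩
      rw [SetLike.mem_coe, mem_centralizer_singleton_iff]
      exact (ha b hb hbM).symm
    rw [mem_centralizer_iff]
    intro n hn
    exact mem_centralizer_singleton_iff.mp (this hn)
  -- `Z(N)` is a 2-group: it acts trivially on ... ; we use `H = N T`
  have hpow : ∀ g : H, ∃ s : ℕ, g ^ 2 ^ s ∈ N := by
    intro g
    have hg : g ∈ N ⊔ (T : Subgroup H) := by rw [h.sup_T]; exact mem_top g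
    obtain ⟨n, hn, t, ht, rfl⟩ := mem_sup_of_normal_left.mp hg
    obtain ⟨s, hs⟩ := T.isPGroup' ⟨t, ht⟩
    have hs' : t ^ 2 ^ s = 1 := congrArg Subtype.val hs
    refine ⟨s, ?_⟩
    rw [← QuotientGroup.eq_one_iff, QuotientGroup.mk_pow, QuotientGroup.mk_mul,
      (QuotientGroup.eq_one_iff n).mpr hn, one_mul, ← QuotientGroup.mk_pow, hs',
      QuotientGroup.mk_one]
  -- an element of `N` centralising `N` fixes all centres, all axes; so it has order ≤ 2
  have hsq : ∀ g ∈ N, g ∈ centralizer (N : Set H) → g * g = 1 := by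
    intro g hg hgC
    have hc : ∀ x ∈ E, ρ g (c x) = c x := by
      intro x hx
      rw [← h.c_conj hx g]
      have h1 := mem_centralizer_iff.mp hgC x (h.mem_closureD hx)
      rw [← h1, mul_inv_cancel_right]
    -- g v + v ∈ W is fixed by g
    have hW : ∀ n ∈ N, ∀ v, ρ n v + v ∈ Wsp E c := by
      intro n hn
      induction hn using closure_induction with
      | mem x hx =>
        intro v
        rw [h.act hx.1]
        have : v + f x v • c x + v = f x v • c x := by
          rw [add_right_comm, v_add_self, zero_add]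
        rw [this]
        exact Submodule.smul_mem _ _ (c_mem hx.1)
      | one =>
        intro v
        rw [rone, v_add_self]
        exact Submodule.zero_mem _
      | mul x y _ _ hx hy =>
        intro v
        rw [rmul]
        have : ρ x (ρ y v) + v = (ρ x (ρ y v) + ρ y v) + (ρ y v + v) := by
          rw [add_assoc, ← add_assoc (ρ y v), v_add_self, zero_add]
        rw [this]
        exact Submodule.add_mem _ (hx _) (hy _)
      | inv x _ hx =>
        intro v
        have := hx (ρ x⁻¹ v)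
        rwa [rinv', add_comm] at this
    have hfix : ∀ w ∈ Wsp E c, ρ g w = w := by
      intro w hw
      induction hw using Submodule.span_induction with
      | mem x hx => obtain ⟨y, hy, rfl⟩ := hx; exact hc y hy
      | zero => exact map_zero _
      | add x y _ _ hx hy => rw [map_add, hx, hy]
      | smul r x _ hx => rw [map_smul, hx]
    apply h.eq_one_of_act
    intro v
    have h1 := hfix _ (hW g hg v)
    rw [map_add] at h1
    have h2 : ρ g (ρ g v) = ρ g v + v + ρ g v := by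
      rw [← h1, add_assoc, v_add_self, add_zero]
    rw [rmul, h2, add_right_comm, v_add_self, zero_add]
  have hK : IsPGroup 2 (centralizer (N : Set H)) := by
    rintro ⟨k, hk⟩
    obtain ⟨s, hs⟩ := hpow k
    refine ⟨s + 1, Subtype.ext ?_⟩
    show k ^ 2 ^ (s + 1) = 1
    rw [pow_succ, pow_mul, pow_two]
    exact hsq _ hs (pow_mem hk _)
  have h5 := Lib.Cores.le_pCore hC hK
  rw [h.o2, le_bot_iff] at h5
  rwa [h5, mem_bot] at haC

theorem sg_inj {a : H} (ha : a ∈ T) (hX : ∀ e : XT E T, a * e * a⁻¹ = e) (h0 : h.sg a = 0) :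
    a = 1 := by
  apply h.eq_one_of_commD
  intro b hb hbM
  obtain ⟨e, he, heT, h1⟩ := h.adj b hb hbM
  have h2 := h.act_b (e := ⟨e, he, heT⟩) ha (hX _) hb hbM h1
  rw [h0, Pi.zero_apply, zero_smul, add_zero, ← h.c_conj hb a] at h2
  -- `a b a⁻¹` and `b` have the same centre
  rcases h.a_bb (e := ⟨e, he, heT⟩) ha (hX _) hb hbM h1 with h3 | h3
  · exact mul_inv_eq_iff_eq_mul.mp h3
  · exfalso
    have h3' : a * b * a⁻¹ = e * b * e⁻¹ := h3
    have hs : f e (c b) = 1 := by rw [h.sym e he b hb, h1]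
    rw [h3', h.c_conj' hb he, hs, one_smul] at h2
    exact (h.tr e he).c_ne (by simpa using h2)

open Classical in
theorem sg_X (e : XT E T) : h.sg (e : H) = Pi.single e 1 := by
  ext e'
  show f (h.bb e') (ρ (e : H) (c (h.bb e'))) = _
  rw [h.act e.2.1, map_add, map_smul, h.pself (h.bbE e'), zero_add, h.bb_eq', h.bb_eq,
    smul_eq_mul, Pi.single_apply]
  by_cases he : e = e'
  · subst he; simp
  · rw [if_neg he, zero_mul, if_neg (Ne.symm he)]

theorem X_comm (e e' : XT E T) : (e : H) * e' * (e : H)⁻¹ = e' := by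
  have h1 := h.comm_of e'.2.1 e.2.1 (h.p_T _ e'.2.1 e'.2.2 _ e.2.1 e.2.2)
    (h.p_T _ e.2.1 e.2.2 _ e'.2.1 e'.2.2)
  rw [h1, mul_inv_cancel_right]

/-- `J₀ = ⟨E ∩ T⟩` -/
def J0 (E : Set H) (T : Sylow 2 H) : Subgroup H := closure {e | e ∈ E ∧ e ∈ T}

omit [Finite H] h in
theorem J0_le : J0 E T ≤ (T : Subgroup H) := (closure_le _).mpr fun _ he => he.2

theorem J0_comm {j : H} (hj : j ∈ J0 E T) (e : XT E T) : j * e * j⁻¹ = e := by
  have : J0 E T ≤ centralizer {(e : H)} := by
    refine (closure_le _).mpr fun x hx => ?_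
    rw [SetLike.mem_coe, mem_centralizer_singleton_iff]
    have := h.X_comm ⟨x, hx⟩ e
    exact mul_inv_eq_iff_eq_mul.mp this
  rw [mul_inv_eq_iff_eq_mul]
  exact mem_centralizer_singleton_iff.mp (this hj)

theorem exists_J0 (r : XT E T → ZMod 2) : ∃ j ∈ J0 E T, h.sg j = r := by
  classical
  have : Fintype (XT E T) := Fintype.ofFinite _
  let R : AddSubgroup (XT E T → ZMod 2) :=
    { carrier := {r | ∃ j ∈ J0 E T, h.sg j = r}
      zero_mem' := by
        refine ⟨1, one_mem _, ?_⟩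
        ext e
        show f (h.bb e) (ρ 1 (c (h.bb e))) = 0
        rw [rone, h.pself (h.bbE e)]
      add_mem' := by
        rintro r s ⟨j, hj, rfl⟩ ⟨k, hk, rfl⟩
        exact ⟨j * k, mul_mem hj hk, h.sg_mul (J0_le hj) (J0_le hk) (h.J0_comm hj)
          (h.J0_comm hk)⟩
      neg_mem' := by
        rintro r ⟨j, hj, rfl⟩
        refine ⟨j, hj, ?_⟩
        rw [ZModModule.neg_eq_self] }
  have hs : ∀ e : XT E T, Pi.single e (1 : ZMod 2) ∈ R := fun e =>
    ⟨e, subset_closure e.2, h.sg_X e⟩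
  have : r ∈ R := by
    have h1 : r = ∑ e, Pi.single e (r e) := (Finset.univ_sum_single r).symm
    rw [h1]
    refine AddSubgroup.sum_mem _ fun e _ => ?_
    rcases z2 (r e) with h2 | h2
    · rw [h2, Pi.single_zero]; exact R.zero_mem
    · rw [h2]; exact hs e
  exact this

/-- An element of `T` centralising `E ∩ T` lies in `⟨E ∩ T⟩`. -/
theorem mem_J0 {a : H} (ha : a ∈ T) (hX : ∀ e : XT E T, a * e * a⁻¹ = e) : a ∈ J0 E T := by
  obtain ⟨j, hj, hja⟩ := h.exists_J0 (h.sg a)
  have h1 : a * j = 1 := by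
    apply h.sg_inj (mul_mem ha (J0_le hj))
    · intro e
      have : a * j * e * (a * j)⁻¹ = a * (j * e * j⁻¹) * a⁻¹ := by group
      rw [this, h.J0_comm hj, hX]
    · rw [h.sg_mul ha (J0_le hj) hX (h.J0_comm hj), hja]
      ext e
      exact z2_add_self _
  rw [eq_inv_of_mul_eq_one_left h1]
  exact inv_mem hj

/-! ### The inequality -/

omit [Finite H] in
/-- `A` acts on `E ∩ T`. -/
@[reducible] def actX {A : Subgroup H} (hA : A ≤ (T : Subgroup H)) : MulAction A (XT E T) where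
  smul a e := h.cj (hA a.2) e
  one_smul e := Subtype.ext (by
    show (1 : H) * e * (1 : H)⁻¹ = e
    simp)
  mul_smul a b e := Subtype.ext (by
    show ((a : H) * b) * e * ((a : H) * b)⁻¹ = a * (b * e * (b : H)⁻¹) * (a : H)⁻¹
    group)

/-- `C_V(A)` -/
def cv (ρ : H →* (V ≃ₗ[ZMod 2] V)) (A : Subgroup H) : AddSubgroup V where
  carrier := {v | ∀ a ∈ A, ρ a v = v}
  zero_mem' := fun _ _ => map_zero _
  add_mem' := fun {v w} hv hw a ha => by rw [map_add, hv a ha, hw a ha]
  neg_mem' := fun {v} hv a ha => by rw [map_neg, hv a ha]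

theorem Phi_inv {A : Subgroup H} (hA : A ≤ (T : Subgroup H)) {v : V} (hv : v ∈ cv ρ A) {a : H}
    (ha : a ∈ A) (e : XT E T) : Phi E T f v (h.cj (hA ha) e) = Phi E T f v e := by
  show f (a * e * a⁻¹) v = f e v
  rw [h.f_conj e.2.1, hv a⁻¹ (inv_mem ha)]

theorem off_aux {A : Subgroup H} (hA : A ≤ (T : Subgroup H))
    (hab : ∀ a ∈ A, ∀ b ∈ A, a * b = b * a) [Finite V] :
    ∃ u : ℕ, 0 < u ∧ u * (Nat.card A * Nat.card (cv ρ A)) ≤ Nat.card V ∧
      (u = 1 → A ≤ J0 E T) := by
  classical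
  have : Fintype (XT E T) := Fintype.ofFinite _
  let _ := h.actX hA
  set R := XT E T → ZMod 2 with hR
  set RA : AddSubgroup R := inv2 A (XT E T) with hRA
  set A0 := (MulAction.toPermHom A (XT E T)).ker with hA0
  have hA0' : ∀ a : A, a ∈ A0 ↔ ∀ e : XT E T, (a : H) * e * (a : H)⁻¹ = e := by
    intro a
    rw [hA0, MonoidHom.mem_ker]
    constructor
    · intro h1 e
      have h2 := congrArg (fun σ : Equiv.Perm (XT E T) => σ e) h1
      exact congrArg Subtype.val h2
    · intro h1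
      ext e
      exact h1 e
  have c1 : Nat.card A * Nat.card RA ≤ Nat.card A0 * Nat.card R :=
    card_perm fun a b => Subtype.ext (hab a a.2 b b.2)
  -- (3)
  have c3 : Nat.card A0 * Nat.card ((cv ρ A).map (Phi E T f)) ≤ Nat.card RA := by
    have hsg : ∀ a : A0, h.sg ((a : A) : H) ∈ RA := by
      intro a b e
      -- conjugate by b
      have haT : ((a : A) : H) ∈ T := hA (a : A).2
      have hbT : (b : H) ∈ T := hA b.2
      have hX := (hA0' a).mp a.2
      have hab' : (b : H) * ((a : A) : H) * (b : H)⁻¹ = ((a : A) : H) := by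
        rw [hab b b.2 _ (a : A).2, mul_inv_cancel_right]
      have h1 := h.act_b (e := e) haT (hX e) (h.bbE e) (h.bbM e) (h.bb1 e)
      have h2 : f ((b : H) * h.bb e * (b : H)⁻¹) (c (h.cj hbT e)) = 1 := by
        show f ((b : H) * h.bb e * (b : H)⁻¹) (c ((b : H) * e * (b : H)⁻¹)) = 1
        rw [h.p_conj (h.bbE e) e.2.1, h.bb1]
      have h3 := h.act_b (e := h.cj hbT e) haT (hX _) (h.conj _ (h.bbE e) b)
        (conj_notM (h.bbM e) (h.TM hbT)) h2
      have h4 : ρ (b : H) (ρ ((a : A) : H) (c (h.bb e))) =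
          ρ ((a : A) : H) (ρ (b : H) (c (h.bb e))) := by
        rw [← rmul, ← rmul, hab b b.2 _ (a : A).2]
      have h5 : c ((b : H) * e * (b : H)⁻¹) = ρ (b : H) (c e) := h.c_conj e.2.1 b
      have h6 : c ((h.cj hbT e : XT E T) : H) = ρ (b : H) (c e) := h5
      rw [h.c_conj (h.bbE e)] at h3
      rw [h1, map_add, map_smul, h3, h6] at h4
      have h7 : h.sg ((a : A) : H) e • ρ (b : H) (c e) =
          h.sg ((a : A) : H) (h.cj hbT e) • ρ (b : H) (c e) := add_left_cancel h4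
      have hne : ρ (b : H) (c e) ≠ 0 := by
        rw [← h5]; exact (h.tr _ (h.cj_mem hbT e).1).c_ne
      show h.sg ((a : A) : H) (h.cj hbT e) = h.sg ((a : A) : H) e
      rcases z2 (h.sg ((a : A) : H) e) with h8 | h8 <;>
        rcases z2 (h.sg ((a : A) : H) (h.cj hbT e)) with h9 | h9
      · rw [h8, h9]
      · rw [h8, h9, zero_smul, one_smul] at h7; exact absurd h7.symm hne
      · rw [h8, h9, zero_smul, one_smul] at h7; exact absurd h7 hne
      · rw [h8, h9]
    have hPh : ∀ g : (cv ρ A).map (Phi E T f), (g : R) ∈ RA := by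
      rintro ⟨_, v, hv, rfl⟩ a e
      exact h.Phi_inv hA hv a.2 e
    -- the product of Φ(v) and σ(a) vanishes
    have hmul : ∀ (a : A0) (v : V), v ∈ cv ρ A → ∀ e : XT E T, h.sg ((a : A) : H) e = 1 →
        Phi E T f v e = 0 := by
      intro a v hv e h1
      have haT : ((a : A) : H) ∈ T := hA (a : A).2
      have hX := (hA0' a).mp a.2
      have h2 := h.act_b (e := e) haT (hX e) (h.bbE e) (h.bbM e) (h.bb1 e)
      rcases h.a_bb haT (hX e) (h.bbE e) (h.bbM e) (h.bb1 e) with h3 | h3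
      · exfalso
        rw [← h.c_conj (h.bbE e), h3, h1, one_smul] at h2
        exact (h.tr e e.2.1).c_ne (by simpa using h2.symm)
      · have h4 : f (((a : A) : H) * h.bb e * ((a : A) : H)⁻¹) v = f (h.bb e) v := by
          rw [h.f_conj (h.bbE e), hv _ (inv_mem (a : A).2)]
        rw [h3, h.f_conj' (h.bbE e) e.2.1, h.bb1, mul_one] at h4
        show f e v = 0
        simpa using h4
    let F : A0 × ((cv ρ A).map (Phi E T f)) → RA := fun p =>
      ⟨(p.2 : R) + h.sg ((p.1 : A) : H), AddSubgroup.add_mem _ (hPh p.2) (hsg p.1)⟩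
    have hF : Function.Injective F := by
      rintro ⟨a, ⟨_, v, hv, rfl⟩⟩ ⟨a', ⟨_, v', hv', rfl⟩⟩ heq
      have h1 : Phi E T f v + h.sg ((a : A) : H) = Phi E T f v' + h.sg ((a' : A) : H) :=
        congrArg Subtype.val heq
      -- σ(a a') = Φ(v + v')
      have h2 : h.sg (((a * a' : A0) : A) : H) = h.sg ((a : A) : H) + h.sg ((a' : A) : H) :=
        h.sg_mul (hA (a : A).2) (hA (a' : A).2) ((hA0' a).mp a.2) ((hA0' a').mp a'.2)
      have h3 : Phi E T f (v + v') = h.sg (((a * a' : A0) : A) : H) := by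
        rw [map_add, h2]
        ext e
        have h4 := congrFun h1 e
        simp only [Pi.add_apply] at h4 ⊢
        generalize Phi E T f v e = u at h4 ⊢
        generalize Phi E T f v' e = u' at h4 ⊢
        generalize h.sg ((a : A) : H) e = y at h4 ⊢
        generalize h.sg ((a' : A) : H) e = z at h4 ⊢
        revert u u' y z
        decide
      have h4 : h.sg (((a * a' : A0) : A) : H) = 0 := by
        ext e
        rcases z2 (h.sg (((a * a' : A0) : A) : H) e) with h5 | h5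
        · exact h5
        · have h6 := hmul (a * a') (v + v') (AddSubgroup.add_mem _ hv hv') e h5
          rw [h3] at h6
          exact h6
      have h5 : (((a * a' : A0) : A) : H) = 1 :=
        h.sg_inj (hA ((a * a' : A0) : A).2) ((hA0' _).mp (a * a').2) h4
      have h7 : h.sg ((a : A) : H) = h.sg ((a' : A) : H) := by
        rw [h4] at h2
        ext e
        have h8 := congrFun h2 e
        simp only [Pi.zero_apply, Pi.add_apply] at h8
        generalize h.sg ((a : A) : H) e = y at h8 ⊢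
        generalize h.sg ((a' : A) : H) e = z at h8 ⊢
        revert y z
        decide
      -- a = a'
      have h9 : ((a : A) : H) * (((a' : A) : H))⁻¹ = 1 := by
        apply h.sg_inj (mul_mem (hA (a : A).2) (inv_mem (hA (a' : A).2)))
        · intro e
          exact (hA0' (a * a'⁻¹ : A0)).mp (a * a'⁻¹).2 e
        · have h10 : h.sg ((a : A) : H) =
              h.sg (((a : A) : H) * (((a' : A) : H))⁻¹ * ((a' : A) : H)) := by
            rw [inv_mul_cancel_right]
          rw [h.sg_mul (mul_mem (hA (a : A).2) (inv_mem (hA (a' : A).2))) (hA (a' : A).2)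
            (fun e => (hA0' (a * a'⁻¹ : A0)).mp (a * a'⁻¹).2 e) ((hA0' a').mp a'.2), h7] at h10
          simpa using h10.symm
      have h11 : a = a' := by
        apply Subtype.ext
        apply Subtype.ext
        exact mul_inv_eq_one.mp h9
      subst h11
      have h12 : Phi E T f v = Phi E T f v' := add_right_cancel h1
      congr 1
      exact Subtype.ext h12
    have h1 := Nat.card_le_card_of_injective F hF
    rwa [Nat.card_prod] at h1
  -- (4)
  have c4 : Nat.card ((Phi E T f).ker ⊓ cv ρ A : AddSubgroup V) * Nat.card R ≤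
      Nat.card (Phi E T f).ker * Nat.card RA := by
    have hdel : ∀ r : R, del E T c r ∈ cv ρ A → r ∈ RA := by
      intro r hr a e
      have haT : (a : H) ∈ T := hA a.2
      -- apply `f (bb (a e))`
      have h1 := hr a a.2
      have h2 : f ((a : H) * h.bb e * (a : H)⁻¹) (del E T c r) = r (h.cj haT e) := by
        show f _ (∑ e, r e • c e) = _
        rw [map_sum, Finset.sum_eq_single (h.cj haT e)]
        · have h3 : f ((a : H) * h.bb e * (a : H)⁻¹) (c (h.cj haT e)) = 1 := by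
            show f ((a : H) * h.bb e * (a : H)⁻¹) (c ((a : H) * e * (a : H)⁻¹)) = 1
            rw [h.p_conj (h.bbE e) e.2.1, h.bb1]
          rw [map_smul, h3, smul_eq_mul, mul_one]
        · intro e' _ hne
          have h3 : f ((a : H) * h.bb e * (a : H)⁻¹) (c e') = 0 := by
            rcases z2 (f ((a : H) * h.bb e * (a : H)⁻¹) (c e')) with h4 | h4
            · exact h4
            · exfalso
              apply hne
              apply Subtype.ext
              refine h.uniq_adj _ (h.conj _ (h.bbE e) a) (conj_notM (h.bbM e) (h.TM haT)) e'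
                e'.2.1 e'.2.2 _ (h.cj_mem haT e).1 (h.cj_mem haT e).2 h4 ?_
              show f ((a : H) * h.bb e * (a : H)⁻¹) (c ((a : H) * e * (a : H)⁻¹)) = 1
              rw [h.p_conj (h.bbE e) e.2.1, h.bb1]
          rw [map_smul, h3, smul_zero]
        · intro hn
          exact absurd (Finset.mem_univ _) hn
      have h3 : f ((a : H) * h.bb e * (a : H)⁻¹) (del E T c r) = r e := by
        rw [h.f_conj (h.bbE e), hr _ (inv_mem a.2), h.f_bb_del]
      show r (h.cj haT e) = r e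
      rw [← h2, h3]
    let F : ((Phi E T f).ker ⊓ cv ρ A : AddSubgroup V) × (R ⧸ RA) → (Phi E T f).ker := fun p =>
      ⟨(p.1 : V) + del E T c p.2.out, AddSubgroup.add_mem _ p.1.2.1 (h.del_ker _)⟩
    have hF : Function.Injective F := by
      rintro ⟨⟨z, hz1, hz2⟩, q⟩ ⟨⟨z', hz1', hz2'⟩, q'⟩ heq
      have h1 : z + del E T c q.out = z' + del E T c q'.out := congrArg Subtype.val heq
      have h2 : del E T c (-q.out + q'.out) = z + -z' := by
        rw [map_add, map_neg, ZModModule.neg_eq_self, ZModModule.neg_eq_self]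
        have h3 : z + (z + del E T c q.out) + del E T c q'.out =
            z + (z' + del E T c q'.out) + del E T c q'.out := by rw [h1]
        rw [← add_assoc z z, v_add_self, zero_add] at h3
        rw [h3, add_assoc, add_assoc, v_add_self, add_zero]
      have h3 : -q.out + q'.out ∈ RA := by
        apply hdel
        rw [h2]
        exact AddSubgroup.add_mem _ hz2 (AddSubgroup.neg_mem _ hz2')
      have h4 : q = q' := by
        rw [← QuotientAddGroup.out_eq' q, ← QuotientAddGroup.out_eq' q']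
        exact QuotientAddGroup.eq.mpr h3
      subst h4
      have h5 : z = z' := add_right_cancel h1
      subst h5
      rfl
    have h1 := Nat.card_le_card_of_injective F hF
    rw [Nat.card_prod] at h1
    rw [AddSubgroup.card_eq_card_quotient_mul_card_addSubgroup RA, ← mul_assoc]
    exact Nat.mul_le_mul_right _ h1
  -- total
  have t1 : Nat.card V = Nat.card R * Nat.card (Phi E T f).ker := by
    rw [card_hom (Phi E T f), AddMonoidHom.range_eq_top.mpr h.Phi_surj,
      Nat.card_congr AddSubgroup.topEquiv.toEquiv]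
  have t2 : Nat.card (cv ρ A) = Nat.card ((cv ρ A).map (Phi E T f)) *
      Nat.card ((Phi E T f).ker ⊓ cv ρ A : AddSubgroup V) := by
    have h1 := card_hom ((Phi E T f).comp (cv ρ A).subtype)
    have h2 : ((Phi E T f).comp (cv ρ A).subtype).range = (cv ρ A).map (Phi E T f) := by
      ext r
      constructor
      · rintro ⟨v, rfl⟩; exact ⟨v, v.2, rfl⟩
      · rintro ⟨v, hv, rfl⟩; exact ⟨⟨v, hv⟩, rfl⟩
    have h3 : Nat.card ((Phi E T f).comp (cv ρ A).subtype).ker =
        Nat.card ((Phi E T f).ker ⊓ cv ρ A : AddSubgroup V) := by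
      refine Nat.card_congr ⟨fun v => ⟨(v : cv ρ A), v.2, (v : cv ρ A).2⟩,
        fun v => ⟨⟨v, v.2.2⟩, v.2.1⟩, fun v => rfl, fun v => rfl⟩
    rw [h1, h2, h3]
  have hdvd : Nat.card RA ∣ Nat.card R := AddSubgroup.card_addSubgroup_dvd_card RA
  obtain ⟨u, hu⟩ := hdvd
  have hRA0 : 0 < Nat.card RA := Nat.card_pos
  have hR0 : 0 < Nat.card R := Nat.card_pos
  have hu0 : 0 < u := by
    rcases Nat.eq_zero_or_pos u with h0 | h0
    · rw [h0, mul_zero] at hu; omega
    · exact h0
  refine ⟨u, hu0, ?_, ?_⟩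
  · set ka := Nat.card A
    set ra := Nat.card RA
    set a0 := Nat.card A0
    set r := Nat.card R
    set pc := Nat.card ((cv ρ A).map (Phi E T f))
    set kc := Nat.card ((Phi E T f).ker ⊓ cv ρ A : AddSubgroup V)
    set k := Nat.card (Phi E T f).ker
    have ha0 : 0 < a0 := Nat.card_pos
    rw [t1, t2]
    -- ka * ra ≤ a0 * r = a0 * ra * u, a0 * pc ≤ ra, kc * r ≤ k * ra
    have d1 : ka ≤ a0 * u := by
      have : ka * ra ≤ (a0 * u) * ra := by
        calc ka * ra ≤ a0 * r := c1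
          _ = (a0 * u) * ra := by rw [hu]; ring
      exact Nat.le_of_mul_le_mul_right this hRA0
    have d4 : kc * u ≤ k := by
      have : (kc * u) * ra ≤ k * ra := by
        calc (kc * u) * ra = kc * r := by rw [hu]; ring
          _ ≤ k * ra := c4
      exact Nat.le_of_mul_le_mul_right this hRA0
    calc u * (ka * (pc * kc)) = ka * pc * (kc * u) := by ring
      _ ≤ (a0 * u) * pc * k := Nat.mul_le_mul (Nat.mul_le_mul_right _ d1) d4
      _ = (a0 * pc) * (u * k) := by ring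
      _ ≤ ra * (u * k) := Nat.mul_le_mul_right _ c3
      _ = r * k := by rw [hu]; ring
  · intro hu1 a ha
    rw [hu1, mul_one] at hu
    have htop : RA = ⊤ := by
      apply AddSubgroup.eq_top_of_card_eq
      exact hu.symm
    apply h.mem_J0 (hA ha)
    intro e
    by_contra hne
    have h1 : Pi.single e (1 : ZMod 2) ∈ RA := by rw [htop]; exact AddSubgroup.mem_top _
    have h2 := h1 ⟨a, ha⟩ e
    have h3 : (⟨a, ha⟩ : A) • e ≠ e := fun h4 => hne (congrArg Subtype.val h4)
    rw [Pi.single_eq_same, Pi.single_eq_of_ne h3] at h2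
    exact zero_ne_one h2

/-- No over-offenders. -/
theorem off {A : Subgroup H} (hA : A ≤ (T : Subgroup H))
    (hab : ∀ a ∈ A, ∀ b ∈ A, a * b = b * a) [Finite V] :
    Nat.card A * Nat.card (cv ρ A) ≤ Nat.card V := by
  obtain ⟨u, hu, h1, -⟩ := h.off_aux hA hab
  exact le_trans (Nat.le_mul_of_pos_left _ hu) h1

/-- Offenders lie in `⟨E ∩ T⟩`. -/
theorem off_eq {A : Subgroup H} (hA : A ≤ (T : Subgroup H))
    (hab : ∀ a ∈ A, ∀ b ∈ A, a * b = b * a) [Finite V]
    (hle : Nat.card V ≤ Nat.card A * Nat.card (cv ρ A)) : A ≤ J0 E T := by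
  obtain ⟨u, hu, h1, h2⟩ := h.off_aux hA hab
  apply h2
  have h3 : 0 < Nat.card A * Nat.card (cv ρ A) := Nat.mul_pos Nat.card_pos Nat.card_pos
  have h4 : u * (Nat.card A * Nat.card (cv ρ A)) ≤ 1 * (Nat.card A * Nat.card (cv ρ A)) := by
    rw [one_mul]; exact h1.trans hle
  have h5 := Nat.le_of_mul_le_mul_right h4 h3
  omega

end Out

end Cfsg.Agent.Omega.Tv

end

section


/-!
# The K-free FF theorem, step (10) of #12272: a spread gives `SL₂(q)`

`Pre T U C`: `L` finite acts faithfully on the elementary abelian 2-group `V`, `U = C_V(T)`, `C = C_V(L)`, `T`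
quadratic, `C_V(t) = U` for `t ∈ T#`, `|V : U| = |T| = |U : C|`, `L = ⟨T^L⟩`, `U ∩ U^g = C` for `g ∉ N(T)`, and no
`t ∈ T#` centralises `V / C`.  Then `L = SL₂(F)`, `|F| = |T|`, `V / C` natural (`Pre.exists_field`, and the additive
version `exists_field_add`).
-/

set_option autoImplicit false
set_option linter.unusedSectionVars false

namespace Cfsg.Agent.Omega.FF.SpreadEnd

open Subgroup Cfsg.Agent.ClassTwoFusion.SL2Field

/-- the hypotheses -/
structure Pre {L V : Type*} [Group L] [Group V] [MulDistribMulAction L V] (T : Subgroup L) (U C : Subgroup V) :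
    Prop where
  comm : ∀ v w : V, v * w = w * v
  sq : ∀ v : V, v * v = 1
  faith : ∀ x : L, (∀ v : V, x • v = v) → x = 1
  hU : ∀ v, v ∈ U ↔ ∀ t ∈ T, t • v = v
  hC : ∀ v, v ∈ C ↔ ∀ x : L, x • v = v
  sqT : ∀ t ∈ T, t * t = 1
  quad : ∀ t ∈ T, ∀ v, (t • v) * v ∈ U
  reg : ∀ t ∈ T, t ≠ 1 → ∀ v, t • v = v → v ∈ U
  two_le : 2 ≤ Nat.card T
  hVU : U.index = Nat.card T
  hUC : C.relIndex U = Nat.card T
  gen : ∀ K : Subgroup L, (∀ g, ∀ t ∈ T, g * t * g⁻¹ ∈ K) → K = ⊤
  ti : ∀ g, g ∉ normalizer (T : Set L) → ∀ v ∈ U, g • v ∈ U → g • v ∈ C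
  mv : ∀ t ∈ T, t ≠ 1 → ∃ v, (t • v) * v ∉ C

namespace Pre

section Comm

variable {L V : Type*} [Group L] [Finite L] [CommGroup V] [Finite V] [MulDistribMulAction L V]
  {T : Subgroup L} {U C : Subgroup V} (h : Pre T U C)
include h

theorem C_le : C ≤ U := fun v hv => (h.hU v).2 fun t _ => (h.hC v).1 hv t

theorem smul_C {v : V} (hv : v ∈ C) (x : L) : x • v = v := (h.hC v).1 hv x

theorem ti' {g : L} {v : V} (hv : v ∈ U) (hgv : g • v ∈ U) (hvC : v ∉ C) : g ∈ normalizer (T : Set L) := by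
  by_contra hg
  apply hvC
  have h1 := h.ti g hg v hv hgv
  have h2 : v = g⁻¹ • g • v := (inv_smul_smul g v).symm
  rw [h2, h.smul_C h1]
  exact h1

theorem inv_not_mem {g : L} (hg : g ∉ normalizer (T : Set L)) : g⁻¹ ∉ normalizer (T : Set L) := fun h1 =>
  hg (by simpa using inv_mem h1)

theorem C_le' (g : L) : C ≤ tr g U := by
  intro v hv
  show g⁻¹ • v ∈ U
  rw [h.smul_C hv]
  exact h.C_le hv

theorem inf_eq {g : L} (hg : g ∉ normalizer (T : Set L)) : U ⊓ tr g U = C := by
  apply le_antisymm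
  · rintro v ⟨hv, hv'⟩
    by_contra hvC
    exact h.inv_not_mem hg (h.ti' hv hv' hvC)
  · exact le_inf h.C_le (h.C_le' g)

theorem index_tr (g : L) : (tr g U).index = U.index := by
  unfold tr
  apply index_comap_of_surjective
  intro v
  exact ⟨g • v, inv_smul_smul g v⟩

theorem pos : 0 < Nat.card T := by have := h.two_le; omega

theorem sup_eq {g : L} (hg : g ∉ normalizer (T : Set L)) (v : V) : ∃ a ∈ U, ∃ b ∈ tr g U, a * b = v := by
  have h1 : (tr g U).relIndex (U ⊔ tr g U) * (U ⊔ tr g U).index = (tr g U).index :=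
    relIndex_mul_index le_sup_right
  have h2 : (tr g U).relIndex U ≤ (tr g U).relIndex (U ⊔ tr g U) :=
    relIndex_le_of_le_right le_sup_left index_ne_zero_of_finite
  have h3 : (tr g U).relIndex U = Nat.card T := by
    rw [← inf_relIndex_right, inf_comm, h.inf_eq hg, h.hUC]
  rw [h.index_tr, h.hVU] at h1
  rw [h3] at h2
  have hp := h.pos
  have hpos : (U ⊔ tr g U).index ≠ 0 := index_ne_zero_of_finite
  have h5 : U ⊔ tr g U = ⊤ := by
    rw [← index_eq_one]
    by_contra hcon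
    have h4 : 2 ≤ (U ⊔ tr g U).index := by omega
    have : Nat.card T * 2 ≤ (tr g U).relIndex (U ⊔ tr g U) * (U ⊔ tr g U).index := Nat.mul_le_mul h2 h4
    omega
  have h6 : v ∈ U ⊔ tr g U := by rw [h5]; exact mem_top v
  exact mem_sup.1 h6

/-- an element of `T#` fixes only the line `U` -/
theorem fix_line {t g : L} (ht : t ∈ T) (ht1 : t ≠ 1) (hg : ∀ v ∈ U, (g⁻¹ * t * g) • v ∈ U) :
    g ∈ normalizer (T : Set L) := by
  by_contra hgn
  obtain ⟨v, hv⟩ := h.mv t ht ht1
  apply hv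
  obtain ⟨a, ha, b, hb, rfl⟩ := h.sup_eq hgn v
  have h1 : (t • (a * b)) * (a * b) = (t • b) * b := by
    rw [smul_mul', (h.hU a).1 ha t ht, h.comm a (t • b), mul_assoc, ← mul_assoc a a b, h.sq, one_mul]
  have h2 : (t • (a * b)) * (a * b) ∈ U := h.quad t ht _
  have h3 : (t • b) * b ∈ tr g U := by
    refine mul_mem ?_ hb
    show g⁻¹ • t • b ∈ U
    have h4 := hg (g⁻¹ • b) hb
    have h5 : (g⁻¹ * t * g) • g⁻¹ • b = g⁻¹ • t • b := by
      rw [← mul_smul, ← mul_smul]
      congr 1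
      group
    rw [h5] at h4
    exact h4
  rw [← h.inf_eq hgn]
  rw [h1] at h2 ⊢
  exact ⟨h2, h3⟩

/-- a conjugate of an element of `T#` which commutes with an element of `T#` is in `T` -/
theorem mem_of_comm {t u g : L} (ht : t ∈ T) (ht1 : t ≠ 1) (hu : u ∈ T) (hu1 : u ≠ 1)
    (hc : t * (g * u * g⁻¹) = g * u * g⁻¹ * t) : g * u * g⁻¹ ∈ T := by
  have h1 : g ∈ normalizer (T : Set L) := by
    apply h.fix_line ht ht1
    intro v hv
    apply h.reg u hu hu1
    have h2 : u * (g⁻¹ * t * g) = g⁻¹ * t * g * u := by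
      calc u * (g⁻¹ * t * g) = g⁻¹ * (g * u * g⁻¹ * t) * g := by group
        _ = g⁻¹ * (t * (g * u * g⁻¹)) * g := by rw [hc]
        _ = g⁻¹ * t * g * u := by group
    rw [← mul_smul, h2, mul_smul, (h.hU v).1 hv u hu]
  exact (mem_normalizer_iff.1 h1 u).1 hu

/-- the central involution of a dihedral group `⟨t, s^g⟩` is in `T` -/
theorem pow_mem_T {t s g : L} (ht : t ∈ T) (ht1 : t ≠ 1) (hs : s ∈ T) (hs1 : s ≠ 1) {m : ℕ}
    (hm : (t * (g * s * g⁻¹)) ^ (m + m) = 1) : (t * (g * s * g⁻¹)) ^ m ∈ T := by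
  set w := g * s * g⁻¹ with hw
  set x := t * w with hx
  have htt : t * t = 1 := h.sqT t ht
  have hti : t⁻¹ = t := inv_eq_of_mul_eq_one_left htt
  have hww : w * w = 1 := by
    rw [hw]
    calc g * s * g⁻¹ * (g * s * g⁻¹) = g * (s * s) * g⁻¹ := by group
      _ = 1 := by rw [h.sqT s hs]; group
  have hxi : x⁻¹ = w * t := by rw [hx, mul_inv_rev, hti, inv_eq_of_mul_eq_one_left hww]
  have htx : t * x * t⁻¹ = x⁻¹ := by
    rw [hxi, hx, hti]
    calc t * (t * w) * t = t * t * w * t := by group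
      _ = w * t := by rw [htt, one_mul]
  have htk : ∀ k : ℕ, t * x ^ k * t⁻¹ = (x ^ k)⁻¹ := fun k => by
    rw [← conj_pow, htx, inv_pow]
  have htk' : ∀ k : ℕ, x ^ k * t = t * (x ^ k)⁻¹ := fun k => by
    rw [← htk k, hti]
    calc x ^ k * t = t * t * x ^ k * t := by rw [htt, one_mul]
      _ = t * (t * x ^ k * t) := by group
  have hz : t * x ^ m = x ^ m * t := by
    rw [htk' m]
    congr 1
    have h1 : x ^ m * x ^ m = 1 := by rw [← pow_add]; exact hm
    exact (inv_eq_of_mul_eq_one_left h1).symm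
  -- `t x^m` is a conjugate of an element of `T#`
  have key : ∃ r u, u ∈ T ∧ u ≠ 1 ∧ t * x ^ m = r * u * r⁻¹ := by
    have htk2 : ∀ k : ℕ, (x ^ k)⁻¹ * t = t * x ^ k := fun k => by
      rw [← htk k, inv_mul_cancel_right]
    rcases Nat.even_or_odd' m with ⟨i, hi | hi⟩
    · refine ⟨(x ^ i)⁻¹, t, ht, ht1, ?_⟩
      rw [inv_inv, htk2 i, mul_assoc, ← pow_add, hi, two_mul]
    · refine ⟨(x ^ i)⁻¹ * g, s, hs, hs1, ?_⟩
      have h1 : w = t * x := by rw [hx, ← mul_assoc, htt, one_mul]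
      calc t * x ^ m = t * x ^ i * x * x ^ i := by
            rw [mul_assoc (t * x ^ i), ← pow_succ', mul_assoc, ← pow_add, hi]
            congr 2
            omega
        _ = (x ^ i)⁻¹ * (t * x) * x ^ i := by rw [← htk2 i]; group
        _ = (x ^ i)⁻¹ * (g * s * g⁻¹) * x ^ i := by rw [← h1]
        _ = (x ^ i)⁻¹ * g * s * ((x ^ i)⁻¹ * g)⁻¹ := by group
  obtain ⟨r, u, hu, hu1, hr⟩ := key
  have h1 : r * u * r⁻¹ ∈ T := by
    apply h.mem_of_comm ht ht1 hu hu1
    rw [← hr]
    calc t * (t * x ^ m) = t * (x ^ m * t) := by rw [hz]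
      _ = t * x ^ m * t := by group
  rw [← hr] at h1
  have h2 : t * (t * x ^ m) ∈ T := mul_mem ht h1
  rw [← mul_assoc, htt, one_mul] at h2
  exact h2

theorem odd {g : L} (hg : g ∉ normalizer (T : Set L)) {t : L} (ht : t ∈ T) {s : L} (hs : s ∈ T) (ht1 : t ≠ 1)
    (hs1 : s ≠ 1) : Odd (orderOf (t * (g * s * g⁻¹))) := by
  rw [← Nat.not_even_iff_odd]
  rintro ⟨m, hm⟩
  set x := t * (g * s * g⁻¹) with hx
  have hpos : 0 < orderOf x := orderOf_pos x
  have hx1 : x ^ (m + m) = 1 := by rw [← hm]; exact pow_orderOf_eq_one x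
  have hz1 : x ^ m ≠ 1 := by
    intro h1
    have h2 := Nat.le_of_dvd (by omega) (orderOf_dvd_of_pow_eq_one h1)
    omega
  have h1 : x ^ m ∈ T := h.pow_mem_T ht ht1 hs hs1 hx1
  -- the same for `s`
  have hss : s * s = 1 := h.sqT s hs
  have htt : t * t = 1 := h.sqT t ht
  have hy : s * (g⁻¹ * t * g⁻¹⁻¹) = (g⁻¹ * x * g)⁻¹ := by
    rw [hx]
    have e1 : s⁻¹ = s := inv_eq_of_mul_eq_one_left hss
    have e2 : t⁻¹ = t := inv_eq_of_mul_eq_one_left htt
    calc s * (g⁻¹ * t * g⁻¹⁻¹) = s⁻¹ * (g⁻¹ * t⁻¹ * g⁻¹⁻¹) := by rw [e1, e2]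
      _ = (g⁻¹ * (t * (g * s * g⁻¹)) * g)⁻¹ := by group
  have hxc : ∀ k : ℕ, (g⁻¹ * x * g) ^ k = g⁻¹ * x ^ k * g := fun k => by
    have := conj_pow (i := k) (a := g⁻¹) (b := x)
    rw [inv_inv] at this
    exact this
  have h2 : (s * (g⁻¹ * t * g⁻¹⁻¹)) ^ (m + m) = 1 := by
    rw [hy, inv_pow, hxc, hx1]
    group
  have h3 := h.pow_mem_T hs hs1 ht ht1 h2
  rw [hy, inv_pow, hxc] at h3
  have h4 : g⁻¹ * x ^ m * g ∈ T := by simpa using inv_mem h3
  -- `U = C`
  have h5 : ∀ v ∈ U, v ∈ C := by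
    intro v hv
    have h6 : x ^ m • g • v = g • v := by
      have h7 := (h.hU v).1 hv _ h4
      have h8 : g • (g⁻¹ * x ^ m * g) • v = x ^ m • g • v := by
        rw [← mul_smul, ← mul_smul]
        congr 1
        group
      rw [← h8, h7]
    have h7 : g • v ∈ U := h.reg _ h1 hz1 _ h6
    have h8 := h.ti g hg v hv h7
    have h9 := h.smul_C h8 g⁻¹
    rw [inv_smul_smul] at h9
    rw [h9]
    exact h8
  have h6 := h.hUC
  rw [relIndex_eq_one.2 h5] at h6
  have := h.two_le
  omega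

end Comm

/-- **Spread ⇒ `SL₂(F)`**, `V / C` natural. -/
theorem exists_field {L V : Type*} [Group L] [Finite L] [Group V] [Finite V] [MulDistribMulAction L V]
    {T : Subgroup L} {U C : Subgroup V} (h : Pre T U C) :
    ∃ (F : Type) (_ : Field F) (_ : Fintype F) (_ : CharP F 2) (φ : L ≃* Matrix.SpecialLinearGroup (Fin 2) F)
      (e : V → (Fin 2 → F)), Nat.card F = Nat.card T ∧ (∀ v w, e (v * w) = e v + e w) ∧
      Function.Surjective e ∧ (∀ v, e v = 0 ↔ v ∈ C) ∧ (∀ x v, e (x • v) = (φ x).1.mulVec (e v)) ∧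
      (∀ v, v ∈ U ↔ e v 1 = 0) ∧ (∀ x, x ∈ T ↔ ∃ a : F, (φ x).1 = !![1, a; 0, 1]) := by
  refine exists_field' T U C h.comm h.sq h.faith h.hU h.hC h.sqT h.quad h.reg h.two_le h.hVU h.hUC h.gen h.ti ?_
  let _ : CommGroup V := { (inferInstance : Group V) with mul_comm := h.comm }
  intro g hg t ht s hs ht1 hs1
  exact h.odd hg ht hs ht1 hs1

end Pre

/-- the action on `Multiplicative V` -/
@[reducible] def mulAct (L V : Type*) [Group L] [AddCommGroup V] [DistribMulAction L V] :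
    MulDistribMulAction L (Multiplicative V) where
  smul x v := Multiplicative.ofAdd (x • v.toAdd)
  one_smul v := congrArg Multiplicative.ofAdd (one_smul L v.toAdd)
  mul_smul x y v := congrArg Multiplicative.ofAdd (mul_smul x y v.toAdd)
  smul_mul x v w := congrArg Multiplicative.ofAdd (smul_add x v.toAdd w.toAdd)
  smul_one x := congrArg Multiplicative.ofAdd (smul_zero x)

/-- additive version -/
theorem exists_field_add {L V : Type*} [Group L] [Finite L] [AddCommGroup V] [Finite V] [DistribMulAction L V]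
    (T : Subgroup L) (U C : AddSubgroup V) (sq : ∀ v : V, v + v = 0)
    (faith : ∀ x : L, (∀ v : V, x • v = v) → x = 1)
    (hU : ∀ v, v ∈ U ↔ ∀ t ∈ T, t • v = v) (hC : ∀ v, v ∈ C ↔ ∀ x : L, x • v = v)
    (sqT : ∀ t ∈ T, t * t = 1) (quad : ∀ t ∈ T, ∀ v, t • v + v ∈ U)
    (reg : ∀ t ∈ T, t ≠ 1 → ∀ v, t • v = v → v ∈ U)
    (two_le : 2 ≤ Nat.card T) (hVU : U.index = Nat.card T) (hUC : C.relIndex U = Nat.card T)
    (gen : ∀ K : Subgroup L, (∀ g, ∀ t ∈ T, g * t * g⁻¹ ∈ K) → K = ⊤)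
    (ti : ∀ g, g ∉ normalizer (T : Set L) → ∀ v ∈ U, g • v ∈ U → g • v ∈ C)
    (mv : ∀ t ∈ T, t ≠ 1 → ∃ v, t • v + v ∉ C) :
    ∃ (F : Type) (_ : Field F) (_ : Fintype F) (_ : CharP F 2) (φ : L ≃* Matrix.SpecialLinearGroup (Fin 2) F)
      (e : V → (Fin 2 → F)), Nat.card F = Nat.card T ∧ (∀ v w, e (v + w) = e v + e w) ∧
      Function.Surjective e ∧ (∀ v, e v = 0 ↔ v ∈ C) ∧ (∀ x v, e (x • v) = (φ x).1.mulVec (e v)) ∧
      (∀ v, v ∈ U ↔ e v 1 = 0) ∧ (∀ x, x ∈ T ↔ ∃ a : F, (φ x).1 = !![1, a; 0, 1]) := by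
  let _ : MulDistribMulAction L (Multiplicative V) := mulAct L V
  have hP : Pre (V := Multiplicative V) T U.toSubgroup C.toSubgroup :=
    { comm := fun v w => mul_comm v w
      sq := fun v => sq v.toAdd
      faith := fun x hx => faith x fun v => congrArg Multiplicative.toAdd (hx (Multiplicative.ofAdd v))
      hU := fun v => hU v.toAdd
      hC := fun v => hC v.toAdd
      sqT := sqT
      quad := fun t ht v => quad t ht v.toAdd
      reg := fun t ht ht1 v hv => reg t ht ht1 v.toAdd hv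
      two_le := two_le
      hVU := hVU
      hUC := hUC
      gen := gen
      ti := fun g hg v hv hgv => ti g hg v.toAdd hv hgv
      mv := fun t ht ht1 => by
        obtain ⟨v, hv⟩ := mv t ht ht1
        exact ⟨Multiplicative.ofAdd v, hv⟩ }
  obtain ⟨F, i1, i2, i3, φ, e, h1, h2, h3, h4, h5, h6, h7⟩ := hP.exists_field
  exact ⟨F, i1, i2, i3, φ, fun v => e (Multiplicative.ofAdd v), h1, fun v w => h2 _ _, h3, fun v => h4 _, fun x v => h5 _ _,
    fun v => h6 _, h7⟩

end Cfsg.Agent.Omega.FF.SpreadEnd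

end
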