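import Cfsg.Agent.Mrg.Omega.FF.TvBasic
import Cfsg.Agent.MinSimple.MinParabolic

section


/-!
# The transvection half of the FF-theorem for minimal parabolics: the points

helper670, OMEGA / FF.

Enumeration of `Δ = E ∖ M` (`Enum`), the functionals `φ i x` (`i` a class of `Δ`, `x` a point of the
class, `0` the point fixed by `T`), and the action of `H` on them.
-/

set_option autoImplicit false
set_option linter.unusedSectionVars false

namespace Cfsg.Agent.Omega.Tv

open Subgroup Cfsg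

variable {H : Type*} [Group H] {V : Type*} [AddCommGroup V] [Module (ZMod 2) V]
  {ρ : H →* (V ≃ₗ[ZMod 2] V)} {E : Set H} {c : H → V} {f : H → V →ₗ[ZMod 2] ZMod 2}
  {T : Sylow 2 H} {M : Subgroup H}

/-- An enumeration of `Δ` by `k` classes of `2^m` elements. -/
structure Enum (E : Set H) (c : H → V) (f : H → V →ₗ[ZMod 2] ZMod 2) (M : Subgroup H)
    (k m : ℕ) (β : Fin k × Fin (2 ^ m) → H) : Prop where
  k_pos : 0 < k
  m_pos : 0 < m
  inj : Function.Injective β
  mem : ∀ p, β p ∈ E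
  notM : ∀ p, β p ∉ M
  surj : ∀ b ∈ E, b ∉ M → ∃ p, β p = b
  adj : ∀ p q, f (β p) (c (β q)) = 1 ↔ p ≠ q ∧ p.1 = q.1

/-- `Δ` -/
abbrev DT (E : Set H) (M : Subgroup H) : Type _ := {b : H // b ∈ E ∧ b ∉ M}

namespace Out

variable [Finite H] (h : Out ρ E c f T M)

include h

/-- the equivalence relation on `Δ` -/
def std : Setoid (DT E M) where
  r a b := a = b ∨ f (a : H) (c (b : H)) = 1
  iseqv :=
    { refl := fun _ => Or.inl rfl
      symm := by
        rintro a b (rfl | h1)
        · exact Or.inl rfl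
        · exact Or.inr (by rw [h.sym _ b.2.1 _ a.2.1]; exact h1)
      trans := by
        rintro a b d (rfl | h1) (rfl | h2)
        · exact Or.inl rfl
        · exact Or.inr h2
        · exact Or.inr h1
        · rcases h.trans a a.2.1 a.2.2 b b.2.1 b.2.2 d d.2.1 d.2.2 h1 h2 with h3 | h3
          · exact Or.inl (Subtype.ext h3)
          · exact Or.inr h3 }

omit [Finite H] in
theorem tD_mem {t : H} (ht : t ∈ T) (b : DT E M) : t * b * t⁻¹ ∈ E ∧ t * b * t⁻¹ ∉ M :=
  ⟨h.conj b b.2.1 t, conj_notM b.2.2 (h.TM ht)⟩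

/-- the action of `T` on `Δ` -/
@[reducible] def actD : MulAction (T : Subgroup H) (DT E M) where
  smul t b := ⟨t * b * (t : H)⁻¹, h.tD_mem t.2 b⟩
  one_smul b := Subtype.ext (by
    show (1 : H) * b * (1 : H)⁻¹ = b
    simp)
  mul_smul s t b := Subtype.ext (by
    show ((s : H) * t) * b * ((s : H) * t)⁻¹ = s * (t * b * (t : H)⁻¹) * (s : H)⁻¹
    group)

theorem card_D : ∃ l : ℕ, Nat.card (DT E M) = 2 ^ l := by
  let _ := h.actD
  obtain ⟨b, hb, hbM⟩ := h.exists_not_mem
  obtain ⟨l, hl⟩ := IsPGroup.card_orbit (G := (T : Subgroup H)) T.isPGroup'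
    (⟨b, hb, hbM⟩ : DT E M)
  refine ⟨l, ?_⟩
  rw [← hl]
  have : MulAction.orbit (T : Subgroup H) (⟨b, hb, hbM⟩ : DT E M) = Set.univ := by
    rw [Set.eq_univ_iff_forall]
    rintro ⟨d, hd, hdM⟩
    obtain ⟨t, ht, rfl⟩ := h.transD b hb hbM d hd hdM
    exact ⟨⟨t, ht⟩, rfl⟩
  rw [this, Nat.card_congr (Equiv.Set.univ _)]

/-- each `b ∈ Δ` does not commute with another one -/
theorem exists_ne (b : DT E M) : ∃ d : DT E M, d ≠ b ∧ f (b : H) (c (d : H)) = 1 := by
  obtain ⟨e, he, heT, h1⟩ := h.adj b b.2.1 b.2.2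
  refine ⟨⟨e * b * e⁻¹, h.conj b b.2.1 e, conj_notM b.2.2 (h.TM heT)⟩, ?_, ?_⟩
  · intro h2
    have h3 : e * b * e⁻¹ = b := congrArg Subtype.val h2
    have h4 := h.c_conj' b.2.1 he
    rw [h3, h.sym e he b b.2.1, h1, one_smul] at h4
    exact (h.tr e he).c_ne (by simpa using h4.symm)
  · show f (b : H) (c (e * b * e⁻¹)) = 1
    rw [h.c_conj' b.2.1 he, map_add, map_smul, h.pself b.2.1, h1, h.sym e he b b.2.1, h1,
      zero_add, smul_eq_mul, mul_one]

theorem exists_enum : ∃ (k m : ℕ) (β : Fin k × Fin (2 ^ m) → H), Enum E c f M k m β := by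
  classical
  let _ := h.actD
  let s := h.std
  let Q := Quotient s
  have hfin : Finite (DT E M) := inferInstance
  have hQ : Finite Q := inferInstance
  -- the classes have the same cardinality
  have hsame : ∀ q q' : Q, Nat.card {a : DT E M // Quotient.mk s a = q} =
      Nat.card {a : DT E M // Quotient.mk s a = q'} := by
    intro q q'
    obtain ⟨a, rfl⟩ := Quotient.exists_rep q
    obtain ⟨a', rfl⟩ := Quotient.exists_rep q'
    obtain ⟨t, ht, hta⟩ := h.transD a a.2.1 a.2.2 a' a'.2.1 a'.2.2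
    have hta' : (⟨t, ht⟩ : (T : Subgroup H)) • a = a' := Subtype.ext hta.symm
    have hcompat : ∀ (u : (T : Subgroup H)) (x y : DT E M), s.r x y → s.r (u • x) (u • y) := by
      rintro u x y (rfl | h1)
      · exact Or.inl rfl
      · right
        show f ((u : H) * x * (u : H)⁻¹) (c ((u : H) * y * (u : H)⁻¹)) = 1
        rw [h.p_conj x.2.1 y.2.1, h1]
    refine Nat.card_congr ⟨fun x => ⟨(⟨t, ht⟩ : (T : Subgroup H)) • (x : DT E M), ?_⟩,
      fun x => ⟨(⟨t, ht⟩ : (T : Subgroup H))⁻¹ • (x : DT E M), ?_⟩, ?_, ?_⟩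
    · have h1 := Quotient.exact x.2
      rw [← hta']
      exact Quotient.sound (hcompat _ _ _ h1)
    · have h1 := Quotient.exact x.2
      have h2 := hcompat (⟨t, ht⟩ : (T : Subgroup H))⁻¹ _ _ h1
      have h3 : (⟨t, ht⟩ : (T : Subgroup H))⁻¹ • a' = a := by rw [← hta', inv_smul_smul]
      rw [h3] at h2
      exact Quotient.sound h2
    · intro x
      exact Subtype.ext (inv_smul_smul _ _)
    · intro x
      exact Subtype.ext (smul_inv_smul _ _)
  obtain ⟨b, hb, hbM⟩ := h.exists_not_mem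
  let q0 : Q := Quotient.mk s ⟨b, hb, hbM⟩
  set n := Nat.card {a : DT E M // Quotient.mk s a = q0} with hn
  have hcard : Nat.card (DT E M) = Nat.card Q * n := by
    have e1 : (Σ q : Q, {a : DT E M // Quotient.mk s a = q}) ≃ DT E M :=
      Equiv.sigmaFiberEquiv (fun a => Quotient.mk s a)
    have : Fintype Q := Fintype.ofFinite _
    rw [← Nat.card_congr e1, Nat.card_sigma, Finset.sum_congr rfl fun q _ => hsame q q0,
      Finset.sum_const, Finset.card_univ, ← Nat.card_eq_fintype_card (α := Q), smul_eq_mul]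
  obtain ⟨l, hl⟩ := h.card_D
  have hdvd : n ∣ 2 ^ l := by rw [← hl, hcard]; exact Dvd.intro_left _ rfl
  obtain ⟨m, -, hm⟩ := (Nat.dvd_prime_pow Nat.prime_two).mp hdvd
  have hm0 : 0 < m := by
    rcases Nat.eq_zero_or_pos m with h0 | h0
    · exfalso
      rw [h0, pow_zero] at hm
      obtain ⟨d, hd, h1⟩ := h.exists_ne ⟨b, hb, hbM⟩
      have h2 : Quotient.mk s d = q0 := Quotient.sound (Or.inr (by
        rw [h.sym _ d.2.1 _ hb]; exact h1))
      rw [hn, Nat.card_eq_one_iff_unique] at hm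
      have := hm.1
      have h3 := this.elim (⟨d, h2⟩ : {a : DT E M // Quotient.mk s a = q0}) ⟨⟨b, hb, hbM⟩, rfl⟩
      exact hd (congrArg Subtype.val h3)
    · exact h0
  let eQ : Fin (Nat.card Q) ≃ Q := (Finite.equivFin Q).symm
  have ec : ∀ q : Q, Nonempty (Fin (2 ^ m) ≃ {a : DT E M // Quotient.mk s a = q}) := by
    intro q
    have h1 : Nat.card {a : DT E M // Quotient.mk s a = q} = 2 ^ m := by rw [hsame q q0, ← hn, hm]
    exact ⟨(Finite.equivFinOfCardEq h1).symm⟩
  let ec' := fun q => (ec q).some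
  refine ⟨Nat.card Q, m, fun p => ((ec' (eQ p.1) p.2 : DT E M) : H), ?_⟩
  have hcls : ∀ p : Fin (Nat.card Q) × Fin (2 ^ m),
      Quotient.mk s (ec' (eQ p.1) p.2 : DT E M) = eQ p.1 := fun p => (ec' (eQ p.1) p.2).2
  have hinj : Function.Injective fun p : Fin (Nat.card Q) × Fin (2 ^ m) =>
      ((ec' (eQ p.1) p.2 : DT E M) : H) := by
    rintro ⟨i, x⟩ ⟨j, y⟩ hxy
    have h1 : (ec' (eQ i) x : DT E M) = (ec' (eQ j) y : DT E M) := Subtype.ext hxy
    have h2 : eQ i = eQ j := by rw [← hcls (i, x), ← hcls (j, y)]; exact congrArg _ h1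
    have h3 : i = j := eQ.injective h2
    subst h3
    have h4 : x = y := (ec' (eQ i)).injective (Subtype.ext h1)
    rw [h4]
  refine ⟨Nat.pos_of_ne_zero ?_, hm0, hinj, fun p => (ec' (eQ p.1) p.2 : DT E M).2.1,
    fun p => (ec' (eQ p.1) p.2 : DT E M).2.2, ?_, ?_⟩
  · intro h0
    have : Nonempty Q := ⟨q0⟩
    exact absurd h0 Nat.card_pos.ne'
  · intro d hd hdM
    refine ⟨(eQ.symm (Quotient.mk s ⟨d, hd, hdM⟩),
      (ec' (eQ (eQ.symm (Quotient.mk s ⟨d, hd, hdM⟩)))).symm ⟨⟨d, hd, hdM⟩, ?_⟩), ?_⟩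
    · rw [Equiv.apply_symm_apply]
    · exact congrArg (fun z : {a : DT E M // Quotient.mk s a =
        eQ (eQ.symm (Quotient.mk s ⟨d, hd, hdM⟩))} => ((z : DT E M) : H))
        (Equiv.apply_symm_apply (ec' (eQ (eQ.symm (Quotient.mk s ⟨d, hd, hdM⟩)))) _)
  · intro p q
    constructor
    · intro h1
      constructor
      · rintro rfl
        rw [h.pself (ec' (eQ p.1) p.2 : DT E M).2.1] at h1
        exact zero_ne_one h1
      · have h2 : Quotient.mk s (ec' (eQ p.1) p.2 : DT E M) =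
            Quotient.mk s (ec' (eQ q.1) q.2 : DT E M) := Quotient.sound (Or.inr h1)
        rw [hcls, hcls] at h2
        exact eQ.injective h2
    · rintro ⟨hne, h1⟩
      have h2 : Quotient.mk s (ec' (eQ p.1) p.2 : DT E M) =
          Quotient.mk s (ec' (eQ q.1) q.2 : DT E M) := by
        rw [hcls, hcls, h1]
      rcases Quotient.exact h2 with h3 | h3
      · exact absurd (hinj (congrArg Subtype.val h3)) hne
      · exact h3

end Out

/-! ### The functionals -/

section ph

variable {k m : ℕ}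

/-- the coordinate functionals: `φ i 0 = ∑_x f_{i,x}`, `φ i (x+1) = f_{i,x} + φ i 0` -/
def ph (f : H → V →ₗ[ZMod 2] ZMod 2) (β : Fin k × Fin (2 ^ m) → H) (i : Fin k) :
    Fin (2 ^ m + 1) → (V →ₗ[ZMod 2] ZMod 2) :=
  Fin.cases (∑ y, f (β (i, y))) (fun x => f (β (i, x)) + ∑ y, f (β (i, y)))

theorem ph_zero (β : Fin k × Fin (2 ^ m) → H) (i : Fin k) (v : V) :
    ph f β i 0 v = ∑ y, f (β (i, y)) v := by
  show (∑ y, f (β (i, y))) v = _
  rw [LinearMap.sum_apply]

theorem ph_succ (β : Fin k × Fin (2 ^ m) → H) (i : Fin k) (x : Fin (2 ^ m)) (v : V) :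
    ph f β i x.succ v = f (β (i, x)) v + ∑ y, f (β (i, y)) v := by
  show (f (β (i, x)) + ∑ y, f (β (i, y))) v = _
  rw [LinearMap.add_apply, LinearMap.sum_apply]

/-- `π` on the summand `i`, the identity on the others -/
abbrev msg {k n : ℕ} (i : Fin k) (π : Equiv.Perm (Fin n)) : Fin k → Equiv.Perm (Fin n) :=
  Pi.mulSingle i π

/-- `g` acts on the points by `(σ, τ)`. -/
def Acts (ρ : H →* (V ≃ₗ[ZMod 2] V)) {k n : ℕ} (φ : Fin k → Fin n → (V →ₗ[ZMod 2] ZMod 2))
    (g : H) (σ : Equiv.Perm (Fin k)) (τ : Fin k → Equiv.Perm (Fin n)) : Prop :=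
  ∀ v i x, φ (σ i) (τ i x) (ρ g v) = φ i x v

variable {n : ℕ} {φ : Fin k → Fin n → (V →ₗ[ZMod 2] ZMod 2)}

theorem Acts.one : Acts ρ φ 1 1 1 := by
  intro v i x
  rw [rone]; rfl

theorem Acts.mul {g g' : H} {σ σ' : Equiv.Perm (Fin k)} {τ τ' : Fin k → Equiv.Perm (Fin n)}
    (h : Acts ρ φ g σ τ) (h' : Acts ρ φ g' σ' τ') :
    Acts ρ φ (g * g') (σ * σ') (fun i => τ (σ' i) * τ' i) := by
  intro v i x
  rw [rmul]
  show φ (σ (σ' i)) (τ (σ' i) (τ' i x)) (ρ g (ρ g' v)) = φ i x v
  rw [h, h']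

theorem Acts.inv {g : H} {σ : Equiv.Perm (Fin k)} {τ : Fin k → Equiv.Perm (Fin n)}
    (h : Acts ρ φ g σ τ) : Acts ρ φ g⁻¹ σ⁻¹ (fun i => (τ (σ⁻¹ i))⁻¹) := by
  intro v i x
  have h1 := h (ρ g⁻¹ v) (σ⁻¹ i) ((τ (σ⁻¹ i))⁻¹ x)
  rw [rinv', show σ (σ⁻¹ i) = i from σ.apply_symm_apply i,
    show τ (σ⁻¹ i) ((τ (σ⁻¹ i))⁻¹ x) = x from (τ (σ⁻¹ i)).apply_symm_apply x] at h1
  exact h1.symm

theorem Acts.mul1 {g g' : H} {τ τ' : Fin k → Equiv.Perm (Fin n)}
    (h : Acts ρ φ g 1 τ) (h' : Acts ρ φ g' 1 τ') : Acts ρ φ (g * g') 1 (τ * τ') := by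
  have := h.mul h'
  rwa [mul_one] at this

theorem Acts.inv1 {g : H} {τ : Fin k → Equiv.Perm (Fin n)}
    (h : Acts ρ φ g 1 τ) : Acts ρ φ g⁻¹ 1 τ⁻¹ := by
  have := h.inv
  rwa [inv_one] at this

end ph

namespace Enum

variable {k m : ℕ} {β : Fin k × Fin (2 ^ m) → H} (en : Enum E c f M k m β)

include en

theorem adj_iff (p q : Fin k × Fin (2 ^ m)) (hne : p ≠ q) :
    f (β p) (c (β q)) = if p.1 = q.1 then 1 else 0 := by
  by_cases h1 : p.1 = q.1
  · rw [if_pos h1]; exact (en.adj p q).mpr ⟨hne, h1⟩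
  · rw [if_neg h1]
    rcases z2 (f (β p) (c (β q))) with h2 | h2
    · exact h2
    · exact absurd ((en.adj p q).mp h2).2 h1

theorem pow_zero2 : ((2 ^ m : ℕ) : ZMod 2) = 0 := by
  rw [Nat.cast_pow, show ((2 : ℕ) : ZMod 2) = 0 from rfl, zero_pow en.m_pos.ne']

theorem pow_ge : 2 ≤ 2 ^ m := by
  calc 2 = 2 ^ 1 := (pow_one 2).symm
    _ ≤ 2 ^ m := Nat.pow_le_pow_right (by norm_num) en.m_pos

/-- the values of the functionals are even functions -/
theorem sum_ph (i : Fin k) (v : V) : ∑ x, ph f β i x v = 0 := by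
  rw [Fin.sum_univ_succ, ph_zero, Finset.sum_congr rfl fun x _ => ph_succ β i x v,
    Finset.sum_add_distrib, Finset.sum_const, Finset.card_univ, Fintype.card_fin, nsmul_eq_mul,
    en.pow_zero2, zero_mul, add_zero, z2_add_self]

variable [Finite H] (h : Out ρ E c f T M)

include h

theorem f_comb (y : Fin k × Fin (2 ^ m) → ZMod 2) (p : Fin k × Fin (2 ^ m)) :
    f (β p) (∑ q, y q • c (β q)) = (∑ x, y (p.1, x)) + y p := by
  classical
  rw [map_sum]
  have h1 : ∀ q, f (β p) (y q • c (β q)) =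
      (if q.1 = p.1 then y q else 0) + if q = p then y q else 0 := by
    intro q
    rw [map_smul, smul_eq_mul]
    by_cases hq : q = p
    · subst hq
      rw [h.pself (en.mem q), mul_zero, if_pos rfl, if_pos rfl, z2_add_self]
    · rw [en.adj_iff p q (Ne.symm hq), if_neg hq, add_zero]
      by_cases h2 : p.1 = q.1
      · rw [if_pos h2, if_pos h2.symm, mul_one]
      · rw [if_neg h2, if_neg (Ne.symm h2), mul_zero]
  rw [Finset.sum_congr rfl fun q _ => h1 q, Finset.sum_add_distrib]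
  congr 1
  · rw [Fintype.sum_prod_type, Finset.sum_eq_single p.1]
    · exact Finset.sum_congr rfl fun x _ => if_pos rfl
    · intro i _ hi
      exact Finset.sum_eq_zero fun x _ => if_neg hi
    · intro hn
      exact absurd (Finset.mem_univ _) hn
  · rw [Finset.sum_ite_eq']
    simp

/-- every even function is a value -/
theorem surj_ph (y : Fin k → Fin (2 ^ m + 1) → ZMod 2) (hy : ∀ i, ∑ x, y i x = 0) :
    ∀ i x, ph f β i x (∑ q : Fin k × Fin (2 ^ m), y q.1 q.2.succ • c (β q)) = y i x := by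
  intro i
  have h0 : ∑ x : Fin (2 ^ m), y i x.succ = y i 0 := by
    have h1 := hy i
    rw [Fin.sum_univ_succ] at h1
    exact (v_eq_of_add h1).symm
  have hc : ∀ x, f (β (i, x)) (∑ q : Fin k × Fin (2 ^ m), y q.1 q.2.succ • c (β q)) =
      y i 0 + y i x.succ := by
    intro x
    have h1 := en.f_comb h (fun q => y q.1 q.2.succ) (i, x)
    rw [← h0]
    exact h1
  have h1 : ∑ x : Fin (2 ^ m), f (β (i, x))
      (∑ q : Fin k × Fin (2 ^ m), y q.1 q.2.succ • c (β q)) = y i 0 := by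
    rw [Finset.sum_congr rfl fun x _ => hc x,
      Finset.sum_add_distrib, Finset.sum_const, Finset.card_univ, Fintype.card_fin, nsmul_eq_mul,
      en.pow_zero2, zero_mul, zero_add, h0]
  intro x
  refine Fin.cases ?_ (fun x => ?_) x
  · rw [ph_zero, h1]
  · rw [ph_succ, h1, hc, add_right_comm, z2_add_self, zero_add]

omit h [Finite H] in
/-- the common kernel -/
theorem ph_ker (v : V) : (∀ i x, ph f β i x v = 0) ↔ ∀ b ∈ E, b ∉ M → f b v = 0 := by
  constructor
  · intro h1 b hb hbM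
    obtain ⟨⟨i, x⟩, rfl⟩ := en.surj b hb hbM
    have h2 := h1 i 0
    have h3 := h1 i x.succ
    rw [ph_zero] at h2
    rw [ph_succ, h2, add_zero] at h3
    exact h3
  · intro h1 i x
    have h2 : ∀ p, f (β p) v = 0 := fun p => h1 _ (en.mem p) (en.notM p)
    refine Fin.cases ?_ (fun x => ?_) x
    · rw [ph_zero]
      exact Finset.sum_eq_zero fun y _ => h2 _
    · rw [ph_succ, h2, zero_add]
      exact Finset.sum_eq_zero fun y _ => h2 _

/-- the action of the members of `Δ` -/
theorem acts_b (p : Fin k × Fin (2 ^ m)) :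
    Acts ρ (ph f β) (β p) 1 (msg p.1 (Equiv.swap 0 p.2.succ)) := by
  obtain ⟨j, y⟩ := p
  intro v i x
  show ph f β i (msg j (Equiv.swap 0 y.succ) i x) (ρ (β (j, y)) v) = ph f β i x v
  have hf : ∀ (q : Fin k × Fin (2 ^ m)), f (β q) (ρ (β (j, y)) v) =
      f (β q) v + f (β (j, y)) v * f (β q) (c (β (j, y))) := by
    intro q
    rw [h.act (en.mem _), map_add, map_smul, smul_eq_mul]
  by_cases hij : i = j
  · subst hij
    rw [show msg i (Equiv.swap 0 y.succ) i = Equiv.swap 0 y.succ from Pi.mulSingle_eq_same _ _]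
    have hs : ∑ z, f (β (i, z)) (ρ (β (i, y)) v) = ∑ z, f (β (i, z)) v + f (β (i, y)) v := by
      have h1 : ∀ z, f (β (i, z)) (ρ (β (i, y)) v) =
          f (β (i, z)) v + (f (β (i, y)) v + if z = y then f (β (i, y)) v else 0) := by
        intro z
        rw [hf]
        by_cases hz : z = y
        · subst hz
          rw [h.pself (en.mem _), mul_zero, if_pos rfl, z2_add_self]
        · rw [en.adj_iff _ _ (by simpa using hz), if_pos rfl, mul_one, if_neg hz, add_zero]
      rw [Finset.sum_congr rfl fun z _ => h1 z, Finset.sum_add_distrib, Finset.sum_add_distrib,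
        Finset.sum_const, Finset.card_univ, Fintype.card_fin, nsmul_eq_mul, en.pow_zero2, zero_mul,
        zero_add, Finset.sum_ite_eq']
      simp
    refine Fin.cases ?_ (fun x => ?_) x
    · rw [Equiv.swap_apply_left, ph_succ, ph_zero, hs, hf, h.pself (en.mem _), mul_zero, add_zero,
        add_comm (f (β (i, y)) v), add_assoc, z2_add_self, add_zero]
    · by_cases hx : x = y
      · subst hx
        rw [Equiv.swap_apply_right, ph_zero, ph_succ, hs, add_comm]
      · rw [Equiv.swap_apply_of_ne_of_ne (Fin.succ_ne_zero x)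
          (fun h0 => hx (Fin.succ_injective _ h0)), ph_succ, ph_succ, hs, hf,
          en.adj_iff _ _ (by simpa using hx), if_pos rfl, mul_one]
        have := z2_add_self (f (β (i, y)) v)
        calc f (β (i, x)) v + f (β (i, y)) v + (∑ z, f (β (i, z)) v + f (β (i, y)) v)
            = f (β (i, x)) v + ∑ z, f (β (i, z)) v + (f (β (i, y)) v + f (β (i, y)) v) := by ring
          _ = _ := by rw [this, add_zero]
  · rw [show msg j (Equiv.swap 0 y.succ) i = 1 from Pi.mulSingle_eq_of_ne hij _]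
    have h1 : ∀ z, f (β (i, z)) (ρ (β (j, y)) v) = f (β (i, z)) v := by
      intro z
      rw [hf, en.adj_iff _ _ (by
        intro h0
        exact hij (congrArg Prod.fst h0)), if_neg hij, mul_zero, add_zero]
    refine Fin.cases ?_ (fun x => ?_) x
    · show ph f β i 0 _ = _
      rw [ph_zero, ph_zero, Finset.sum_congr rfl fun z _ => h1 z]
    · show ph f β i x.succ _ = _
      rw [ph_succ, ph_succ, h1, Finset.sum_congr rfl fun z _ => h1 z]

/-- distinct points have distinct functionals -/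
theorem ph_inj {i j : Fin k} {x y : Fin (2 ^ m + 1)} (hxy : ∀ v, ph f β i x v = ph f β j y v) :
    i = j ∧ x = y := by
  classical
  have hge := en.pow_ge
  by_cases hij : i = j
  · subst hij
    refine ⟨rfl, ?_⟩
    by_contra hne
    -- a third point
    obtain ⟨z, hz⟩ : ∃ z : Fin (2 ^ m + 1), z ∉ ({x, y} : Finset (Fin (2 ^ m + 1))) := by
      by_contra hcon
      push Not at hcon
      have h1 : (Finset.univ : Finset (Fin (2 ^ m + 1))) ⊆ {x, y} := fun z _ => hcon z
      have h2 := Finset.card_le_card h1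
      have h3 : ({x, y} : Finset (Fin (2 ^ m + 1))).card ≤ 2 := Finset.card_le_two
      rw [Finset.card_univ, Fintype.card_fin] at h2
      omega
    rw [Finset.mem_insert, Finset.mem_singleton, not_or] at hz
    let w : Fin k → Fin (2 ^ m + 1) → ZMod 2 := fun a => if a = i then
      (Pi.single x 1 + Pi.single z 1 : Fin (2 ^ m + 1) → ZMod 2) else 0
    have hw : ∀ a, ∑ t, w a t = 0 := by
      intro a
      by_cases ha : a = i
      · show ∑ t, (if a = i then (Pi.single x 1 + Pi.single z 1 : Fin (2 ^ m + 1) → ZMod 2)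
          else 0) t = 0
        rw [if_pos ha]
        simp only [Pi.add_apply, Finset.sum_add_distrib, Finset.sum_pi_single', Finset.mem_univ,
          if_true]
        exact z2_add_self 1
      · show ∑ t, (if a = i then (Pi.single x 1 + Pi.single z 1 : Fin (2 ^ m + 1) → ZMod 2)
          else 0) t = 0
        rw [if_neg ha]
        simp
    have h1 := en.surj_ph h w hw i x
    have h2 := en.surj_ph h w hw i y
    rw [hxy, h2] at h1
    have h3 : w i y = (Pi.single x 1 + Pi.single z 1 : Fin (2 ^ m + 1) → ZMod 2) y := by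
      show (if i = i then _ else _ : Fin (2 ^ m + 1) → ZMod 2) y = _
      rw [if_pos rfl]
    have h4 : w i x = (Pi.single x 1 + Pi.single z 1 : Fin (2 ^ m + 1) → ZMod 2) x := by
      show (if i = i then _ else _ : Fin (2 ^ m + 1) → ZMod 2) x = _
      rw [if_pos rfl]
    rw [h3, h4, Pi.add_apply, Pi.add_apply, Pi.single_eq_same,
      Pi.single_eq_of_ne (Ne.symm hne), Pi.single_eq_of_ne (Ne.symm hz.2),
      Pi.single_eq_of_ne (Ne.symm hz.1), add_zero, add_zero] at h1
    exact zero_ne_one h1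
  · exfalso
    obtain ⟨z, hz⟩ : ∃ z : Fin (2 ^ m + 1), z ≠ x := by
      by_cases hx : x = 0
      · refine ⟨Fin.last _, ?_⟩
        rw [hx]
        intro h0
        have := congrArg Fin.val h0
        simp at this
      · exact ⟨0, Ne.symm hx⟩
    let w : Fin k → Fin (2 ^ m + 1) → ZMod 2 := fun a => if a = i then
      (Pi.single x 1 + Pi.single z 1 : Fin (2 ^ m + 1) → ZMod 2) else 0
    have hw : ∀ a, ∑ t, w a t = 0 := by
      intro a
      by_cases ha : a = i
      · show ∑ t, (if a = i then (Pi.single x 1 + Pi.single z 1 : Fin (2 ^ m + 1) → ZMod 2)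
          else 0) t = 0
        rw [if_pos ha]
        simp only [Pi.add_apply, Finset.sum_add_distrib, Finset.sum_pi_single', Finset.mem_univ,
          if_true]
        exact z2_add_self 1
      · show ∑ t, (if a = i then (Pi.single x 1 + Pi.single z 1 : Fin (2 ^ m + 1) → ZMod 2)
          else 0) t = 0
        rw [if_neg ha]
        simp
    have h1 := en.surj_ph h w hw i x
    have h2 := en.surj_ph h w hw j y
    rw [hxy, h2] at h1
    have h3 : w j y = 0 := by
      show (if j = i then _ else _ : Fin (2 ^ m + 1) → ZMod 2) y = _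
      rw [if_neg (Ne.symm hij)]; rfl
    have h4 : w i x = (Pi.single x 1 + Pi.single z 1 : Fin (2 ^ m + 1) → ZMod 2) x := by
      show (if i = i then _ else _ : Fin (2 ^ m + 1) → ZMod 2) x = _
      rw [if_pos rfl]
    rw [h3, h4, Pi.add_apply, Pi.single_eq_same, Pi.single_eq_of_ne (Ne.symm hz), add_zero] at h1
    exact zero_ne_one h1

theorem acts_unique {g : H} {σ σ' : Equiv.Perm (Fin k)}
    {τ τ' : Fin k → Equiv.Perm (Fin (2 ^ m + 1))} (h1 : Acts ρ (ph f β) g σ τ)
    (h2 : Acts ρ (ph f β) g σ' τ') : σ = σ' ∧ τ = τ' := by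
  have key : ∀ i x, σ i = σ' i ∧ τ i x = τ' i x := by
    intro i x
    apply en.ph_inj h
    intro v
    have e1 := h1 (ρ g⁻¹ v) i x
    have e2 := h2 (ρ g⁻¹ v) i x
    rw [rinv'] at e1 e2
    rw [e1, e2]
  refine ⟨Equiv.ext fun i => (key i 0).1, funext fun i => Equiv.ext fun x => (key i x).2⟩

/-- the action of `T` on the points -/
theorem acts_T {t : H} (ht : t ∈ T) : ∃ (σ : Equiv.Perm (Fin k))
    (τ : Fin k → Equiv.Perm (Fin (2 ^ m + 1))), Acts ρ (ph f β) t σ τ ∧ (∀ i, τ i 0 = 0) ∧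
      ∀ i x y, t * β (i, x) * t⁻¹ = β (σ i, y) ↔ τ i x.succ = y.succ := by
  classical
  -- the permutation of the indices
  have hex : ∀ p, ∃ q, β q = t * β p * t⁻¹ := fun p =>
    en.surj _ (h.conj _ (en.mem p) t) (conj_notM (en.notM p) (h.TM ht))
  choose π hπ using hex
  have hπi : Function.Injective π := by
    intro p q hpq
    have h1 : t * β p * t⁻¹ = t * β q * t⁻¹ := by rw [← hπ, ← hπ, hpq]
    exact en.inj (by simpa using h1)
  have hπc : ∀ p q, p.1 = q.1 ↔ (π p).1 = (π q).1 := by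
    intro p q
    by_cases hpq : p = q
    · rw [hpq]; simp
    · have h1 : f (β (π p)) (c (β (π q))) = f (β p) (c (β q)) := by
        rw [hπ, hπ, h.p_conj (en.mem p) (en.mem q)]
      have h2 := en.adj p q
      have h3 := en.adj (π p) (π q)
      rw [h1] at h3
      constructor
      · intro h4
        exact (h3.mp (h2.mpr ⟨hpq, h4⟩)).2
      · intro h4
        exact (h2.mp (h3.mpr ⟨fun h5 => hpq (hπi h5), h4⟩)).2
  have hpos : 0 < 2 ^ m := Nat.pos_of_ne_zero (by positivity)
  let z0 : Fin (2 ^ m) := ⟨0, hpos⟩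
  have hσi : Function.Injective fun i => (π (i, z0)).1 := by
    intro i j hij
    exact (hπc (i, z0) (j, z0)).mpr hij
  let σ : Equiv.Perm (Fin k) := Equiv.ofBijective _ (Finite.injective_iff_bijective.mp hσi)
  have hσ : ∀ i x, (π (i, x)).1 = σ i := fun i x => (hπc (i, x) (i, z0)).mp rfl
  have hτi : ∀ i, Function.Injective fun x => (π (i, x)).2 := by
    intro i x y hxy
    have h1 : π (i, x) = π (i, y) := Prod.ext (by rw [hσ, hσ]) hxy
    exact congrArg Prod.snd (hπi h1)
  let τ' : Fin k → Equiv.Perm (Fin (2 ^ m)) := fun i =>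
    Equiv.ofBijective _ (Finite.injective_iff_bijective.mp (hτi i))
  have hτ' : ∀ i x, π (i, x) = (σ i, τ' i x) := fun i x => Prod.ext (hσ i x) rfl
  let τ : Fin k → Equiv.Perm (Fin (2 ^ m + 1)) := fun i =>
    Equiv.Perm.decomposeFin.symm (0, τ' i)
  have hτ0 : ∀ i, τ i 0 = 0 := fun i => Equiv.Perm.decomposeFin_symm_apply_zero 0 (τ' i)
  have hτs : ∀ i x, τ i x.succ = (τ' i x).succ := fun i x => by
    rw [show τ i = Equiv.Perm.decomposeFin.symm (0, τ' i) from rfl,
      Equiv.Perm.decomposeFin_symm_apply_succ, Equiv.swap_self]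
    rfl
  refine ⟨σ, τ, ?_, hτ0, ?_⟩
  · intro v i x
    have hf : ∀ x, f (β (σ i, τ' i x)) (ρ t v) = f (β (i, x)) v := by
      intro x
      rw [← hτ', hπ, h.f_conj (en.mem _), rinv]
    have hs : ∑ y, f (β (σ i, y)) (ρ t v) = ∑ y, f (β (i, y)) v := by
      rw [← Equiv.sum_comp (τ' i)]
      exact Finset.sum_congr rfl fun x _ => hf x
    refine Fin.cases ?_ (fun x => ?_) x
    · rw [hτ0, ph_zero, ph_zero, hs]
    · rw [hτs, ph_succ, ph_succ, hs, hf]
  · intro i x y
    rw [hτs]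
    constructor
    · intro h1
      have h2 : π (i, x) = (σ i, y) := en.inj (by rw [hπ, h1])
      rw [hτ'] at h2
      have h3 : τ' i x = y := (Prod.ext_iff.mp h2).2
      rw [h3]
    · intro h1
      have h2 : τ' i x = y := Fin.succ_injective _ h1
      rw [← hπ, hτ', h2]

/-- every element of `H` acts on the points -/
theorem acts_exists (g : H) : ∃ (σ : Equiv.Perm (Fin k))
    (τ : Fin k → Equiv.Perm (Fin (2 ^ m + 1))), Acts ρ (ph f β) g σ τ := by
  let L : Subgroup H :=
    { carrier := {g | ∃ (σ : Equiv.Perm (Fin k)) (τ : Fin k → Equiv.Perm (Fin (2 ^ m + 1))),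
        Acts ρ (ph f β) g σ τ}
      one_mem' := ⟨1, 1, Acts.one⟩
      mul_mem' := by
        rintro a b ⟨σ, τ, h1⟩ ⟨σ', τ', h2⟩
        exact ⟨_, _, h1.mul h2⟩
      inv_mem' := by
        rintro a ⟨σ, τ, h1⟩
        exact ⟨_, _, h1.inv⟩ }
  have hle : closure (E \ (M : Set H)) ⊔ (T : Subgroup H) ≤ L := by
    refine sup_le ((closure_le _).mpr ?_) ?_
    · rintro b ⟨hb, hbM⟩
      obtain ⟨p, rfl⟩ := en.surj b hb hbM
      exact ⟨_, _, en.acts_b h p⟩
    · intro t ht
      obtain ⟨σ, τ, h1, -⟩ := en.acts_T h ht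
      exact ⟨σ, τ, h1⟩
  rw [h.sup_T] at hle
  exact hle (mem_top g)

/-- `⟨Δ⟩` induces all `(τ_i)` -/
theorem acts_lift (τ : Fin k → Equiv.Perm (Fin (2 ^ m + 1))) :
    ∃ g ∈ closure E, Acts ρ (ph f β) g 1 τ := by
  classical
  let L : Subgroup (Fin k → Equiv.Perm (Fin (2 ^ m + 1))) :=
    { carrier := {τ | ∃ g ∈ closure E, Acts ρ (ph f β) g 1 τ}
      one_mem' := ⟨1, one_mem _, Acts.one⟩
      mul_mem' := by
        rintro a b ⟨g, hg, h1⟩ ⟨g', hg', h2⟩
        exact ⟨g * g', mul_mem hg hg', h1.mul1 h2⟩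
      inv_mem' := by
        rintro a ⟨g, hg, h1⟩
        exact ⟨g⁻¹, inv_mem hg, h1.inv1⟩ }
  have hst : ∀ i (y : Fin (2 ^ m)), msg i (Equiv.swap 0 y.succ) ∈ L := fun i y =>
    ⟨β (i, y), subset_closure (en.mem _), en.acts_b h (i, y)⟩
  have hst' : ∀ i (y : Fin (2 ^ m + 1)), msg i (Equiv.swap 0 y) ∈ L := by
    intro i y
    refine Fin.cases ?_ (fun y => hst i y) y
    rw [Equiv.swap_self]
    have : msg i (Equiv.refl (Fin (2 ^ m + 1))) = 1 := Pi.mulSingle_one i
    rw [this]
    exact one_mem L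
  have hsw : ∀ i (x y : Fin (2 ^ m + 1)), x ≠ y → msg i (Equiv.swap x y) ∈ L := by
    intro i x y hxy
    by_cases hx : x = 0
    · rw [hx]; exact hst' i y
    by_cases hy : y = 0
    · rw [hy, Equiv.swap_comm]; exact hst' i x
    have h1 : Equiv.swap 0 x * Equiv.swap 0 y * Equiv.swap 0 x = Equiv.swap x y := by
      rw [Equiv.swap_comm 0 y]
      exact Equiv.swap_mul_swap_mul_swap (x := y) (y := 0) (z := x) hy (Ne.symm hxy)
    rw [← h1]
    have h2 : ∀ a b : Equiv.Perm (Fin (2 ^ m + 1)), msg i (a * b) = msg i a * msg i b :=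
      fun a b => (MonoidHom.mulSingle (fun _ : Fin k => Equiv.Perm (Fin (2 ^ m + 1))) i).map_mul a b
    rw [h2, h2]
    exact mul_mem (mul_mem (hst' i x) (hst' i y)) (hst' i x)
  have hall : ∀ i (π : Equiv.Perm (Fin (2 ^ m + 1))), msg i π ∈ L := by
    intro i π
    have h1 : (⊤ : Subgroup (Equiv.Perm (Fin (2 ^ m + 1)))) ≤
        L.comap (MonoidHom.mulSingle (fun _ : Fin k => Equiv.Perm (Fin (2 ^ m + 1))) i) := by
      rw [← Equiv.Perm.closure_isSwap, closure_le]
      rintro _ ⟨x, y, hxy, rfl⟩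
      exact hsw i x y hxy
    exact h1 (mem_top π)
  exact Subgroup.pi_mem_of_mulSingle_mem (H := L) τ fun i => hall i _

omit [Finite H] in
/-- `⟨E⟩` fixes the common kernel -/
theorem fix_ker [Finite H] {g : H} (hg : g ∈ closure E) {v : V} (hv : ∀ i x, ph f β i x v = 0) :
    ρ g v = v := by
  rw [← h.closureD] at hg
  have hle : closure (E \ (M : Set H)) ≤ stv ρ v := (closure_le _).mpr (by
    rintro b ⟨hb, hbM⟩
    show ρ b v = v
    rw [h.act hb, (en.ph_ker v).mp hv b hb hbM, zero_smul, add_zero])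
  exact hle hg

/-- `H` acts faithfully on the points -/
theorem acts_faithful {g : H} (h1 : Acts ρ (ph f β) g 1 1) : g = 1 := by
  have h0 : ∀ v i x, ph f β i x (ρ g v) = ph f β i x v := h1
  have hf : ∀ p v, f (β p) (ρ g v) = f (β p) v := by
    rintro ⟨i, x⟩ v
    have e1 := h0 v i x.succ
    have e2 := h0 v i 0
    rw [ph_zero, ph_zero] at e2
    rw [ph_succ, ph_succ, e2] at e1
    exact add_right_cancel e1
  apply h.eq_one_of_commD
  intro b hb hbM
  obtain ⟨p, rfl⟩ := en.surj b hb hbM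
  have h2 : g * β p * g⁻¹ = β p := by
    apply h.eq_of_p _ (h.conj _ hb g) _ hb
    intro z hz
    rw [h.sym z hz _ (h.conj _ hb g), h.sym z hz _ hb, h.f_conj hb, ← hf p (ρ g⁻¹ (c z)), rinv']
  exact mul_inv_eq_iff_eq_mul.mp h2

end Enum

end Cfsg.Agent.Omega.Tv

end

section


/-!
# The transvection half of the FF-theorem for minimal parabolics: offenders, continued

helper670, OMEGA / FF.

`Out.off_mem`: an offender `A ≤ T` contains each transvection `e ∈ E ∩ T` occurring in a member of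
`A`; `Enum.off_acts`: the same on the points.
-/

set_option autoImplicit false
set_option linter.unusedSectionVars false

namespace Cfsg.Agent.Omega.Tv

open Subgroup Cfsg

variable {H : Type*} [Group H] {V : Type*} [AddCommGroup V] [Module (ZMod 2) V]
  {ρ : H →* (V ≃ₗ[ZMod 2] V)} {E : Set H} {c : H → V} {f : H → V →ₗ[ZMod 2] ZMod 2}
  {T : Sylow 2 H} {M : Subgroup H}

namespace Out

variable [Finite H] (h : Out ρ E c f T M)

include h

/-- `σ(a) = σ(b)` implies `a = b` -/
theorem sg_eq {a b : H} (ha : a ∈ T) (hb : b ∈ T) (hX : ∀ e : XT E T, a * e * a⁻¹ = e)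
    (hX' : ∀ e : XT E T, b * e * b⁻¹ = e) (hab : h.sg a = h.sg b) : a = b := by
  have hXi : ∀ e : XT E T, b⁻¹ * e * b⁻¹⁻¹ = e := by
    intro e
    have h1 := hX' e
    rw [mul_inv_eq_iff_eq_mul] at h1
    rw [inv_inv, mul_assoc, ← h1, inv_mul_cancel_left]
  have h1 : a * b⁻¹ = 1 := by
    apply h.sg_inj (mul_mem ha (invT hb))
    · intro e
      have : a * b⁻¹ * e * (a * b⁻¹)⁻¹ = a * (b⁻¹ * e * b⁻¹⁻¹) * a⁻¹ := by group
      rw [this, hXi, hX]
    · rw [h.sg_mul ha (invT hb) hX hXi]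
      have h2 : h.sg (b * b⁻¹) = h.sg b + h.sg b⁻¹ := h.sg_mul hb (invT hb) hX' hXi
      have h3 : h.sg (b * b⁻¹) = 0 := by
        ext e
        show f (h.bb e) (ρ (b * b⁻¹) (c (h.bb e))) = 0
        rw [mul_inv_cancel, rone, h.pself (h.bbE e)]
      rw [hab, ← h2, h3]
  exact mul_inv_eq_one.mp h1

theorem off_mem {A : Subgroup H} (hA : A ≤ (T : Subgroup H))
    (hab : ∀ a ∈ A, ∀ b ∈ A, a * b = b * a) [Finite V]
    (hle : Nat.card V ≤ Nat.card A * Nat.card (cv ρ A)) {a : H} (ha : a ∈ A) {e : XT E T}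
    (he : h.sg a e = 1) : (e : H) ∈ A := by
  classical
  have : Fintype (XT E T) := Fintype.ofFinite _
  have hJ := h.off_eq hA hab hle
  have hX : ∀ a ∈ A, ∀ e : XT E T, a * e * a⁻¹ = e := fun a ha e => h.J0_comm (hJ ha) e
  let S : Set (XT E T) := {e | ∃ a ∈ A, h.sg a e = 1}
  let R := XT E T → ZMod 2
  let RS : AddSubgroup R :=
    { carrier := {r | ∀ e, e ∉ S → r e = 0}
      zero_mem' := fun _ _ => rfl
      add_mem' := fun {r s} hr hs e he => by rw [Pi.add_apply, hr e he, hs e he, add_zero]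
      neg_mem' := fun {r} hr e he => by rw [Pi.neg_apply, hr e he, neg_zero] }
  let R' : AddSubgroup R :=
    { carrier := {r | ∀ e, e ∈ S → r e = 0}
      zero_mem' := fun _ _ => rfl
      add_mem' := fun {r s} hr hs e he => by rw [Pi.add_apply, hr e he, hs e he, add_zero]
      neg_mem' := fun {r} hr e he => by rw [Pi.neg_apply, hr e he, neg_zero] }
  have c1 : Nat.card RS * Nat.card R' ≤ Nat.card R := by
    let F : RS × R' → R := fun p => (p.1 : R) + p.2
    have hF : Function.Injective F := by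
      rintro ⟨⟨r, hr⟩, ⟨s, hs⟩⟩ ⟨⟨r', hr'⟩, ⟨s', hs'⟩⟩ heq
      have h1 : r + s = r' + s' := heq
      have h2 : r = r' := by
        ext e
        by_cases heS : e ∈ S
        · have h3 := congrFun h1 e
          rw [Pi.add_apply, Pi.add_apply, hs e heS, hs' e heS, add_zero, add_zero] at h3
          exact h3
        · rw [hr e heS, hr' e heS]
      subst h2
      have h3 : s = s' := add_left_cancel h1
      subst h3
      rfl
    have := Nat.card_le_card_of_injective F hF
    rwa [Nat.card_prod] at this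
  -- the image of C_V(A)
  have hPh : (cv ρ A).map (Phi E T f) ≤ R' := by
    rintro _ ⟨v, hv, rfl⟩ e ⟨a, ha, hae⟩
    have haT := hA ha
    have h2 := h.act_b (e := e) haT (hX a ha e) (h.bbE e) (h.bbM e) (h.bb1 e)
    rcases h.a_bb haT (hX a ha e) (h.bbE e) (h.bbM e) (h.bb1 e) with h3 | h3
    · exfalso
      rw [← h.c_conj (h.bbE e), h3, hae, one_smul] at h2
      exact (h.tr e e.2.1).c_ne (by simpa using h2.symm)
    · have h4 : f (a * h.bb e * a⁻¹) v = f (h.bb e) v := by
        rw [h.f_conj (h.bbE e), hv _ (inv_mem ha)]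
      rw [h3, h.f_conj' (h.bbE e) e.2.1, h.bb1, mul_one] at h4
      show f e v = 0
      simpa using h4
  have t1 : Nat.card V = Nat.card R * Nat.card (Phi E T f).ker := by
    rw [card_hom (Phi E T f), AddMonoidHom.range_eq_top.mpr h.Phi_surj,
      Nat.card_congr AddSubgroup.topEquiv.toEquiv]
  have t2 : Nat.card (cv ρ A) ≤ Nat.card R' * Nat.card (Phi E T f).ker := by
    have h1 := card_hom ((Phi E T f).comp (cv ρ A).subtype)
    rw [h1]
    refine Nat.mul_le_mul ?_ ?_
    · apply AddSubgroup.card_le_of_le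
      rintro _ ⟨v, rfl⟩
      exact hPh ⟨v, v.2, rfl⟩
    · refine Nat.card_le_card_of_injective (fun v => (⟨((v : cv ρ A) : V), v.2⟩ :
        (Phi E T f).ker)) ?_
      intro v w hvw
      have h2 : ((v : cv ρ A) : V) = ((w : cv ρ A) : V) :=
        congrArg (fun z : (Phi E T f).ker => (z : V)) hvw
      exact Subtype.ext (Subtype.ext h2)
  have hK0 : 0 < Nat.card (Phi E T f).ker := Nat.card_pos
  have hR0 : 0 < Nat.card R' := Nat.card_pos
  have c2 : Nat.card R ≤ Nat.card A * Nat.card R' := by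
    have h1 : Nat.card R * Nat.card (Phi E T f).ker ≤
        Nat.card A * Nat.card R' * Nat.card (Phi E T f).ker := by
      calc _ = Nat.card V := t1.symm
        _ ≤ Nat.card A * Nat.card (cv ρ A) := hle
        _ ≤ Nat.card A * (Nat.card R' * Nat.card (Phi E T f).ker) := Nat.mul_le_mul_left _ t2
        _ = _ := by ring
    exact Nat.le_of_mul_le_mul_right h1 hK0
  have c3 : Nat.card RS ≤ Nat.card A := Nat.le_of_mul_le_mul_right (c1.trans c2) hR0
  let g : A → RS := fun a => ⟨h.sg (a : H), fun e he => by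
    rcases z2 (h.sg (a : H) e) with h1 | h1
    · exact h1
    · exact absurd ⟨a, a.2, h1⟩ he⟩
  have hg : Function.Injective g := by
    intro x y hxy
    exact Subtype.ext (h.sg_eq (hA x.2) (hA y.2) (hX x x.2) (hX y y.2)
      (congrArg Subtype.val hxy))
  have hgb := hg.bijective_of_nat_card_le c3
  obtain ⟨x, hx⟩ := hgb.2 ⟨Pi.single e 1, fun e' he' => by
    rw [Pi.single_eq_of_ne]
    rintro rfl
    exact he' ⟨a, ha, he⟩⟩
  have h1 : h.sg (x : H) = Pi.single e 1 := congrArg Subtype.val hx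
  have h2 : (x : H) = e := by
    apply h.sg_eq (hA x.2) e.2.2 (hX x x.2) (h.X_comm e)
    rw [h1, h.sg_X]
  rw [← h2]
  exact x.2

end Out

namespace Enum

variable {k m : ℕ} {β : Fin k × Fin (2 ^ m) → H} (en : Enum E c f M k m β) [Finite H]
  (h : Out ρ E c f T M)

include en h

/-- An offender acts on the points as a product of transpositions which it contains. -/
theorem off_acts {A : Subgroup H} (hA : A ≤ (T : Subgroup H))
    (hab : ∀ a ∈ A, ∀ b ∈ A, a * b = b * a) [Finite V]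
    (hle : Nat.card V ≤ Nat.card A * Nat.card (Out.cv ρ A)) {a : H} (ha : a ∈ A) :
    ∃ τ : Fin k → Equiv.Perm (Fin (2 ^ m + 1)), Acts ρ (ph f β) a 1 τ ∧
      ∀ i x, τ i x ≠ x → τ i (τ i x) = x ∧ ∃ b ∈ A, Acts ρ (ph f β) b 1
        (msg i (Equiv.swap x (τ i x))) := by
  have hJ := h.off_eq hA hab hle
  have hX : ∀ e : XT E T, a * e * a⁻¹ = e := fun e => h.J0_comm (hJ ha) e
  obtain ⟨σ, τ, h1, h0, hs⟩ := en.acts_T h (hA ha)
  -- for each point `β (i,x)`
  have key : ∀ i x, ∃ e : XT E T, f (β (i, x)) (c (e : H)) = 1 ∧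
      (a * β (i, x) * a⁻¹ = β (i, x) ∨ (a * β (i, x) * a⁻¹ = e * β (i, x) * (e : H)⁻¹ ∧
        h.sg a e = 1)) := by
    intro i x
    obtain ⟨e, he, heT, h2⟩ := h.adj _ (en.mem (i, x)) (en.notM (i, x))
    refine ⟨⟨e, he, heT⟩, h2, ?_⟩
    rcases h.a_bb (e := ⟨e, he, heT⟩) (hA ha) (hX _) (en.mem _) (en.notM _) h2 with h3 | h3
    · exact Or.inl h3
    · right
      refine ⟨h3, ?_⟩
      have h4 := h.act_b (e := ⟨e, he, heT⟩) (hA ha) (hX _) (en.mem _) (en.notM _) h2
      have h5 : f e (c (β (i, x))) = 1 := by rw [h.sym e he _ (en.mem _), h2]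
      rw [← h.c_conj (en.mem _), h3, h.c_conj' (en.mem _) he, h5] at h4
      have h6 := add_left_cancel h4
      rcases z2 (h.sg a ⟨e, he, heT⟩) with h7 | h7
      · rw [h7, one_smul, zero_smul] at h6
        exact absurd h6 (h.tr e he).c_ne
      · exact h7
  have hstep : ∀ i x, ∃ y, a * β (i, x) * a⁻¹ = β (i, y) := by
    intro i x
    obtain ⟨e, h2, h3 | ⟨h3, -⟩⟩ := key i x
    · exact ⟨x, h3⟩
    · have h4 := h.conj _ (en.mem (i, x)) e
      have h5 := conj_notM (en.notM (i, x)) (h.TM e.2.2)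
      obtain ⟨⟨j, y⟩, hq⟩ := en.surj _ h4 h5
      have h6 : f (β (i, x)) (c (β (j, y))) = 1 := by
        rw [hq, h.c_conj' (en.mem _) e.2.1, map_add, map_smul, h.pself (en.mem _), h2,
          h.sym e e.2.1 _ (en.mem _), h2, zero_add, smul_eq_mul, mul_one]
      have h7 := ((en.adj _ _).mp h6).2
      have h8 : i = j := h7
      subst h8
      exact ⟨y, by rw [h3, hq]⟩
  have hσ : σ = 1 := by
    ext1 i
    have hpos : 0 < 2 ^ m := Nat.pos_of_ne_zero (by positivity)
    obtain ⟨y, hy⟩ := hstep i ⟨0, hpos⟩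
    -- compare with `β (σ i, _)`
    have hex : ∃ z, τ i (Fin.succ ⟨0, hpos⟩) = Fin.succ z := by
      rcases Fin.eq_zero_or_eq_succ (τ i (Fin.succ ⟨0, hpos⟩)) with h2 | ⟨z, h2⟩
      · exfalso
        have h3 : Fin.succ ⟨0, hpos⟩ = (0 : Fin (2 ^ m + 1)) := (τ i).injective (by rw [h2, h0])
        exact Fin.succ_ne_zero _ h3
      · exact ⟨z, h2⟩
    obtain ⟨z, hz⟩ := hex
    have h2 := (hs i ⟨0, hpos⟩ z).mpr hz
    rw [hy] at h2
    have h3 := congrArg Prod.fst (en.inj h2)
    exact h3.symm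
  subst hσ
  refine ⟨τ, h1, ?_⟩
  intro i x hne
  rcases Fin.eq_zero_or_eq_succ x with rfl | ⟨x, rfl⟩
  · exact absurd (h0 i) hne
  obtain ⟨y, hy⟩ := hstep i x
  have hτ : τ i x.succ = y.succ := (hs i x y).mp hy
  obtain ⟨e, h2, h3 | ⟨h3, h4⟩⟩ := key i x
  · exfalso
    apply hne
    exact (hs i x x).mp h3
  · have heA := h.off_mem hA hab hle ha h4
    have h5 : f e (c (β (i, x))) = 1 := by rw [h.sym e e.2.1 _ (en.mem _), h2]
    -- `e = b d b⁻¹`
    have hd : β (i, y) = e * β (i, x) * (e : H)⁻¹ := by rw [← hy, h3]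
    have hcd : c (β (i, y)) = c (β (i, x)) + c e := by
      rw [hd, h.c_conj' (en.mem _) e.2.1, h5, one_smul]
    have hbd : f (β (i, x)) (c (β (i, y))) = 1 := by
      rw [hcd, map_add, h.pself (en.mem _), h2, zero_add]
    have he : (e : H) = β (i, x) * β (i, y) * (β (i, x))⁻¹ := by
      apply h.eq_of_p _ e.2.1 _ (h.conj _ (en.mem _) _)
      intro z _
      rw [h.c_conj' (en.mem _) (en.mem _), hbd, one_smul, hcd, add_right_comm, v_add_self,
        zero_add]
    have hacts : Acts ρ (ph f β) e 1 (msg i (Equiv.swap x.succ y.succ)) := by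
      have hb := en.acts_b h (i, x)
      have hd := en.acts_b h (i, y)
      have h6 := (hb.mul1 hd).mul1 hb.inv1
      rw [← he] at h6
      have h7 : msg i (Equiv.swap 0 x.succ) * msg i (Equiv.swap 0 y.succ) *
          (msg i (Equiv.swap 0 x.succ))⁻¹ = msg i (Equiv.swap x.succ y.succ) := by
        have h8 : Equiv.swap 0 x.succ * Equiv.swap 0 y.succ * Equiv.swap 0 x.succ =
            Equiv.swap x.succ y.succ := by
          rw [Equiv.swap_comm 0 y.succ]
          refine Equiv.swap_mul_swap_mul_swap (x := y.succ) (y := 0) (z := x.succ)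
            (Fin.succ_ne_zero y) ?_
          intro h9
          apply hne
          rw [hτ, h9]
        have hmul : ∀ a b : Equiv.Perm (Fin (2 ^ m + 1)), msg i (a * b) = msg i a * msg i b :=
          fun a b => (MonoidHom.mulSingle (fun _ : Fin k => Equiv.Perm (Fin (2 ^ m + 1))) i).map_mul
            a b
        have hinv : (msg i (Equiv.swap 0 x.succ))⁻¹ = msg i (Equiv.swap 0 x.succ) := by
          rw [inv_eq_iff_mul_eq_one, ← hmul, Equiv.swap_mul_self]
          exact Pi.mulSingle_one i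
        rw [hinv, ← hmul, ← hmul, h8]
      rw [← h7]
      exact h6
    refine ⟨?_, e, heA, ?_⟩
    · rw [hτ]
      apply (hs i y x).mp
      have h9 : a * β (i, y) * a⁻¹ = e * (a * β (i, x) * a⁻¹) * (e : H)⁻¹ := by
        have h10 := hX e
        rw [mul_inv_eq_iff_eq_mul] at h10
        rw [hd]
        calc a * (e * β (i, x) * (e : H)⁻¹) * a⁻¹ = (a * e) * β (i, x) * ((a * e))⁻¹ := by group
          _ = (e * a) * β (i, x) * (e * a)⁻¹ := by rw [h10]
          _ = _ := by group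
      show a * β (i, y) * a⁻¹ = β ((1 : Equiv.Perm (Fin k)) i, x)
      rw [h9, h3]
      have h11 : (e : H) * (e * β (i, x) * (e : H)⁻¹) * (e : H)⁻¹ =
          ((e : H) * e) * β (i, x) * ((e : H) * e)⁻¹ := by group
      rw [h11, h.sq e.2.1, inv_one, one_mul, mul_one]
      rfl
    · rw [hτ]
      exact hacts

end Enum

end Cfsg.Agent.Omega.Tv

end

section


/-!
# The transvection half of the FF-theorem for minimal parabolics: reduction to the faithful case

helper670, OMEGA / FF.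

`RHyp ρ₀ S M`: `ρ₀` is a representation of `X` over `𝔽₂`, `S` a Sylow 2-subgroup of `X` in a unique
maximal subgroup `M`, `O_2(X) ≤ ker ρ₀` and `(ker ρ₀) S ≠ X`.  Then the image of `ρ₀` satisfies
`Pre` as soon as some `t` acts as a transvection.
-/

set_option autoImplicit false
set_option linter.unusedSectionVars false

namespace Cfsg.Agent.Omega.Tv

open Subgroup Cfsg Cfsg.Agent.MinSimple.MinParabolic

variable {X : Type*} [Group X] {W : Type*} [AddCommGroup W] [Module (ZMod 2) W]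

/-- The hypothesis for a representation which is not faithful. -/
structure RHyp (ρ0 : X →* (W ≃ₗ[ZMod 2] W)) (S : Sylow 2 X) (M : Subgroup X) : Prop where
  min : IsMin (S : Subgroup X) M
  ker : pCore 2 X ≤ ρ0.ker
  ne : ρ0.ker ⊔ (S : Subgroup X) ≠ ⊤

namespace RHyp

variable {ρ0 : X →* (W ≃ₗ[ZMod 2] W)} {S : Sylow 2 X} {M : Subgroup X}

instance finite_range [Finite X] : Finite ρ0.range :=
  Finite.of_surjective _ ρ0.rangeRestrict_surjective

/-- the faithful representation of the image -/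
abbrev rg (ρ0 : X →* (W ≃ₗ[ZMod 2] W)) : ρ0.range →* (W ≃ₗ[ZMod 2] W) := ρ0.range.subtype

/-- the Sylow subgroup of the image -/
def Sb [Finite X] (ρ0 : X →* (W ≃ₗ[ZMod 2] W)) (S : Sylow 2 X) : Sylow 2 ρ0.range :=
  S.mapSurjective ρ0.rangeRestrict_surjective

/-- the maximal subgroup of the image -/
def Mb (ρ0 : X →* (W ≃ₗ[ZMod 2] W)) (M : Subgroup X) : Subgroup ρ0.range :=
  M.map ρ0.rangeRestrict

variable [Finite X] (h : RHyp ρ0 S M)

include h

theorem S_ne : (S : Subgroup X) ≠ ⊤ := by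
  intro h1
  apply h.ne
  rw [h1, sup_top_eq]

theorem SM : (S : Subgroup X) ≤ M := h.min.le_of _ le_rfl h.S_ne

theorem kerM : ρ0.ker ≤ M := le_sup_left.trans (h.min.le_of _ le_sup_right h.ne)

theorem comap_Mb : (Mb ρ0 M).comap ρ0.rangeRestrict = M := by
  unfold Mb
  rw [Subgroup.comap_map_eq, MonoidHom.ker_rangeRestrict]
  exact sup_eq_left.mpr h.kerM

omit h in
theorem mem_Sb {x : X} (hx : x ∈ S) : ρ0.rangeRestrict x ∈ Sb ρ0 S := ⟨x, hx, rfl⟩

theorem pCore_bot : pCore 2 ρ0.range = ⊥ := by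
  set R := pCore 2 ρ0.range with hR
  have hRn : R.Normal := Lib.Cores.pCore_normal 2
  set N := R.comap ρ0.rangeRestrict with hN
  have hNn : N.Normal := hRn.comap _
  have hRS : R ≤ (Sb ρ0 S : Subgroup ρ0.range) := Lib.Cores.pCore_le_sylow _
  have h1 : N ⊔ (S : Subgroup X) ≠ ⊤ := by
    intro htop
    apply h.ne
    rw [← top_le_iff, ← htop]
    refine sup_le ?_ le_sup_right
    intro x hx
    obtain ⟨s, hs, hsx⟩ := hRS hx
    have h2 : x * s⁻¹ ∈ ρ0.ker := by
      rw [MonoidHom.mem_ker, map_mul, map_inv]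
      have h3 : ρ0 s = ρ0 x := congrArg Subtype.val hsx
      rw [h3, mul_inv_cancel]
    have h4 : x = (x * s⁻¹) * s := by group
    rw [h4]
    exact mul_mem ((le_sup_left : ρ0.ker ≤ _) h2) ((le_sup_right : (S : Subgroup X) ≤ _) hs)
  have h2 : (S : Subgroup X) ⊓ N ≤ pCore 2 X := (sup_eq_top_or_inf_le h.min N).resolve_left h1
  rw [eq_bot_iff]
  intro y hy
  obtain ⟨s, hs, rfl⟩ := hRS hy
  have h3 : s ∈ ρ0.ker := h.ker (h2 ⟨hs, hy⟩)
  rw [mem_bot]
  exact Subtype.ext h3

theorem Mb_ne : Mb ρ0 M ≠ ⊤ := by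
  intro h1
  apply h.min.ne_top
  rw [← h.comap_Mb, h1, comap_top]

theorem uniq_b (K : Subgroup ρ0.range) (hK : (Sb ρ0 S : Subgroup ρ0.range) ≤ K) (hne : K ≠ ⊤) :
    K ≤ Mb ρ0 M := by
  have h1 : (S : Subgroup X) ≤ K.comap ρ0.rangeRestrict := fun x hx => hK (mem_Sb hx)
  have h2 : K.comap ρ0.rangeRestrict ≠ ⊤ := by
    intro h3
    apply hne
    rw [← Subgroup.map_comap_eq_self_of_surjective ρ0.rangeRestrict_surjective K, h3,
      Subgroup.map_top_of_surjective _ ρ0.rangeRestrict_surjective]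
  have h3 := h.min.le_of _ h1 h2
  have h4 := Subgroup.map_mono (f := ρ0.rangeRestrict) h3
  rwa [Subgroup.map_comap_eq_self_of_surjective ρ0.rangeRestrict_surjective] at h4

theorem exists_pre {t : X} {c0 : W} {f0 : W →ₗ[ZMod 2] ZMod 2} (ht : IsTr ρ0 t c0 f0) :
    ∃ (E : Set ρ0.range) (c : ρ0.range → W) (f : ρ0.range → W →ₗ[ZMod 2] ZMod 2),
      Pre (rg ρ0) E c f (Sb ρ0 S) (Mb ρ0 M) ∧ ρ0.rangeRestrict t ∈ E := by
  classical
  set tb := ρ0.rangeRestrict t with htb
  have htb1 : IsTr (rg ρ0) tb c0 f0 := ⟨ht.fc, ht.c_ne, ht.f_ne, ht.act⟩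
  let E : Set ρ0.range := {g | ∃ x, g = x * tb * x⁻¹}
  have hex : ∀ g : ρ0.range, ∃ p : W × (W →ₗ[ZMod 2] ZMod 2), g ∈ E →
      IsTr (rg ρ0) g p.1 p.2 := by
    intro g
    by_cases hg : g ∈ E
    · obtain ⟨x, rfl⟩ := hg
      exact ⟨(_, _), fun _ => htb1.conj x⟩
    · exact ⟨(0, 0), fun h1 => absurd h1 hg⟩
  choose p hp using hex
  refine ⟨E, fun g => (p g).1, fun g => (p g).2, ?_, ⟨1, by simp⟩⟩
  exact
    { tr := fun x hx => hp x hx
      conj := by
        rintro _ ⟨x, rfl⟩ g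
        exact ⟨g * x, by group⟩
      tra := by
        rintro _ ⟨x, rfl⟩ _ ⟨y, rfl⟩
        exact ⟨y * x⁻¹, by group⟩
      ne := ⟨tb, 1, by simp⟩
      inj := ρ0.range.subtype_injective
      TM := by
        rintro _ ⟨x, hx, rfl⟩
        exact ⟨x, h.SM hx, rfl⟩
      M_ne := h.Mb_ne
      uniq := h.uniq_b
      o2 := h.pCore_bot }

end RHyp

/-! ### An elementary abelian 2-subgroup as a module -/

section VA

variable {G : Type*} [Group G]

/-- The elementary abelian 2-subgroup `V`, written additively. -/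
def VA (V : Subgroup G) (_ : IsElementaryAbelian 2 V) : Type _ := Additive V

variable {V : Subgroup G} {hV : IsElementaryAbelian 2 V}

noncomputable instance : AddCommGroup (VA V hV) :=
  { (inferInstance : AddGroup (Additive V)) with
    add_comm := fun a b => by
      have := hV.1
      exact (mul_comm' (a.toMul : V) (b.toMul : V) : _) }

theorem VA.two (v : VA V hV) : 2 • v = 0 := by
  rw [two_nsmul]
  have h1 : (Additive.toMul (v : Additive V)) * (Additive.toMul (v : Additive V)) = (1 : V) :=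
    Subtype.ext (by
      show ((Additive.toMul (v : Additive V) : V) : G) * ((Additive.toMul (v : Additive V) : V) : G) = 1
      rw [← pow_two]
      exact hV.2 _ (Additive.toMul (v : Additive V)).2)
  exact h1

noncomputable instance : Module (ZMod 2) (VA V hV) :=
  AddCommGroup.zmodModule (n := 2) VA.two

instance [Finite G] : Finite (VA V hV) := (inferInstance : Finite V)

/-- the element of `G` -/
def VA.val (v : VA V hV) : G := ((Additive.toMul (v : Additive V) : V) : G)

/-- an element of `V` -/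
def VA.mk (hV : IsElementaryAbelian 2 V) (v : G) (h : v ∈ V) : VA V hV :=
  Additive.ofMul (⟨v, h⟩ : V)

theorem VA.val_mem (v : VA V hV) : v.val ∈ V := (Additive.toMul (v : Additive V)).2

theorem VA.val_mk {v : G} (h : v ∈ V) : (VA.mk hV v h).val = v := rfl

theorem VA.mk_val (v : VA V hV) : VA.mk hV v.val v.val_mem = v := rfl

theorem VA.ext {v w : VA V hV} (h : v.val = w.val) : v = w := Subtype.ext h

theorem VA.val_add (v w : VA V hV) : (v + w).val = v.val * w.val := rfl

theorem VA.val_zero : (0 : VA V hV).val = 1 := rfl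

theorem VA.mk_mul {v w : G} (hv : v ∈ V) (hw : w ∈ V) :
    VA.mk hV (v * w) (mul_mem hv hw) = VA.mk hV v hv + VA.mk hV w hw := rfl

variable {H : Subgroup G} (hn : ∀ h ∈ H, ∀ v ∈ V, h * v * h⁻¹ ∈ V)

/-- the action of `H` on `V` -/
noncomputable def endV (hV : IsElementaryAbelian 2 V) (hn : ∀ h ∈ H, ∀ v ∈ V, h * v * h⁻¹ ∈ V) :
    H →* Module.End (ZMod 2) (VA V hV) where
  toFun h := AddMonoidHom.toZModLinearMap 2
    { toFun := fun v => VA.mk hV ((h : G) * v.val * (h : G)⁻¹) (hn h h.2 _ v.val_mem)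
      map_zero' := VA.ext (by
        show (h : G) * 1 * (h : G)⁻¹ = 1
        simp)
      map_add' := fun v w => VA.ext (by
        show (h : G) * (v.val * w.val) * (h : G)⁻¹ =
          ((h : G) * v.val * (h : G)⁻¹) * ((h : G) * w.val * (h : G)⁻¹)
        group) }
  map_one' := by
    ext v
    apply VA.ext
    show (1 : G) * v.val * (1 : G)⁻¹ = v.val
    simp
  map_mul' g h := by
    ext v
    apply VA.ext
    show ((g : G) * h) * v.val * ((g : G) * h)⁻¹ = g * (h * v.val * (h : G)⁻¹) * (g : G)⁻¹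
    group

/-- the action of `H` on `V` -/
noncomputable def rhoV (hV : IsElementaryAbelian 2 V)
    (hn : ∀ h ∈ H, ∀ v ∈ V, h * v * h⁻¹ ∈ V) : H →* (VA V hV ≃ₗ[ZMod 2] VA V hV) :=
  mkRho (endV hV hn)

theorem val_rhoV (h : H) (v : VA V hV) : (rhoV hV hn h v).val = h * v.val * (h : G)⁻¹ := rfl

theorem rhoV_mk {h : G} (hh : h ∈ H) {v : G} (hv : v ∈ V) :
    rhoV hV hn ⟨h, hh⟩ (VA.mk hV v hv) = VA.mk hV (h * v * h⁻¹) (hn h hh v hv) := rfl

theorem mem_ker_rhoV (h : H) : h ∈ (rhoV hV hn).ker ↔ (h : G) ∈ centralizer (V : Set G) := by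
  rw [MonoidHom.mem_ker, mem_centralizer_iff]
  constructor
  · intro h1 v hv
    have h2 : rhoV hV hn h (VA.mk hV v hv) = VA.mk hV v hv := by rw [h1]; rfl
    have h3 : (h : G) * v * (h : G)⁻¹ = v := congrArg VA.val h2
    exact (mul_inv_eq_iff_eq_mul.mp h3).symm
  · intro h1
    ext v
    apply VA.ext
    rw [val_rhoV]
    show (h : G) * v.val * (h : G)⁻¹ = v.val
    rw [mul_inv_eq_iff_eq_mul]
    exact (h1 _ v.val_mem).symm

end VA

/-- An element with `|W : C_W(t)| = 2` acts as a transvection. -/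
theorem isTr_of_card [Finite W] {ρ0 : X →* (W ≃ₗ[ZMod 2] W)} {t : X}
    (h : Nat.card W = 2 * Nat.card {v : W // ρ0 t v = v}) :
    ∃ (c : W) (f : W →ₗ[ZMod 2] ZMod 2), IsTr ρ0 t c f := by
  classical
  let φ : W →+ W := (AddMonoidHomClass.toAddMonoidHom (ρ0 t) : W →+ W) + AddMonoidHom.id W
  have hφ : ∀ v, φ v = ρ0 t v + v := fun v => rfl
  have hker : Nat.card φ.ker = Nat.card {v : W // ρ0 t v = v} := by
    refine Nat.card_congr (Equiv.subtypeEquivRight fun v => ?_)
    rw [AddMonoidHom.mem_ker, hφ]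
    exact ⟨fun h1 => v_eq_of_add h1, fun h1 => by rw [h1, v_add_self]⟩
  have hr : Nat.card φ.range = 2 := by
    have h1 := card_hom φ
    rw [h, hker] at h1
    have h2 : 0 < Nat.card {v : W // ρ0 t v = v} := by
      have : Nonempty {v : W // ρ0 t v = v} := ⟨⟨0, map_zero _⟩⟩
      exact Nat.card_pos
    exact (Nat.eq_of_mul_eq_mul_right h2 h1).symm
  -- the nonzero element
  obtain ⟨c, hc0⟩ : ∃ c : φ.range, c ≠ 0 := by
    by_contra hcon
    push Not at hcon
    have : Subsingleton φ.range := ⟨fun a b => by rw [hcon a, hcon b]⟩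
    rw [Nat.card_unique] at hr
    omega
  have hall : ∀ v, φ v = 0 ∨ φ v = c := by
    intro v
    by_contra hcon
    push Not at hcon
    let F : Fin 3 → φ.range := ![0, c, ⟨φ v, v, rfl⟩]
    have hF : Function.Injective F := by
      intro a b hab
      fin_cases a <;> fin_cases b
      · rfl
      · exact absurd hab.symm hc0
      · exact absurd (congrArg Subtype.val hab).symm hcon.1
      · exact absurd hab hc0
      · rfl
      · exact absurd (congrArg Subtype.val hab).symm hcon.2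
      · exact absurd (congrArg Subtype.val hab) hcon.1
      · exact absurd (congrArg Subtype.val hab) hcon.2
      · rfl
    have := Nat.card_le_card_of_injective F hF
    rw [hr, Nat.card_eq_fintype_card, Fintype.card_fin] at this
    omega
  have hc0' : (c : W) ≠ 0 := fun h1 => hc0 (Subtype.ext h1)
  have hfix : ρ0 t c = c := by
    have h1 := hall c
    rw [hφ] at h1
    rcases h1 with h1 | h1
    · exact v_eq_of_add h1
    · exfalso
      have h2 : ρ0 t c = 0 := by
        have : ρ0 t (c : W) + c + c = (c : W) + c := by rw [h1]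
        rwa [add_assoc, v_add_self, add_zero] at this
      exact hc0' ((ρ0 t).map_eq_zero_iff.mp h2)
  let g : W → ZMod 2 := fun v => if φ v = 0 then 0 else 1
  have hg : ∀ v, φ v = g v • (c : W) := by
    intro v
    rcases hall v with h1 | h1
    · have : g v = 0 := if_pos h1
      rw [this, zero_smul, h1]
    · have : g v = 1 := if_neg (by rw [h1]; exact hc0')
      rw [this, one_smul, h1]
  have hinj : ∀ a b : ZMod 2, a • (c : W) = b • (c : W) → a = b := by
    intro a b hab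
    rcases z2 a with h1 | h1 <;> rcases z2 b with h2 | h2
    · rw [h1, h2]
    · rw [h1, h2, zero_smul, one_smul] at hab; exact absurd hab.symm hc0'
    · rw [h1, h2, zero_smul, one_smul] at hab; exact absurd hab hc0'
    · rw [h1, h2]
  let ga : W →+ ZMod 2 :=
    { toFun := g
      map_zero' := if_pos (map_zero φ)
      map_add' := fun v w => hinj _ _ (by rw [← hg, map_add, hg, hg, add_smul]) }
  refine ⟨c, AddMonoidHom.toZModLinearMap 2 ga, ?_, hc0', ?_, ?_⟩
  · show g c = 0
    apply hinj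
    rw [← hg, hφ, hfix, v_add_self, zero_smul]
  · intro h1
    obtain ⟨v, hv⟩ := c.2
    have h2 : g v = 0 := by
      have : AddMonoidHom.toZModLinearMap 2 ga v = 0 := by rw [h1]; rfl
      exact this
    have h3 := hg v
    rw [h2, zero_smul, hv] at h3
    exact hc0' h3
  · intro v
    show ρ0 t v = v + g v • (c : W)
    rw [← hg, hφ, add_comm (ρ0 t v), ← add_assoc, v_add_self, zero_add]

end Cfsg.Agent.Omega.Tv

end

section


/-!
# OMEGA N6, #18920 (helper605) (3): the transvection part of the KEY LEMMA  (helper537)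

`two_of` : `X` a minimal parabolic over its Sylow 2-subgroup `S` acting on the `F_2`-module `W`, `O₂(X)` trivial on `W`,
`t ∈ S` a transvection with centre `c0`, `c0` fixed by `S`, `W` spanned by the conjugates of `c0`. Then every `s ∈ S`
acts on `W` as `1` or as `t`.
-/

set_option autoImplicit false
set_option linter.unusedSectionVars false

namespace Cfsg.Agent.Omega.NSix.HT.KeyRep

open Subgroup Cfsg Cfsg.Agent.MinSimple.MinParabolic Cfsg.Agent.Omega.Tv

variable {X : Type*} [Group X] [Finite X] {W : Type*} [AddCommGroup W] [Module (ZMod 2) W]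
  {ρ0 : X →* (W ≃ₗ[ZMod 2] W)} {S : Sylow 2 X} {M : Subgroup X}

theorem two_of (h : RHyp ρ0 S M) {t : X} (ht : t ∈ S) {c0 : W} {f0 : W →ₗ[ZMod 2] ZMod 2}
    (htr : IsTr ρ0 t c0 f0) (hfix : ∀ s ∈ S, ρ0 s c0 = c0)
    (hspan : Submodule.span (ZMod 2) (Set.range fun x => ρ0 x c0) = ⊤) {s : X} (hs : s ∈ S) :
    (∀ w, ρ0 s w = w) ∨ ∀ w, ρ0 s w = ρ0 t w := by
  obtain ⟨E, c, f, hp, htE⟩ := h.exists_pre htr
  have o := hp.out
  set tb := ρ0.rangeRestrict t with htb
  have htS : tb ∈ RHyp.Sb ρ0 S := RHyp.mem_Sb ht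
  have hfixb : ∀ g : ρ0.range, g ∈ RHyp.Sb ρ0 S → RHyp.rg ρ0 g c0 = c0 := by
    rintro _ ⟨x, hx, rfl⟩
    exact hfix x hx
  have hct : c tb = c0 := (o.tr tb htE).c_unique ⟨htr.fc, htr.c_ne, htr.f_ne, htr.act⟩
  -- `t` is the only member of `E ∩ T`
  have h1 : ∀ e ∈ E, e ∈ RHyp.Sb ρ0 S → e = tb := by
    intro e he heS
    obtain ⟨g, hg, rfl⟩ := o.transT tb htE htS e he heS
    refine o.eq_of_p _ he _ htE fun z _ => ?_
    rw [o.c_conj htE, hct, hfixb g hg]
  have htM : tb ∈ RHyp.Mb ρ0 M := o.TM htS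
  have h2 : ∀ b ∈ E, b ∉ RHyp.Mb ρ0 M → f b (c tb) = 1 := by
    intro b hb hbM
    obtain ⟨e, he, heS, h3⟩ := o.adj b hb hbM
    rwa [h1 e he heS] at h3
  obtain ⟨b, hb, hbM⟩ := o.exists_not_mem
  have h3 : ∀ d ∈ E, d ∉ RHyp.Mb ρ0 M → d = b ∨ d = tb * b * tb⁻¹ := fun d hd hdM =>
    o.eq_or_conj b hb hbM d hd hdM tb htE htM (h2 b hb hbM) (h2 d hd hdM)
  -- an element of `T` which commutes with `b` is trivial
  have key : ∀ g : ρ0.range, g ∈ RHyp.Sb ρ0 S → g * b * g⁻¹ = b → ∀ w, RHyp.rg ρ0 g w = w := by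
    intro g hg hgb
    have hgM : g ∈ RHyp.Mb ρ0 M := o.TM hg
    have hcom : ∀ d ∈ E \ (RHyp.Mb ρ0 M : Set ρ0.range), g * d = d * g := by
      rintro d ⟨hd, hdM⟩
      rw [← mul_inv_eq_iff_eq_mul]
      rcases h3 d hd hdM with h4 | h4
      · rw [h4, hgb]
      · rcases h3 _ (o.conj d hd g) (conj_notM hdM hgM) with h5 | h5
        · have h6 : d = b := by
            rw [← hgb] at h5
            exact mul_left_cancel (mul_right_cancel h5)
          rw [h6, hgb]
        · rw [h5, h4]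
    have hcl : ∀ d ∈ closure (E \ (RHyp.Mb ρ0 M : Set ρ0.range)), g * d = d * g := by
      intro d hd
      have h4 : closure (E \ (RHyp.Mb ρ0 M : Set ρ0.range)) ≤ centralizer {g} := by
        rw [closure_le]
        intro d hd
        rw [SetLike.mem_coe, mem_centralizer_singleton_iff]
        exact (hcom d hd).symm
      exact (mem_centralizer_singleton_iff.1 (h4 hd)).symm
    have hDn := o.normalD
    have hfx : ∀ x : X, RHyp.rg ρ0 g (ρ0 x c0) = ρ0 x c0 := by
      intro x
      have h4 : ρ0.rangeRestrict x ∈ closure (E \ (RHyp.Mb ρ0 M : Set ρ0.range)) ⊔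
          (RHyp.Sb ρ0 S : Subgroup ρ0.range) := by
        rw [o.sup_T]; exact mem_top _
      obtain ⟨d, hd, s', hs', e⟩ := mem_sup_of_normal_left.1 h4
      have h5 : ρ0 x c0 = RHyp.rg ρ0 d c0 := by
        change RHyp.rg ρ0 (ρ0.rangeRestrict x) c0 = _
        rw [← e, rmul, hfixb s' hs']
      rw [h5, ← rmul, hcl d hd, rmul, hfixb g hg]
    intro w
    have h4 : w ∈ Submodule.span (ZMod 2) (Set.range fun x => ρ0 x c0) := by
      rw [hspan]; exact Submodule.mem_top
    induction h4 using Submodule.span_induction with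
    | mem x hx =>
      obtain ⟨x, rfl⟩ := hx
      exact hfx x
    | zero => exact map_zero _
    | add x y _ _ hx hy => rw [map_add, hx, hy]
    | smul a x _ hx => rw [map_smul, hx]
  have hsS : ρ0.rangeRestrict s ∈ RHyp.Sb ρ0 S := RHyp.mem_Sb hs
  have hsM : ρ0.rangeRestrict s ∈ RHyp.Mb ρ0 M := o.TM hsS
  rcases h3 _ (o.conj b hb (ρ0.rangeRestrict s)) (conj_notM hbM hsM) with h4 | h4
  · left
    exact key _ hsS h4
  · right
    have h5 := key (tb⁻¹ * ρ0.rangeRestrict s)
      ((RHyp.Sb ρ0 S : Subgroup ρ0.range).mul_mem ((RHyp.Sb ρ0 S : Subgroup ρ0.range).inv_mem htS) hsS) (by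
      calc tb⁻¹ * ρ0.rangeRestrict s * b * (tb⁻¹ * ρ0.rangeRestrict s)⁻¹
          = tb⁻¹ * (ρ0.rangeRestrict s * b * (ρ0.rangeRestrict s)⁻¹) * tb := by group
        _ = b := by rw [h4]; group)
    intro w
    have h6 := h5 w
    rw [rmul] at h6
    have h7 := congrArg (RHyp.rg ρ0 tb) h6
    rw [rinv'] at h7
    exact h7

end Cfsg.Agent.Omega.NSix.HT.KeyRep

end
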